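import Groth.Agent.Sga3B.MT.NormB

/-!
# The adjoint root datum, and automorphisms of the root lattice permuting the roots
-/

set_option autoImplicit false

open RootPairing Module

namespace Groth.Agent.Sga3B.MT.AdRoot

open Groth.Agent.Sga3A.Weyl Groth.Agent.Sga3B.MT.Cox Groth.Agent.Sga3B.MT.NormB

variable {ι M N : Type*} [AddCommGroup M] [AddCommGroup N] {P : RootPairing ι ℤ M N}

/-- A coroot as a linear form on the root lattice. -/
noncomputable def cor (P : RootPairing ι ℤ M N) (i : ι) : Dual ℤ (P.rootSpan ℤ) :=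
  (P.coroot' i) ∘ₗ (P.rootSpan ℤ).subtype

theorem cor_apply (i : ι) (v : P.rootSpan ℤ) : cor P i v = P.coroot' i (v : M) := rfl

theorem cor_injective [Finite ι] (b : P.Base) : Function.Injective (cor P) := by
  intro i j h
  apply P.coroot.injective
  rw [← sub_eq_zero]
  refine eq_zero_of_coroot b.flip (v := P.coroot i - P.coroot j) ?_ ?_
  · exact Submodule.sub_mem _ (Submodule.subset_span ⟨i, rfl⟩) (Submodule.subset_span ⟨j, rfl⟩)
  · intro a _
    have h1 := LinearMap.congr_fun h (P.rootSpanMem ℤ a)
    rw [cor_apply, cor_apply, rootSpanMem_val] at h1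
    change P.toLinearMap (P.root a) (P.coroot i - P.coroot j) = 0
    rw [map_sub, sub_eq_zero]
    exact h1

/-- The adjoint root datum. -/
noncomputable def ad [Finite ι] (b : P.Base) : RootPairing ι ℤ (P.rootSpan ℤ) (Dual ℤ (P.rootSpan ℤ)) :=
  haveI : Module.Free ℤ (P.rootSpan ℤ) := Module.Free.of_basis b.toWeightBasisInt
  haveI : Module.Finite ℤ (P.rootSpan ℤ) := Module.Finite.of_basis b.toWeightBasisInt
  { toLinearMap := Dual.eval ℤ (P.rootSpan ℤ)
    isPerfPair_toLinearMap := inferInstance
    root := ⟨P.rootSpanMem ℤ, fun i j h => P.root.injective (congrArg Subtype.val h)⟩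
    coroot := ⟨cor P, cor_injective b⟩
    root_coroot_two := fun i => P.root_coroot_two i
    reflectionPerm := P.reflectionPerm
    reflectionPerm_root := fun i j => Subtype.ext (P.reflectionPerm_root i j)
    reflectionPerm_coroot := fun i j => by
      ext v
      have h := congrArg (fun c => P.toLinearMap (v : M) c) (P.reflectionPerm_coroot i j)
      simp only [map_sub, map_smul] at h
      exact h }

variable [Finite ι] (b : P.Base)

theorem ad_root (i : ι) : (ad b).root i = P.rootSpanMem ℤ i := rfl

theorem ad_coroot (i : ι) : (ad b).coroot i = cor P i := rfl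

theorem ad_coroot' (i : ι) (v : P.rootSpan ℤ) : (ad b).coroot' i v = P.coroot' i (v : M) := rfl

instance [P.IsReduced] : (ad b).IsReduced where
  eq_or_eq_neg i j h := by
    have h1 : ¬ LinearIndependent ℤ ![P.root i, P.root j] := by
      intro h2
      apply h
      have h3 : ((P.rootSpan ℤ).subtype ∘ ![(ad b).root i, (ad b).root j]) = ![P.root i, P.root j] := by
        ext k; fin_cases k <;> rfl
      rw [← h3] at h2
      exact LinearIndependent.of_comp _ h2
    rcases IsReduced.eq_or_eq_neg i j h1 with h2 | h2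
    · left; exact Subtype.ext h2
    · right; exact Subtype.ext h2

theorem mem_closure_lift {X Y : Type*} [AddCommMonoid X] [AddCommMonoid Y] (f : X →+ Y) {s : Set X} {x : X}
    (h : x ∈ AddSubmonoid.closure s) : f x ∈ AddSubmonoid.closure (f '' s) := by
  rw [← AddMonoidHom.map_mclosure]
  exact ⟨x, h, rfl⟩

/-- The base of the adjoint root datum. -/
noncomputable def adBase : (ad b).Base where
  support := b.support
  linearIndepOn_root := b.linearIndependentInt
  linearIndepOn_coroot := by
    classical
    rw [LinearIndepOn, Fintype.linearIndependent_iff]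
    intro g hg i
    have h1 : ∑ j : b.support, g j • P.coroot j = 0 := by
      refine eq_zero_of_coroot b.flip (v := ∑ j : b.support, g j • P.coroot j) ?_ ?_
      · exact Submodule.sum_mem _ (fun j _ => Submodule.smul_mem _ _ (Submodule.subset_span ⟨j, rfl⟩))
      · intro a _
        have h2 := LinearMap.congr_fun hg (P.rootSpanMem ℤ a)
        rw [LinearMap.sum_apply] at h2
        change P.toLinearMap (P.root a) (∑ j : b.support, g j • P.coroot j) = 0
        rw [map_sum]
        refine Eq.trans (Finset.sum_congr rfl (fun j _ => ?_)) h2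
        rw [map_smul]
        rfl
    exact Fintype.linearIndependent_iff.1 b.linearIndepOn_coroot g h1 i
  root_mem_or_neg_mem i := by
    have key : ∀ v : P.rootSpan ℤ, (v : M) ∈ AddSubmonoid.closure (P.root '' b.support) →
        v ∈ AddSubmonoid.closure ((ad b).root '' b.support) := by
      intro v hv
      have h1 : AddSubmonoid.closure (P.root '' b.support) =
          (AddSubmonoid.closure ((ad b).root '' b.support)).map (P.rootSpan ℤ).subtype.toAddMonoidHom := by
        rw [AddMonoidHom.map_mclosure, ← Set.image_comp]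
        rfl
      rw [h1] at hv
      obtain ⟨u, hu, huv⟩ := hv
      obtain rfl : u = v := Subtype.ext huv
      exact hu
    rcases b.root_mem_or_neg_mem i with h | h
    · exact Or.inl (key _ h)
    · exact Or.inr (key (-(P.rootSpanMem ℤ i)) h)
  coroot_mem_or_neg_mem i := by
    let φ : N →ₗ[ℤ] Dual ℤ (P.rootSpan ℤ) :=
      { toFun := fun n => (P.toLinearMap.flip n) ∘ₗ (P.rootSpan ℤ).subtype
        map_add' := fun x y => by ext v; simp
        map_smul' := fun a x => by ext v; simp }
    have hφ : ∀ j, φ (P.coroot j) = (ad b).coroot j := fun j => rfl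
    have him : φ.toAddMonoidHom '' (P.coroot '' b.support) = (ad b).coroot '' b.support := by
      rw [← Set.image_comp]; rfl
    rcases b.coroot_mem_or_neg_mem i with h | h
    · left
      have := mem_closure_lift φ.toAddMonoidHom h
      rw [him] at this
      exact this
    · right
      have := mem_closure_lift φ.toAddMonoidHom h
      rw [him, map_neg] at this
      exact this

theorem span_root_ad : Submodule.span ℤ (Set.range (ad b).root) = ⊤ := by
  have h := P.rootSpan ℤ
  rw [Submodule.eq_top_iff']
  rintro ⟨x, hx⟩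
  rw [← SetLike.mem_coe, ← ((P.rootSpan ℤ).subtype_injective).mem_set_image, ← Submodule.map_coe,
    Submodule.map_span, ← Set.range_comp]
  exact hx

section Lift

variable (θ : P.rootSpan ℤ ≃ₗ[ℤ] P.rootSpan ℤ) (hθ : ∀ i, ∃ j, θ (P.rootSpanMem ℤ i) = P.rootSpanMem ℤ j)

/-- The permutation of the roots. -/
noncomputable def perm : ι ≃ ι :=
  Equiv.ofBijective (fun i => (hθ i).choose) (by
    apply Function.Injective.bijective_of_finite
    intro i j h
    have h1 := (hθ i).choose_spec
    have h2 := (hθ j).choose_spec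
    simp only at h
    rw [h, ← h2] at h1
    exact P.root.injective (congrArg Subtype.val (θ.injective h1)))

theorem perm_spec (i : ι) : θ (P.rootSpanMem ℤ i) = P.rootSpanMem ℤ (perm θ hθ i) := (hθ i).choose_spec

include b in
theorem coroot_comp (i : ι) : (cor P (perm θ hθ i)) ∘ₗ θ.toLinearMap = cor P i := by
  have hfin : (Set.range (ad b).root).Finite := Set.finite_range _
  have h2 : ∀ i, cor P i (P.rootSpanMem ℤ i) = 2 := fun i => P.root_coroot_two i
  have hmt : ∀ i, Set.MapsTo (preReflection (P.rootSpanMem ℤ i) (cor P i)) (Set.range (ad b).root)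
      (Set.range (ad b).root) := by
    rintro i _ ⟨j, rfl⟩
    exact ⟨P.reflectionPerm i j, ((ad b).reflectionPerm_root i j).symm⟩
  have : Module.Free ℤ (P.rootSpan ℤ) := Module.Free.of_basis b.toWeightBasisInt
  refine Dual.eq_of_preReflection_mapsTo (x := P.rootSpanMem ℤ i) hfin (span_root_ad b) ?_ ?_ (h2 i) (hmt i)
  · rw [LinearMap.comp_apply, LinearEquiv.coe_coe, perm_spec θ hθ, h2]
  · rintro _ ⟨j, rfl⟩
    obtain ⟨l, hl⟩ := hmt (perm θ hθ i) ⟨perm θ hθ j, rfl⟩
    refine ⟨(perm θ hθ).symm l, ?_⟩
    apply θ.injective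
    rw [ad_root, perm_spec θ hθ, Equiv.apply_symm_apply, ← ad_root b, hl]
    rw [preReflection_apply, preReflection_apply, map_sub, map_smul, ad_root, ad_root, perm_spec θ hθ,
      perm_spec θ hθ, LinearMap.comp_apply, LinearEquiv.coe_coe, perm_spec θ hθ]

/-- The automorphism of the adjoint root datum attached to an automorphism of the root lattice
permuting the roots. -/
noncomputable def aut : (ad b).Aut where
  weightMap := θ.toLinearMap
  coweightMap := θ.toLinearMap.dualMap
  indexEquiv := perm θ hθ
  weight_coweight_transpose := by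
    ext f v
    rfl
  root_weightMap := funext fun i => perm_spec θ hθ i
  coroot_coweightMap := by
    funext i
    have h := coroot_comp b θ hθ ((perm θ hθ).symm i)
    rw [Equiv.apply_symm_apply] at h
    exact h
  bijective_weightMap := θ.bijective
  bijective_coweightMap := by
    have h : θ.toLinearMap.dualMap = (θ.dualMap).toLinearMap := rfl
    rw [h]
    exact θ.dualMap.bijective

theorem aut_smul (v : P.rootSpan ℤ) : aut b θ hθ • v = θ v := rfl

end Lift

theorem exists_weyl {w : (ad b).Aut} (hw : w ∈ (ad b).weylGroup) :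
    ∃ w' ∈ P.weylGroup, ∀ v : P.rootSpan ℤ, act w' v = w • v := by
  rw [weylGroup] at hw
  refine Subgroup.closure_induction (p := fun w _ => ∃ w' ∈ P.weylGroup, ∀ v : P.rootSpan ℤ,
    act w' v = w • v) ?_ ?_ ?_ ?_ hw
  · rintro _ ⟨i, rfl⟩
    refine ⟨_, P.reflection_mem_weylGroup i, ?_⟩
    intro v
    apply Subtype.ext
    change Equiv.reflection P i • (v : M) = _
    rw [Equiv.reflection_smul, Equiv.reflection_smul, RootPairing.reflection_apply,
      RootPairing.reflection_apply]
    rfl
  · exact ⟨1, one_mem _, fun v => by rw [act_one, one_smul]⟩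
  · rintro x y _ _ ⟨x', hx', hx⟩ ⟨y', hy', hy⟩
    exact ⟨x' * y', mul_mem hx' hy', fun v => by rw [act_mul, hy, hx, mul_smul]⟩
  · rintro x _ ⟨x', hx', hx⟩
    refine ⟨x'⁻¹, inv_mem hx', fun v => ?_⟩
    have h1 : act x' (act x'⁻¹ v) = v := by rw [← act_mul, mul_inv_cancel, act_one]
    rw [hx] at h1
    rw [← h1, inv_smul_smul, h1]

include b in
/-- Serre: for every automorphism `θ` of the root lattice permuting the roots there are an element
`w` of the Weyl group and a regular element `y` with `y (w (θ v)) ^ q = y v`. -/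
theorem exists_y [P.IsReduced] (θ : P.rootSpan ℤ ≃ₗ[ℤ] P.rootSpan ℤ)
    (hθ : ∀ i, ∃ j, θ (P.rootSpanMem ℤ i) = P.rootSpanMem ℤ j)
    (k K : Type*) [Field k] [Finite k] [Field K] [IsAlgClosed K] [Algebra k K] :
    ∃ w ∈ P.weylGroup, ∃ y : P.rootSpan ℤ →+ K,
      (∀ v, y (act w (θ v)) ^ Nat.card k = y v) ∧ ∀ i, y (P.rootSpanMem ℤ i) ≠ 0 := by
  obtain ⟨w, hw, y, hy, hy'⟩ := NormB.exists_y (adBase b) (aut b θ hθ) k K
  obtain ⟨w', hw', h⟩ := exists_weyl b hw
  let j : P.rootSpan ℤ →+ (ad b).rootSpan ℤ :=
    { toFun := fun v => ⟨v, (Submodule.eq_top_iff'.1 (span_root_ad b) v :)⟩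
      map_zero' := rfl
      map_add' := fun _ _ => rfl }
  refine ⟨w', hw', y.comp j, ?_, ?_⟩
  · intro v
    have h1 : j (act w' (θ v)) = act (w * aut b θ hθ) (j v) := by
      apply Subtype.ext
      change act w' (θ v) = (w * aut b θ hθ) • v
      rw [h, mul_smul, aut_smul]
    rw [AddMonoidHom.comp_apply, h1]
    exact hy (j v)
  · intro i
    exact hy' i

end Groth.Agent.Sga3B.MT.AdRoot
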