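import Groth.Agent.Sga3B.MT.Defs2
import Mathlib.RingTheory.Smooth.Flat
import Mathlib.RingTheory.RingHom.FaithfullyFlat
import Mathlib.RingTheory.Flat.FaithfullyFlat.Algebra
import Mathlib.RingTheory.Flat.Localization
import Mathlib.RingTheory.Spectrum.Prime.Topology
import Mathlib.FieldTheory.IsAlgClosed.AlgebraicClosure

/-!
# Every point is, locally for the flat topology, a quotient of two points of the big cell

* `RCell.exists_cover`, `RCell.ext_infAut`.
-/

set_option autoImplicit false
set_option linter.unusedSectionVars false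
universe u

open TensorProduct TrivSqZeroExt
open Groth.Agent.Sga3B.Cell

namespace Groth.Agent.Sga3B.MT

namespace CoverAux

lemma eq_top_of_local {κ : Type u} [Finite κ] {L : κ → Type u} [∀ k, CommRing (L k)]
    (J : Ideal (∀ k, L k)) (h : ∀ k, ∃ x ∈ J, IsUnit (x k)) : J = ⊤ := by
  classical
  cases nonempty_fintype κ
  rw [Ideal.eq_top_iff_one]
  have h1 : (1 : ∀ k, L k) = ∑ k, Pi.single k (1 : L k) :=
    (Finset.univ_sum_single (1 : ∀ k, L k)).symm
  rw [h1]
  refine J.sum_mem fun k _ => ?_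
  obtain ⟨x, hx, hu⟩ := h k
  obtain ⟨y, hy⟩ := hu.exists_left_inv
  have : Pi.single k (1 : L k) = Pi.single k y * x := by
    funext j
    by_cases hj : j = k
    · subst hj; simp [hy]
    · simp [hj]
  rw [this]
  exact J.mul_mem_left _ hx

lemma flat_pi {κ : Type u} [Finite κ] (B : Type u) [CommRing B] (L : κ → Type u)
    [∀ k, AddCommGroup (L k)] [∀ k, Module B (L k)] [∀ k, Module.Flat B (L k)] :
    Module.Flat B (∀ k, L k) := by
  classical
  cases nonempty_fintype κ
  exact Module.Flat.of_linearEquiv (DFinsupp.linearEquivFunOnFintype (R := B) (M := L)).symm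

end CoverAux

variable {idx M : Type} [Fintype idx] [AddCommGroup M] [Module.Free ℤ M] [Module.Finite ℤ M]
variable {P : RootPairing idx ℤ M (Module.Dual ℤ M)} {b : P.Base}
    {R A B₀ : Type u} [CommRing R] [CommRing A] [Algebra R A] [CommRing B₀] [Algebra R B₀]
    [PtGrp R A]

lemma CoverAux.uu_zero (D : RCell P b R A B₀) (a : idx) {B : Type u} [CommRing B] [Algebra R B]
    (φ : B₀ →ₐ[R] B) : D.uu a φ 0 = 1 := by
  have h := D.uu_add a φ 0 0
  rw [add_zero] at h
  exact mul_eq_left.mp h.symm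

lemma CoverAux.isCell_one (D : RCell P b R A B₀) {B : Type u} [CommRing B] [Algebra R B]
    (φ : B₀ →ₐ[R] B) : D.IsCell φ 1 := by
  refine ⟨fun _ => 0, 1, ?_⟩
  rw [map_one, mul_one]
  symm
  apply List.prod_eq_one
  intro x hx
  obtain ⟨a, _, rfl⟩ := List.mem_map.mp hx
  exact CoverAux.uu_zero D a φ

/-- naturality of the ideal of the big cell -/
lemma CoverAux.map_evp_comp {B B' : Type u} [CommRing B] [Algebra R B] [CommRing B'] [Algebra R B']
    (I : Ideal (B₀ ⊗[R] A)) (φ : B₀ →ₐ[R] B) (g : Pt R A B) (ρ : B →ₐ[R] B') :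
    I.map (evp (ρ.comp φ) (Pt.map ρ g)).toRingHom = (I.map (evp φ g).toRingHom).map ρ.toRingHom := by
  rw [← comp_evp, Ideal.map_map]
  rfl

/-- the localisation data -/
theorem RCell.exists_cover (D : RCell P b R A B₀) [Algebra.Smooth R A] (hdom : GeomDom R A)
    {B : Type u} [CommRing B] [Algebra R B] (φ : B₀ →ₐ[R] B) (g : Pt R A B) :
    ∃ (B' : Type u) (_ : CommRing B') (_ : Algebra R B') (ψ : B →ₐ[R] B'),
      ψ.toRingHom.FaithfullyFlat ∧ ∃ c₁ c₂ : Pt R A B', D.IsCell (ψ.comp φ) c₁ ∧
        D.IsCell (ψ.comp φ) c₂ ∧ Pt.map ψ g * c₁ = c₂ := by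
  classical
  let E := B ⊗[R] A
  let c : B →ₐ[R] E := InfAut.cst R A B
  let u : Pt R A E := InfAut.univ R A B
  let v : Pt R A E := Pt.map c g * u
  let α : B₀ ⊗[R] A →ₐ[R] E := evp (c.comp φ) u
  let β : B₀ ⊗[R] A →ₐ[R] E := evp (c.comp φ) v
  obtain ⟨S, hS⟩ := D.cellIdeal_fg
  have hSmem : ∀ f : S, (f : B₀ ⊗[R] A) ∈ D.cellIdeal := fun f => by
    rw [← hS]; exact Ideal.subset_span f.2
  let s : S × S → E := fun k => α k.1 * β k.2
  let L : S × S → Type u := fun k => Localization.Away (s k)
  let ρ : E →ₐ[R] (∀ k, L k) := AlgHom.pi (fun k => IsScalarTower.toAlgHom R E (L k))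
  have hρ : ∀ (z : E) (k : S × S), ρ z k = algebraMap E (L k) z := fun z k => rfl
  have hunit : ∀ k : S × S, IsUnit (algebraMap E (L k) (s k)) := fun k =>
    IsLocalization.Away.algebraMap_isUnit (s k)
  have hunitα : ∀ k : S × S, IsUnit (ρ (α k.1) k) := fun k => by
    have := hunit k
    rw [map_mul] at this
    exact isUnit_of_mul_isUnit_left this
  have hunitβ : ∀ k : S × S, IsUnit (ρ (β k.2) k) := fun k => by
    have := hunit k
    rw [map_mul] at this
    exact isUnit_of_mul_isUnit_right this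
  refine ⟨∀ k, L k, inferInstance, inferInstance, ρ.comp c, ?_, Pt.map ρ u, Pt.map ρ v, ?_, ?_, ?_⟩
  · have hflat : Module.Flat B (∀ k, L k) := by
      have : ∀ k, Module.Flat B (L k) := fun k => by
        have h1 : Module.Flat B E := inferInstance
        have h2 : Module.Flat E (L k) := IsLocalization.flat (L k) (Submonoid.powers (s k))
        exact Module.Flat.trans B E (L k)
      exact CoverAux.flat_pi B L
    have hψ : (ρ.comp c).toRingHom = algebraMap B (∀ k, L k) := rfl
    rw [hψ, RingHom.faithfullyFlat_algebraMap_iff]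
    apply Module.FaithfullyFlat.of_comap_surjective
    intro p
    let K := AlgebraicClosure p.asIdeal.ResidueField
    let f : B →+* K := (algebraMap p.asIdeal.ResidueField K).comp (algebraMap B p.asIdeal.ResidueField)
    have hf : RingHom.ker f = p.asIdeal := by
      rw [← RingHom.comap_ker, (RingHom.injective_iff_ker_eq_bot _).mp
        (algebraMap p.asIdeal.ResidueField K).injective]
      exact Ideal.ker_algebraMap_residueField p.asIdeal
    let _ : Algebra R K := (f.comp (algebraMap R B)).toAlgebra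
    let fA : B →ₐ[R] K := { f with commutes' := fun r => rfl }
    have : IsDomain (K ⊗[R] A) := hdom K
    let θ : E →ₐ[R] K ⊗[R] A := Algebra.TensorProduct.map fA (AlgHom.id R A)
    have hθ : ∀ h : Pt R A K, (evp (AlgHom.id R K) h).comp θ = evp fA h := by
      intro h
      apply Algebra.TensorProduct.ext'
      intro x y
      simp [θ]
    -- α
    have hα : ∃ x : S, θ (α x) ≠ 0 := by
      by_contra hcon
      push Not at hcon
      have h1 := (D.isCell_iff (fA.comp φ) 1).mp (CoverAux.isCell_one D _)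
      have h2 : ∀ z ∈ D.cellIdeal, evp (fA.comp φ) (1 : Pt R A K) z = 0 := by
        intro z hz
        have e1 : evp (fA.comp φ) (1 : Pt R A K) z = (evp fA (1 : Pt R A K)) (α z) := by
          have := evp_comp_apply (evp fA (1 : Pt R A K)) (c.comp φ) u z
          have e0 : (evp fA (1 : Pt R A K)).comp (c.comp φ) = fA.comp φ := by
            rw [← AlgHom.comp_assoc, InfAut.evp_comp_cst]
          rw [InfAut.map_evp_univ, e0] at this
          exact this
        have e2 : θ (α z) = 0 := by
          have : D.cellIdeal ≤ RingHom.ker ((θ.comp α).toRingHom) := by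
            rw [← hS, Ideal.span_le]
            intro x hx
            exact hcon ⟨x, hx⟩
          exact this hz
        rw [e1, ← hθ, AlgHom.comp_apply, e2, map_zero]
      have h3 : D.cellIdeal.map (evp (fA.comp φ) (1 : Pt R A K)).toRingHom ≤ ⊥ := by
        rw [Ideal.map_le_iff_le_comap]
        intro z hz
        exact h2 z hz
      rw [h1] at h3
      exact bot_ne_top (le_bot_iff.mp h3).symm
    have hβ : ∃ x : S, θ (β x) ≠ 0 := by
      by_contra hcon
      push Not at hcon
      have h1 := (D.isCell_iff (fA.comp φ) 1).mp (CoverAux.isCell_one D _)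
      have h2 : ∀ z ∈ D.cellIdeal, evp (fA.comp φ) (1 : Pt R A K) z = 0 := by
        intro z hz
        have e1 : evp (fA.comp φ) (1 : Pt R A K) z = (evp fA ((Pt.map fA g)⁻¹ : Pt R A K)) (β z) := by
          have := evp_comp_apply (evp fA ((Pt.map fA g)⁻¹ : Pt R A K)) (c.comp φ) v z
          have e3 : Pt.map (evp fA ((Pt.map fA g)⁻¹ : Pt R A K)) v = 1 := by
            change Pt.map _ (Pt.map c g * u) = 1
            rw [Pt.map_mul, InfAut.map_evp_univ, Pt.map_map, InfAut.evp_comp_cst, mul_inv_cancel]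
          have e0 : (evp fA ((Pt.map fA g)⁻¹ : Pt R A K)).comp (c.comp φ) = fA.comp φ := by
            rw [← AlgHom.comp_assoc, InfAut.evp_comp_cst]
          rw [e3, e0] at this
          exact this
        have e2 : θ (β z) = 0 := by
          have : D.cellIdeal ≤ RingHom.ker ((θ.comp β).toRingHom) := by
            rw [← hS, Ideal.span_le]
            intro x hx
            exact hcon ⟨x, hx⟩
          exact this hz
        rw [e1, ← hθ, AlgHom.comp_apply, e2, map_zero]
      have h3 : D.cellIdeal.map (evp (fA.comp φ) (1 : Pt R A K)).toRingHom ≤ ⊥ := by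
        rw [Ideal.map_le_iff_le_comap]
        intro z hz
        exact h2 z hz
      rw [h1] at h3
      exact bot_ne_top (le_bot_iff.mp h3).symm
    obtain ⟨x, hx⟩ := hα
    obtain ⟨y, hy⟩ := hβ
    let q : PrimeSpectrum E := ⟨RingHom.ker (θ : E →+* K ⊗[R] A), RingHom.ker_isPrime _⟩
    have hq : q ∈ PrimeSpectrum.basicOpen (s (x, y)) := by
      change ¬ (θ (α x * β y) = 0)
      rw [map_mul]
      exact mul_ne_zero hx hy
    have hq' : q ∈ Set.range (PrimeSpectrum.comap (algebraMap E (L (x, y)))) := by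
      have := PrimeSpectrum.localization_away_comap_range (L (x, y)) (s (x, y))
      rw [this]
      exact hq
    obtain ⟨q', hq'⟩ := hq'
    refine ⟨PrimeSpectrum.comap (Pi.evalRingHom L (x, y)) q', ?_⟩
    have h4 : PrimeSpectrum.comap (algebraMap B (∀ k, L k)) (PrimeSpectrum.comap (Pi.evalRingHom L (x, y)) q')
        = PrimeSpectrum.comap (c : B →+* E) q := by
      rw [← hq', ← PrimeSpectrum.comap_comp_apply, ← PrimeSpectrum.comap_comp_apply]
      rfl
    rw [h4]
    apply PrimeSpectrum.ext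
    rw [← hf]
    ext z
    change θ (z ⊗ₜ[R] (1 : A)) = 0 ↔ f z = 0
    have h5 : θ (z ⊗ₜ[R] (1 : A)) = algebraMap K (K ⊗[R] A) (f z) := by
      simp [θ, Algebra.TensorProduct.algebraMap_apply]
      rfl
    rw [h5, FaithfulSMul.algebraMap_eq_zero_iff]
  · rw [D.isCell_iff]
    change D.cellIdeal.map (evp (ρ.comp (c.comp φ)) (Pt.map ρ u)).toRingHom = ⊤
    apply CoverAux.eq_top_of_local
    intro k
    refine ⟨ρ (α k.1), ?_, hunitα k⟩
    have := Ideal.mem_map_of_mem (evp (ρ.comp (c.comp φ)) (Pt.map ρ u)).toRingHom (hSmem k.1)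
    have e : (evp (ρ.comp (c.comp φ)) (Pt.map ρ u)).toRingHom (k.1 : B₀ ⊗[R] A) = ρ (α k.1) :=
      evp_comp_apply ρ (c.comp φ) u k.1
    rwa [e] at this
  · rw [D.isCell_iff]
    change D.cellIdeal.map (evp (ρ.comp (c.comp φ)) (Pt.map ρ v)).toRingHom = ⊤
    apply CoverAux.eq_top_of_local
    intro k
    refine ⟨ρ (β k.2), ?_, hunitβ k⟩
    have := Ideal.mem_map_of_mem (evp (ρ.comp (c.comp φ)) (Pt.map ρ v)).toRingHom (hSmem k.2)
    have e : (evp (ρ.comp (c.comp φ)) (Pt.map ρ v)).toRingHom (k.2 : B₀ ⊗[R] A) = ρ (β k.2) :=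
      evp_comp_apply ρ (c.comp φ) v k.2
    rwa [e] at this
  · change Pt.map (ρ.comp c) g * Pt.map ρ u = Pt.map ρ (Pt.map c g * u)
    rw [Pt.map_mul, Pt.map_map]

/-- an infinitesimal automorphism is determined by its values on the torus and the root groups -/
theorem RCell.ext_infAut (D : RCell P b R A B₀) [Algebra.Smooth R A] (hdom : GeomDom R A)
    {B : Type u} [CommRing B] [Algebra R B] (φ : B₀ →ₐ[R] B) (x y : InfAut R A B)
    (hT : ∀ {B' : Type u} [CommRing B'] [Algebra R B'] (ψ : B →ₐ[R] B') (t : TPt M B'),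
      x.app ψ (D.i (ψ.comp φ) t) = y.app ψ (D.i (ψ.comp φ) t))
    (hU : ∀ (a : idx) {B' : Type u} [CommRing B'] [Algebra R B'] (ψ : B →ₐ[R] B') (z : B'),
      x.app ψ (D.uu a (ψ.comp φ) z) = y.app ψ (D.uu a (ψ.comp φ) z)) : x = y := by
  apply InfAut.ext_app
  intro B₁ _ _ φ₁ g
  obtain ⟨B', _, _, ψ, hψ, c₁, c₂, h₁, h₂, h⟩ := D.exists_cover hdom (φ₁.comp φ) g
  have key : ∀ k : Pt R A B', D.IsCell (ψ.comp (φ₁.comp φ)) k →
      x.app (ψ.comp φ₁) k = y.app (ψ.comp φ₁) k := by
    rintro k ⟨z, t, rfl⟩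
    rw [map_mul, map_mul, map_list_prod, map_list_prod]
    congr 1
    · congr 1
      rw [List.map_map, List.map_map]
      apply List.map_congr_left
      intro a _
      exact hU a (ψ.comp φ₁) (z a)
    · exact hT (ψ.comp φ₁) t
  apply Pt.map_injective (eMap_injective hψ.injective)
  rw [InfAut.app_nat, InfAut.app_nat]
  have hg : Pt.map ψ g = c₂ * c₁⁻¹ := by rw [← h]; group
  rw [hg, map_mul, map_mul, map_inv, map_inv, key c₁ h₁, key c₂ h₂]

end Groth.Agent.Sga3B.MT
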