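import Groth.Agent.Sga3B.MT.Diag
import Groth.Agent.Sga3B.MT.Cover

/-!
# P4: existence of the diagonal infinitesimal automorphisms
-/

set_option autoImplicit false
universe u

open TensorProduct
open Groth.Agent.Sga3B.Cell

namespace Groth.Agent.Sga3B.MT

variable {idx M : Type} [Fintype idx] [AddCommGroup M] [Module.Free ℤ M] [Module.Finite ℤ M]
variable {P : RootPairing idx ℤ M (Module.Dual ℤ M)} {b : P.Base}
    {R A B₀ : Type u} [CommRing R] [CommRing A] [Algebra R A] [CommRing B₀] [Algebra R B₀]
    [PtGrp R A]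

theorem RCell.exists_diag (D : RCell P b R A B₀) [Algebra.Smooth R A] (hdom : GeomDom R A)
    {B : Type u} [CommRing B] [Algebra R B] (φ : B₀ →ₐ[R] B) (c : P.rootSpan ℤ →+ B) :
    ∃ x : InfAut R A B, D.IsDiag φ c x :=
  Diag.exists_diag_of_cover D (fun φ g => D.exists_cover hdom φ g) φ c

/-- Points of the torus which are trivial on the roots are central. -/
theorem RCell.commute_of_ch_root (D : RCell P b R A B₀) [Algebra.Smooth R A] (hdom : GeomDom R A)
    {B : Type u} [CommRing B] [Algebra R B] (φ : B₀ →ₐ[R] B) (z : TPt M B)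
    (hz : ∀ a, TPt.ch (P.root a) z = 1) (g : Pt R A B) : Commute (D.i φ z) g :=
  Diag.commute_of_cover D (fun φ g => D.exists_cover hdom φ g) φ z hz g

end Groth.Agent.Sga3B.MT
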