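import Groth.Agent.Sga3B.MT.Defs
import Mathlib.RingTheory.Flat.IsBaseChange
import Mathlib.RingTheory.TensorProduct.IsBaseChangePi
import Mathlib.RingTheory.Flat.FaithfullyFlat.Basic
import Mathlib.RingTheory.FinitePresentation
import Mathlib.Algebra.MvPolynomial.PDeriv

/-!
# Flat base change for the module of infinitesimal automorphisms
-/

set_option autoImplicit false
set_option linter.unusedSectionVars false
set_option linter.unusedVariables false
universe u

open TensorProduct TrivSqZeroExt

namespace Groth.Agent.Sga3B.MT.InfBc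

open Groth.Agent.Sga3B.Cell Groth.Agent.Sga3B.MT

section tmap

variable (R : Type u) (B B' : Type u) (M : Type u) [CommRing R] [CommRing B] [Algebra R B]
  [CommRing B'] [Algebra R B'] [Algebra B B'] [IsScalarTower R B B'] [AddCommGroup M] [Module R M]

/-- `B ⊗ M → B' ⊗ M` -/
noncomputable def tmap : B ⊗[R] M →ₗ[B] B' ⊗[R] M :=
  TensorProduct.AlgebraTensorModule.map (Algebra.linearMap B B') LinearMap.id

variable {R B B' M}

@[simp] lemma tmap_tmul (b : B) (m : M) :
    tmap R B B' M (b ⊗ₜ[R] m) = (algebraMap B B' b) ⊗ₜ[R] m := rfl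

lemma isBaseChange_tmap : IsBaseChange B' (tmap R B B' M) := by
  refine IsBaseChange.of_comp (TensorProduct.isBaseChange R M B) ?_
  convert TensorProduct.isBaseChange R M B' using 1
  ext m
  simp

end tmap

section VF

variable (R A B : Type u) [CommRing R] [CommRing A] [Algebra R A] [CommRing B] [Algebra R B]

/-- the submodule of vector fields -/
def vfSub : Submodule B (A →ₗ[R] B ⊗[R] A) where
  carrier := {d | IsVF d}
  zero_mem' := fun f f' => by simp
  add_mem' := by
    intro d d' hd hd' f f'
    simp only [LinearMap.add_apply, hd f f', hd' f f']; ring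
  smul_mem' := by
    intro b d hd f f'
    simp only [LinearMap.smul_apply, hd f f', smul_add, mul_smul_comm]

variable {R A B}

lemma mem_vfSub {d : A →ₗ[R] B ⊗[R] A} : d ∈ vfSub R A B ↔ IsVF d := Iff.rfl

variable {B' : Type u} [CommRing B'] [Algebra R B'] [Algebra B B'] [IsScalarTower R B B']

lemma tmap_mul (z w : B ⊗[R] A) : tmap R B B' A (z * w) = tmap R B B' A z * tmap R B B' A w := by
  induction z using TensorProduct.induction_on with
  | zero => simp
  | add x y hx hy => rw [add_mul, map_add, map_add, hx, hy, add_mul]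
  | tmul b a =>
    induction w using TensorProduct.induction_on with
    | zero => simp
    | add x y hx hy => rw [mul_add, map_add, map_add, hx, hy, mul_add]
    | tmul b' a' => simp

lemma tmap_eq (z : B ⊗[R] A) : tmap R B B' A z =
    Algebra.TensorProduct.map (IsScalarTower.toAlgHom R B B') (AlgHom.id R A) z := by
  induction z using TensorProduct.induction_on with
  | zero => simp
  | add x y hx hy => rw [map_add, map_add, hx, hy]
  | tmul b a => simp

variable (R A B B') in
/-- base change of vector fields -/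
noncomputable def vfMap : vfSub R A B →ₗ[B] vfSub R A B' where
  toFun d := ⟨((tmap R B B' A).restrictScalars R) ∘ₗ d.1, by
    intro f f'
    simp only [LinearMap.comp_apply, LinearMap.restrictScalars_apply, d.2 f f', map_add, tmap_mul]
    simp⟩
  map_add' d d' := by
    apply Subtype.ext
    ext f
    simp
  map_smul' b d := by
    apply Subtype.ext
    ext f
    simp

@[simp] lemma vfMap_apply (d : vfSub R A B) (f : A) :
    (vfMap R A B B' d).1 f = tmap R B B' A (d.1 f) := rfl

variable {n : ℕ} (π : MvPolynomial (Fin n) R →ₐ[R] A)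

variable (B) in
/-- values on the generators -/
noncomputable def ev : vfSub R A B →ₗ[B] (Fin n → B ⊗[R] A) where
  toFun d i := d.1 (π (MvPolynomial.X i))
  map_add' d d' := rfl
  map_smul' b d := rfl

variable (B) in
/-- the Jacobian -/
noncomputable def jac (P : MvPolynomial (Fin n) R) : (Fin n → B ⊗[R] A) →ₗ[B] B ⊗[R] A where
  toFun z := ∑ i, ((1 : B) ⊗ₜ[R] π (MvPolynomial.pderiv i P)) * z i
  map_add' z w := by simp [mul_add, Finset.sum_add_distrib]
  map_smul' b z := by simp [Finset.smul_sum]

lemma jac_mul (P Q : MvPolynomial (Fin n) R) (z : Fin n → B ⊗[R] A) :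
    jac B π (P * Q) z = ((1 : B) ⊗ₜ[R] π P) * jac B π Q z + ((1 : B) ⊗ₜ[R] π Q) * jac B π P z := by
  simp only [jac, LinearMap.coe_mk, AddHom.coe_mk, Finset.mul_sum, ← Finset.sum_add_distrib]
  refine Finset.sum_congr rfl fun i _ => ?_
  have e : ((1 : B) ⊗ₜ[R] π (MvPolynomial.pderiv i (P * Q))) =
      ((1 : B) ⊗ₜ[R] π P) * ((1 : B) ⊗ₜ[R] π (MvPolynomial.pderiv i Q)) +
      ((1 : B) ⊗ₜ[R] π Q) * ((1 : B) ⊗ₜ[R] π (MvPolynomial.pderiv i P)) := by
    rw [Derivation.leibniz, map_add, smul_eq_mul, smul_eq_mul, map_mul, map_mul,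
      TensorProduct.tmul_add]
    simp
  rw [e]
  ring

lemma vf_eq_jac (d : vfSub R A B) (P : MvPolynomial (Fin n) R) :
    d.1 (π P) = jac B π P (ev B π d) := by
  have h1 : d.1 1 = 0 := by
    have h := d.2 1 1
    have e : ((1 : B) ⊗ₜ[R] (1 : A)) = 1 := rfl
    rw [mul_one, e, one_mul] at h
    simpa using h
  induction P using MvPolynomial.induction_on with
  | C a =>
    have : π (MvPolynomial.C a) = a • (1 : A) := by
      rw [← MvPolynomial.algebraMap_eq, AlgHom.commutes, Algebra.algebraMap_eq_smul_one]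
    rw [this, map_smul, h1, smul_zero]
    simp [jac]
  | add P Q hP hQ =>
    rw [map_add, map_add, hP, hQ]
    simp [jac, TensorProduct.tmul_add, add_mul, Finset.sum_add_distrib]
  | mul_X P i hP =>
    rw [map_mul, d.2, hP, jac_mul]
    congr 1
    simp only [jac, LinearMap.coe_mk, AddHom.coe_mk, ev]
    classical
    rw [Finset.sum_eq_single i]
    · have : ((1 : B) ⊗ₜ[R] π (MvPolynomial.pderiv i (MvPolynomial.X (R := R) i))) = 1 := by
        rw [MvPolynomial.pderiv_X_self, map_one]; rfl
      rw [this, one_mul]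
    · intro j _ hj
      rw [MvPolynomial.pderiv_X_of_ne (Ne.symm hj)]
      simp
    · simp

variable (hπ : Function.Surjective π)

include hπ in
lemma ev_injective : Function.Injective (ev B π) := by
  intro d d' h
  apply Subtype.ext
  ext f
  obtain ⟨P, rfl⟩ := hπ f
  rw [vf_eq_jac, vf_eq_jac, h]

/-- the algebra map `R[X] → (B ⊗ A)[ε]` attached to a tuple. -/
lemma exists_polyHom (z : Fin n → B ⊗[R] A) : ∃ φ : MvPolynomial (Fin n) R →ₐ[R] Eps (B ⊗[R] A),
    ∀ P, φ P = (inl ((1 : B) ⊗ₜ[R] π P) + inr (jac B π P z) : Eps (B ⊗[R] A)) := by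
  refine ⟨MvPolynomial.aeval fun i =>
    (inl ((1 : B) ⊗ₜ[R] π (MvPolynomial.X i)) + inr (z i) : Eps (B ⊗[R] A)), fun P => ?_⟩
  induction P using MvPolynomial.induction_on with
  | C a =>
    rw [← MvPolynomial.algebraMap_eq, AlgHom.commutes]
    have : π (algebraMap R (MvPolynomial (Fin n) R) a) = a • (1 : A) := by
      rw [AlgHom.commutes, Algebra.algebraMap_eq_smul_one]
    rw [this]
    ext
    · simp [Algebra.algebraMap_eq_smul_one, TensorProduct.tmul_smul]
      rfl
    · simp [jac, algebraMap_eq_inl', MvPolynomial.algebraMap_eq]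
  | add P Q hP hQ =>
    rw [map_add, hP, hQ]
    ext
    · simp [TensorProduct.tmul_add]
    · simp [jac, TensorProduct.tmul_add, add_mul, Finset.sum_add_distrib]
  | mul_X P i hP =>
    rw [map_mul, hP, MvPolynomial.aeval_X]
    have e : jac B π (MvPolynomial.X (R := R) i) z = z i := by
      simp only [jac, LinearMap.coe_mk, AddHom.coe_mk]
      classical
      rw [Finset.sum_eq_single i]
      · have : ((1 : B) ⊗ₜ[R] π (MvPolynomial.pderiv i (MvPolynomial.X (R := R) i))) = 1 := by
          rw [MvPolynomial.pderiv_X_self, map_one]; rfl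
        rw [this, one_mul]
      · intro j _ hj
        rw [MvPolynomial.pderiv_X_of_ne (Ne.symm hj)]
        simp
      · simp
    ext
    · simp
    · simp [jac_mul, e, mul_comm]
      ring

variable {m : ℕ} (rel : Fin m → MvPolynomial (Fin n) R)

variable (B) in
/-- all the relations -/
noncomputable def jacs : (Fin n → B ⊗[R] A) →ₗ[B] (Fin m → B ⊗[R] A) :=
  LinearMap.pi fun j => jac B π (rel j)

include hπ in
lemma exact_ev (hrel : Ideal.span (Set.range rel) = RingHom.ker π.toRingHom) :
    Function.Exact (ev B π) (jacs B π rel) := by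
  intro z
  constructor
  · intro hz
    obtain ⟨φ, hφ⟩ := exists_polyHom (B := B) π z
    have hker : ∀ P, π P = 0 → φ P = 0 := by
      have h1 : RingHom.ker π.toRingHom ≤ RingHom.ker φ.toRingHom := by
        rw [← hrel, Ideal.span_le]
        rintro _ ⟨j, rfl⟩
        change φ (rel j) = 0
        have h2 : π (rel j) = 0 := by
          have : rel j ∈ RingHom.ker π.toRingHom := by
            rw [← hrel]; exact Ideal.subset_span ⟨j, rfl⟩
          exact this
        have h3 : jac B π (rel j) z = 0 := congrFun hz j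
        rw [hφ, h2, h3]
        simp
      intro P hP
      exact h1 hP
    let σ := Function.surjInv hπ
    have hσ : ∀ f, π (σ f) = f := Function.surjInv_eq hπ
    have hφσ : ∀ P, φ (σ (π P)) = φ P := by
      intro P
      rw [← sub_eq_zero, ← map_sub]
      apply hker
      rw [map_sub, hσ, sub_self]
    let d : A →ₗ[R] B ⊗[R] A :=
      { toFun := fun f => (φ (σ f)).snd
        map_add' := fun f f' => by
          have : φ (σ (f + f')) = φ (σ f + σ f') := by
            rw [← hφσ (σ f + σ f'), map_add, hσ, hσ]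
          rw [this, map_add]; rfl
        map_smul' := fun r f => by
          have : φ (σ (r • f)) = φ (r • σ f) := by
            rw [← hφσ (r • σ f), map_smul, hσ]
          rw [this, map_smul]; rfl }
    have hd : IsVF d := by
      intro f f'
      have h1 : φ (σ (f * f')) = φ (σ f * σ f') := by
        rw [← hφσ (σ f * σ f'), map_mul, hσ, hσ]
      have h2 : ∀ f, (φ (σ f)).fst = (1 : B) ⊗ₜ[R] f := by
        intro f; rw [hφ, hσ]; simp
      change (φ (σ (f * f'))).snd = _ * (φ (σ f')).snd + _ * (φ (σ f)).snd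
      rw [h1, map_mul, DualNumber.snd_mul, h2, h2]
      ring
    refine ⟨⟨d, hd⟩, ?_⟩
    ext i
    change (φ (σ (π (MvPolynomial.X i)))).snd = _
    rw [hφσ, hφ]
    simp only [snd_add, snd_inl, snd_inr, zero_add]
    have e : jac B π (MvPolynomial.X (R := R) i) z = z i := by
      simp only [jac, LinearMap.coe_mk, AddHom.coe_mk]
      classical
      rw [Finset.sum_eq_single i]
      · have : ((1 : B) ⊗ₜ[R] π (MvPolynomial.pderiv i (MvPolynomial.X (R := R) i))) = 1 := by
          rw [MvPolynomial.pderiv_X_self, map_one]; rfl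
        rw [this, one_mul]
      · intro j _ hj
        rw [MvPolynomial.pderiv_X_of_ne (Ne.symm hj)]
        simp
      · simp
    exact e
  · rintro ⟨d, rfl⟩
    ext j
    change jac B π (rel j) (ev B π d) = 0
    rw [← vf_eq_jac]
    have : rel j ∈ RingHom.ker π.toRingHom := by
      rw [← hrel]; exact Ideal.subset_span ⟨j, rfl⟩
    have h2 : π (rel j) = 0 := this
    rw [h2, map_zero]

/-- the Jacobian commutes with base change -/
lemma jac_tmap (P : MvPolynomial (Fin n) R) (z : Fin n → B ⊗[R] A) :
    jac B' π P (fun i => tmap R B B' A (z i)) = tmap R B B' A (jac B π P z) := by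
  simp only [jac, LinearMap.coe_mk, AddHom.coe_mk, map_sum, tmap_mul]
  refine Finset.sum_congr rfl fun i _ => ?_
  simp

variable (R A B B') in
/-- **Vector fields commute with flat base change.** -/
theorem isBaseChange_vfMap [Algebra.FinitePresentation R A] [Module.Flat B B'] :
    IsBaseChange B' (vfMap R A B B') := by
  obtain ⟨n, π, hπ, hfg⟩ := Algebra.FinitePresentation.out (R := R) (A := A)
  obtain ⟨s, hs⟩ := hfg
  have hrel : Ideal.span (Set.range fun j : Fin s.card => (s.equivFin.symm j : MvPolynomial (Fin n) R)) =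
      RingHom.ker π.toRingHom := by
    rw [← hs]
    congr 1
    ext x
    constructor
    · rintro ⟨j, rfl⟩
      exact (s.equivFin.symm j).2
    · intro hx
      exact ⟨s.equivFin ⟨x, hx⟩, by simp⟩
  let rel : Fin s.card → MvPolynomial (Fin n) R := fun j => (s.equivFin.symm j : MvPolynomial (Fin n) R)
  have e1 : Function.Exact (ev B π) (jacs B π rel) := exact_ev π hπ rel hrel
  have e2 : Function.Exact (ev B' π) (jacs B' π rel) := exact_ev π hπ rel hrel
  have i1 : Function.Injective (ev B π) := ev_injective π hπ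
  have i2 : Function.Injective (ev B' π) := ev_injective π hπ
  have c1 : ((tmap R B B' A).compLeft (Fin n)).comp (ev B π) =
      ((ev B' π).restrictScalars B).comp (vfMap R A B B') := rfl
  have c2 : ((tmap R B B' A).compLeft (Fin s.card)).comp (jacs B π rel) =
      ((jacs B' π rel).restrictScalars B).comp ((tmap R B B' A).compLeft (Fin n)) := by
    refine LinearMap.ext fun z => funext fun j => ?_
    exact (jac_tmap π (rel j) z).symm
  have k1 : IsBaseChange B' ((tmap R B B' A).compLeft (Fin n)) := isBaseChange_tmap.finitePow _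
  have k2 : IsBaseChange B' ((tmap R B B' A).compLeft (Fin s.card)) :=
    isBaseChange_tmap.finitePow _
  have key := IsBaseChange.of_left_exact B' (M₁ := ↥(vfSub R A B)) (M₂ := Fin n → B ⊗[R] A)
    (M₃ := Fin s.card → B ⊗[R] A) (N₁ := ↥(vfSub R A B')) (N₂ := Fin n → B' ⊗[R] A)
    (N₃ := Fin s.card → B' ⊗[R] A) (f := ev B π) (g := jacs B π rel)
    (f' := ev B' π) (g' := jacs B' π rel) (vfMap R A B B')
    ((tmap R B B' A).compLeft (Fin n))
    ((tmap R B B' A).compLeft (Fin s.card)) c1 c2 k1 k2 e1 i1 e2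
  exact key i2

end VF

section grp

variable {R A B : Type u} [CommRing R] [CommRing A] [Algebra R A] [CommRing B] [Algebra R B]
  [PtGrp R A]

variable (R A B) in
/-- the ring of functions on `G × G` over `B` -/
abbrev B2 : Type u := B ⊗[R] (A ⊗[R] A)

variable (R A B) in
/-- the constants -/
def c2 : B →ₐ[R] B2 R A B := Algebra.TensorProduct.includeLeft

variable (R A B) in
/-- first universal point -/
def p2 : Pt R A (B2 R A B) :=
  Pt.mk ((Algebra.TensorProduct.includeRight : A ⊗[R] A →ₐ[R] B2 R A B).comp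
    Algebra.TensorProduct.includeLeft)

variable (R A B) in
/-- second universal point -/
def q2 : Pt R A (B2 R A B) :=
  Pt.mk ((Algebra.TensorProduct.includeRight : A ⊗[R] A →ₐ[R] B2 R A B).comp
    Algebra.TensorProduct.includeRight)

/-- the product of the two deformed points -/
noncomputable def pq (d : vfSub R A B) : Pt R A (Eps (B2 R A B)) :=
  vpt d.1 d.2 (c2 R A B) (p2 R A B) * vpt d.1 d.2 (c2 R A B) (q2 R A B)

lemma fst_pq (d : vfSub R A B) (f : A) : ((pq d).hom f).fst = (p2 R A B * q2 R A B).hom f := by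
  have h : Pt.map (eFst R (B2 R A B)) (pq d) = p2 R A B * q2 R A B := by
    rw [pq, Pt.map_mul, map_eFst_vpt, map_eFst_vpt]
  exact congrArg (fun k : Pt R A (B2 R A B) => k.hom f) h

lemma vpt_add {B' : Type u} [CommRing B'] [Algebra R B'] (d d' : vfSub R A B) (φ : B →ₐ[R] B')
    (g : Pt R A B') : vpt (d + d').1 (d + d').2 φ g =
      Pt.map (e2Map R (LinearMap.coprod LinearMap.id LinearMap.id))
        (glue2 (vpt d.1 d.2 φ g) (vpt d'.1 d'.2 φ g) (fun f => by simp)) := by
  apply Pt.ext; intro f; ext <;> simp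

lemma vpt_smul {B' : Type u} [CommRing B'] [Algebra R B'] (b : B) (d : vfSub R A B)
    (φ : B →ₐ[R] B') (g : Pt R A B') : vpt (b • d).1 (b • d).2 φ g =
      Pt.map (eScale R (φ b)) (vpt d.1 d.2 φ g) := by
  have e0 : ∀ z : B ⊗[R] A, evp φ g (b • z) = φ b * evp φ g z := by
    intro z
    have : b • z = (b ⊗ₜ[R] (1 : A)) * z := by
      induction z using TensorProduct.induction_on with
      | zero => simp
      | tmul x y => simp [TensorProduct.smul_tmul']
      | add x y hx hy => rw [smul_add, hx, hy, mul_add]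
    rw [this, map_mul, evp_tmul, map_one, mul_one]
  apply Pt.ext; intro f; ext <;> simp [e0]

lemma snd_pq_add (d d' : vfSub R A B) (f : A) :
    ((pq (d + d')).hom f).snd = ((pq d).hom f).snd + ((pq d').hom f).snd := by
  have h := mul_linComb (R := R) (A := A) (S₁ := pq d) (S₂ := pq d')
    (P₁ := vpt d.1 d.2 (c2 R A B) (p2 R A B)) (P₂ := vpt d'.1 d'.2 (c2 R A B) (p2 R A B))
    (Q₁ := vpt d.1 d.2 (c2 R A B) (q2 R A B)) (Q₂ := vpt d'.1 d'.2 (c2 R A B) (q2 R A B))
    (fun f => by simp) (fun f => by simp) (fun f => by rw [fst_pq, fst_pq]) rfl rfl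
    (LinearMap.coprod LinearMap.id LinearMap.id)
  rw [← vpt_add, ← vpt_add] at h
  change _ = pq (d + d') at h
  rw [← h]
  simp

lemma snd_pq_smul (b : B) (d : vfSub R A B) (f : A) :
    ((pq (b • d)).hom f).snd = (c2 R A B b) * ((pq d).hom f).snd := by
  have h : pq (b • d) = Pt.map (eScale R (c2 R A B b)) (pq d) := by
    rw [pq, vpt_smul, vpt_smul, ← Pt.map_mul]
    rfl
  rw [h]
  simp

/-- the defect of compatibility with the group law -/
noncomputable def defect {n : ℕ} (π : MvPolynomial (Fin n) R →ₐ[R] A) :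
    vfSub R A B →ₗ[B] (Fin n → B2 R A B) where
  toFun d i := ((pq d).hom (π (MvPolynomial.X i))).snd -
    evp (c2 R A B) (p2 R A B * q2 R A B) (d.1 (π (MvPolynomial.X i)))
  map_add' d d' := by
    ext i
    simp only [snd_pq_add, Pi.add_apply, Submodule.coe_add, LinearMap.add_apply, map_add]
    ring
  map_smul' b d := by
    ext i
    have e0 : ∀ z : B ⊗[R] A, evp (c2 R A B) (p2 R A B * q2 R A B) (b • z) =
        c2 R A B b * evp (c2 R A B) (p2 R A B * q2 R A B) z := by
      intro z
      have : b • z = (b ⊗ₜ[R] (1 : A)) * z := by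
        induction z using TensorProduct.induction_on with
        | zero => simp
        | tmul x y => simp [TensorProduct.smul_tmul']
        | add x y hx hy => rw [smul_add, hx, hy, mul_add]
      rw [this, map_mul, evp_tmul, map_one, mul_one]
    have e1 : ∀ w : B2 R A B, b • w = c2 R A B b * w := by
      intro w
      change b • w = (b ⊗ₜ[R] (1 : A ⊗[R] A)) * w
      induction w using TensorProduct.induction_on with
      | zero => simp
      | tmul x y => simp [TensorProduct.smul_tmul']
      | add x y hx hy => rw [smul_add, hx, hy, mul_add]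
    simp only [snd_pq_smul, Pi.smul_apply, RingHom.id_apply, Submodule.coe_smul,
      LinearMap.smul_apply, e0, e1]
    ring

/-- the inclusion of infinitesimal automorphisms in vector fields -/
noncomputable def incl (R A B : Type u) [CommRing R] [CommRing A] [Algebra R A] [CommRing B]
    [Algebra R B] [PtGrp R A] : ↥(infAutSub R A B) →ₗ[B] vfSub R A B where
  toFun x := ⟨x.1, x.2.choose⟩
  map_add' x y := rfl
  map_smul' b x := rfl

lemma incl_injective : Function.Injective (incl R A B) := by
  intro x y h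
  apply Subtype.ext
  exact congrArg (fun z : vfSub R A B => z.1) h

lemma exact_incl {n : ℕ} (π : MvPolynomial (Fin n) R →ₐ[R] A) (hπ : Function.Surjective π) :
    Function.Exact (incl R A B) (defect (B := B) π) := by
  intro d
  constructor
  · intro hd
    have h1 : pq d = vpt d.1 d.2 (c2 R A B) (p2 R A B * q2 R A B) := by
      have h2 : (pq d).hom.comp π =
          (vpt d.1 d.2 (c2 R A B) (p2 R A B * q2 R A B)).hom.comp π := by
        apply MvPolynomial.algHom_ext
        intro i
        change (pq d).hom (π (MvPolynomial.X i)) =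
          (vpt d.1 d.2 (c2 R A B) (p2 R A B * q2 R A B)).hom (π (MvPolynomial.X i))
        ext
        · rw [fst_pq, fst_vpt]
        · rw [snd_vpt]
          have := congrFun hd i
          exact sub_eq_zero.mp this
      apply Pt.ext
      intro f
      obtain ⟨P, rfl⟩ := hπ f
      exact congrArg (fun k : MvPolynomial (Fin n) R →ₐ[R] Eps (B2 R A B) => k P) h2
    have h3 : IsGrpVF d.1 d.2 := by
      intro B' _ _ φ g h
      let χ : B2 R A B →ₐ[R] B' := Algebra.TensorProduct.lift φ
        (Algebra.TensorProduct.lift g.hom h.hom (fun _ _ => Commute.all _ _))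
        (fun _ _ => Commute.all _ _)
      have e1 : χ.comp (c2 R A B) = φ := by
        ext b
        simp [χ, c2]
      have e2 : Pt.map χ (p2 R A B) = g := by
        apply Pt.ext; intro f
        simp [χ, p2]
      have e3 : Pt.map χ (q2 R A B) = h := by
        apply Pt.ext; intro f
        simp [χ, q2]
      have h4 := congrArg (Pt.map (eMap χ)) h1
      rw [pq, Pt.map_mul, vpt_nat, vpt_nat, vpt_nat, Pt.map_mul, e1, e2, e3] at h4
      exact h4.symm
    exact ⟨⟨d.1, d.2, h3⟩, rfl⟩
  · rintro ⟨x, rfl⟩
    ext i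
    have h := x.2.choose_spec (B2 R A B) (c2 R A B) (p2 R A B) (q2 R A B)
    have h2 := congrArg (fun k : Pt R A (Eps (B2 R A B)) =>
      (k.hom (π (MvPolynomial.X i))).snd) h
    simp only [snd_vpt] at h2
    change ((pq (incl R A B x)).hom (π (MvPolynomial.X i))).snd -
      evp (c2 R A B) (p2 R A B * q2 R A B) (x.1 (π (MvPolynomial.X i))) = 0
    rw [h2]
    exact sub_self _

variable {B' : Type u} [CommRing B'] [Algebra R B'] [Algebra B B'] [IsScalarTower R B B']

lemma vpt_vfMap {C : Type u} [CommRing C] [Algebra R C] (d : vfSub R A B) (φ : B' →ₐ[R] C)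
    (g : Pt R A C) : vpt (vfMap R A B B' d).1 (vfMap R A B B' d).2 φ g =
      vpt d.1 d.2 (φ.comp (IsScalarTower.toAlgHom R B B')) g := by
  apply Pt.ext
  intro f
  ext
  · simp
  · rw [snd_vpt, snd_vpt, vfMap_apply]
    generalize d.1 f = z
    induction z using TensorProduct.induction_on with
    | zero => simp
    | tmul x y => simp
    | add x y hx hy => rw [map_add, map_add, map_add, hx, hy]

variable (R A B B') in
/-- `B2 → B2'` -/
noncomputable def t2 : B2 R A B →ₐ[R] B2 R A B' :=
  Algebra.TensorProduct.map (IsScalarTower.toAlgHom R B B') (AlgHom.id R (A ⊗[R] A))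

lemma t2_apply (z : B2 R A B) : t2 R A B B' z = tmap R B B' (A ⊗[R] A) z := (tmap_eq z).symm

lemma t2_comp_c2 : (t2 R A B B').comp (c2 R A B) =
    (c2 R A B').comp (IsScalarTower.toAlgHom R B B') := by
  ext b
  simp [t2, c2]

lemma map_t2_p2 : Pt.map (t2 R A B B') (p2 R A B) = p2 R A B' := by
  apply Pt.ext; intro f
  simp [t2, p2]

lemma map_t2_q2 : Pt.map (t2 R A B B') (q2 R A B) = q2 R A B' := by
  apply Pt.ext; intro f
  simp [t2, q2]

lemma vpt_t2 (d : vfSub R A B) (g : Pt R A (B2 R A B)) :
    Pt.map (eMap (t2 R A B B')) (vpt d.1 d.2 (c2 R A B) g) =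
      vpt (vfMap R A B B' d).1 (vfMap R A B B' d).2 (c2 R A B') (Pt.map (t2 R A B B') g) := by
  rw [vpt_nat, vpt_vfMap, t2_comp_c2]

lemma defect_nat {n : ℕ} (π : MvPolynomial (Fin n) R →ₐ[R] A) (d : vfSub R A B) (i : Fin n) :
    defect (B := B') π (vfMap R A B B' d) i =
      tmap R B B' (A ⊗[R] A) (defect (B := B) π d i) := by
  rw [← t2_apply]
  have h1 : pq (vfMap R A B B' d) = Pt.map (eMap (t2 R A B B')) (pq d) := by
    rw [pq, pq, Pt.map_mul, vpt_t2, vpt_t2, map_t2_p2, map_t2_q2]
  have h2 : ∀ f, evp (c2 R A B') (p2 R A B' * q2 R A B') ((vfMap R A B B' d).1 f) =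
      t2 R A B B' (evp (c2 R A B) (p2 R A B * q2 R A B) (d.1 f)) := by
    intro f
    have h3 := vpt_t2 (B' := B') d (p2 R A B * q2 R A B)
    rw [Pt.map_mul, map_t2_p2, map_t2_q2] at h3
    have h4 := congrArg (fun k : Pt R A (Eps (B2 R A B')) => (k.hom f).snd) h3
    simpa using h4.symm
  simp only [defect, LinearMap.coe_mk, AddHom.coe_mk, h1, h2, map_sub]
  rfl

variable (R A B B') in
/-- base change of infinitesimal automorphisms -/
noncomputable def mapL : ↥(infAutSub R A B) →ₗ[B] ↥(infAutSub R A B') where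
  toFun x := (InfAut.map (A := A) (IsScalarTower.toAlgHom R B B') (x : InfAut R A B) :)
  map_add' x y := map_add (InfAut.map (A := A) (IsScalarTower.toAlgHom R B B')) x y
  map_smul' b x := by
    have h := InfAut.map_smul (A := A) (IsScalarTower.toAlgHom R B B') b (x : InfAut R A B)
    refine Eq.trans h ?_
    apply Subtype.ext
    change (algebraMap B B' b) • (InfAut.map (A := A) (IsScalarTower.toAlgHom R B B')
      (x : InfAut R A B)).1 = b • (InfAut.map (A := A) (IsScalarTower.toAlgHom R B B')
      (x : InfAut R A B)).1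
    rw [algebraMap_smul]

lemma mapL_apply (x : ↥(infAutSub R A B)) : (mapL R A B B' x : InfAut R A B') =
    InfAut.map (A := A) (IsScalarTower.toAlgHom R B B') (x : InfAut R A B) := rfl

lemma comm1 : (vfMap R A B B').comp (incl R A B) =
      ((incl R A B').restrictScalars B).comp (mapL R A B B') := by
  refine LinearMap.ext fun x => Subtype.ext (LinearMap.ext fun f => ?_)
  change tmap R B B' A (x.1 f) = (InfAut.map (IsScalarTower.toAlgHom R B B')
    (x : InfAut R A B)).1 f
  rw [InfAut.map_val, tmap_eq]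

lemma comm2 {n : ℕ} (π : MvPolynomial (Fin n) R →ₐ[R] A) :
    ((tmap R B B' (A ⊗[R] A)).compLeft (Fin n)).comp (defect (B := B) π) =
      ((defect (B := B') π).restrictScalars B).comp (vfMap R A B B') := by
  refine LinearMap.ext fun z => funext fun j => ?_
  exact (defect_nat π z j).symm

variable (R A B B') in
/-- **Infinitesimal automorphisms commute with flat base change.** -/
theorem isBaseChange_mapL [Algebra.FinitePresentation R A] [Module.Flat B B'] :
    IsBaseChange B' (mapL R A B B') := by
  obtain ⟨n, π, hπ, hfg⟩ := Algebra.FinitePresentation.out (R := R) (A := A)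
  have e1 : Function.Exact (incl R A B) (defect (B := B) π) := exact_incl π hπ
  have e2 : Function.Exact (incl R A B') (defect (B := B') π) := exact_incl π hπ
  have i1 : Function.Injective (incl R A B) := incl_injective
  have i2 : Function.Injective (incl R A B') := incl_injective
  have k1 : IsBaseChange B' (vfMap R A B B') := isBaseChange_vfMap R A B B'
  have k2 : IsBaseChange B' ((tmap R B B' (A ⊗[R] A)).compLeft (Fin n)) :=
    IsBaseChange.finitePow (Fin n) isBaseChange_tmap
  have key := IsBaseChange.of_left_exact B' (M₁ := ↥(infAutSub R A B)) (M₂ := ↥(vfSub R A B))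
    (M₃ := Fin n → B ⊗[R] (A ⊗[R] A)) (N₁ := ↥(infAutSub R A B')) (N₂ := ↥(vfSub R A B'))
    (N₃ := Fin n → B' ⊗[R] (A ⊗[R] A)) (f := incl R A B) (g := defect (B := B) π)
    (f' := incl R A B') (g' := defect (B := B') π) (mapL R A B B')
    (vfMap R A B B') ((tmap R B B' (A ⊗[R] A)).compLeft (Fin n))
  have key1 := key comm1
  exact key1 (comm2 π) k1 k2 e1 i1 e2 i2

end grp

end Groth.Agent.Sga3B.MT.InfBc

namespace Groth.Agent.Sga3B.MT

open Groth.Agent.Sga3B.Cell

variable {R A : Type u} [CommRing R] [CommRing A] [Algebra R A] [PtGrp R A]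

/-- Flat base change: every infinitesimal automorphism over a flat `B`-algebra `C` is a combination
of infinitesimal automorphisms over `B`. -/
theorem InfAut.mem_span_of_flat [Algebra.FinitePresentation R A] {B C : Type u} [CommRing B]
    [Algebra R B] [CommRing C] [Algebra R C] (ψ : B →ₐ[R] C) (hψ : ψ.toRingHom.Flat)
    (x : InfAut R A C) : x ∈ Submodule.span C (Set.range (InfAut.map (A := A) ψ)) := by
  let _ : Algebra B C := ψ.toRingHom.toAlgebra
  have : IsScalarTower R B C := IsScalarTower.of_algebraMap_eq' ψ.comp_algebraMap.symm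
  have : Module.Flat B C := hψ
  have hbc := InfBc.isBaseChange_mapL R A B C
  have e : IsScalarTower.toAlgHom R B C = ψ := by
    ext b
    rfl
  refine hbc.inductionOn x (fun x : ↥(infAutSub R A C) =>
    (x : InfAut R A C) ∈ Submodule.span C (Set.range (InfAut.map (A := A) ψ))) ?_ ?_ ?_ ?_
  · exact Submodule.zero_mem _
  · intro m
    refine Submodule.subset_span ⟨(m : InfAut R A B), ?_⟩
    rw [← e]
    rfl
  · intro s n hn
    exact Submodule.smul_mem _ s hn
  · intro a b ha hb
    exact Submodule.add_mem _ ha hb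

/-- an `R`-linear retraction of `R/m → C` -/
lemma InfBc.exists_retraction (m : Ideal R) [m.IsMaximal] {C : Type u} [CommRing C] [Algebra R C]
    [Nontrivial C] (κ : (R ⧸ m) →ₐ[R] C) : ∃ l : C →ₗ[R] (R ⧸ m), l 1 = 1 := by
  let _ : Field (R ⧸ m) := Ideal.Quotient.field m
  let _ : Algebra (R ⧸ m) C := κ.toRingHom.toAlgebra
  have : IsScalarTower R (R ⧸ m) C := IsScalarTower.of_algebraMap_eq' κ.comp_algebraMap.symm
  obtain ⟨g, hg⟩ := LinearMap.exists_leftInverse_of_injective (Algebra.linearMap (R ⧸ m) C)
    (LinearMap.ker_eq_bot.mpr (algebraMap (R ⧸ m) C).injective)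
  refine ⟨g.restrictScalars R, ?_⟩
  have h := congrArg (fun k : (R ⧸ m) →ₗ[R ⧸ m] (R ⧸ m) => k 1) hg
  simpa using h

/-- lifting from a residue field, from an étale-local (flat-local) lifting -/
theorem InfAut.map_mk_surjective [Algebra.FinitePresentation R A] (m : Ideal R) [m.IsMaximal]
    (B : Type u) [CommRing B] [Algebra R B] [Module.Flat R B] (hm : m.map (algebraMap R B) ≠ ⊤)
    (hs : Function.Surjective
      (InfAut.map (A := A) (Ideal.Quotient.mkₐ R (m.map (algebraMap R B))))) :
    Function.Surjective (InfAut.map (A := A) (Ideal.Quotient.mkₐ R m)) := by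
  intro x
  let C := B ⧸ m.map (algebraMap R B)
  have : Nontrivial C := Ideal.Quotient.nontrivial_iff.mpr hm
  let κ : (R ⧸ m) →ₐ[R] C := Ideal.Quotient.liftₐ m (Algebra.ofId R C) (by
    intro a ha
    change Ideal.Quotient.mk _ (algebraMap R B a) = 0
    exact Ideal.Quotient.eq_zero_iff_mem.mpr (Ideal.mem_map_of_mem _ ha))
  obtain ⟨l, hl⟩ := InfBc.exists_retraction m κ
  have hlk : ∀ c : C, ∀ r : R ⧸ m, l (c * κ r) = l c * r := by
    intro c r
    obtain ⟨r, rfl⟩ := Ideal.Quotient.mk_surjective r
    have h1 : c * κ (Ideal.Quotient.mk m r) = r • c := by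
      rw [Algebra.smul_def, mul_comm]
      rfl
    rw [h1, LinearMap.map_smul, Algebra.smul_def, mul_comm]
    rfl
  let Λ : C ⊗[R] A →ₗ[R] (R ⧸ m) ⊗[R] A := LinearMap.rTensor A l
  have hΛ : ∀ (c : C) (w : (R ⧸ m) ⊗[R] A),
      Λ (c • Algebra.TensorProduct.map κ (AlgHom.id R A) w) = l c • w := by
    intro c w
    induction w using TensorProduct.induction_on with
    | zero => simp
    | tmul r a =>
      simp only [Algebra.TensorProduct.map_tmul, AlgHom.coe_id, id_eq, TensorProduct.smul_tmul',
        smul_eq_mul, Λ, LinearMap.rTensor_tmul, hlk]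
    | add x y hx hy => rw [map_add, smul_add, map_add, hx, hy, smul_add]
  obtain ⟨y, hy⟩ := hs (InfAut.map (A := A) κ x)
  have hyspan := InfAut.mem_span_of_flat (A := A) (Algebra.ofId R B)
    (by
      change (algebraMap R B).Flat
      exact RingHom.flat_algebraMap_iff.mpr inferInstance) y
  have claim : ∀ c : C, ∃ ξ : InfAut R A R, ∀ f, Λ (c • (InfAut.map (A := A)
      (Ideal.Quotient.mkₐ R (m.map (algebraMap R B))) y).1 f) =
        (InfAut.map (A := A) (Ideal.Quotient.mkₐ R m) ξ).1 f := by
    clear hy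
    induction hyspan using Submodule.span_induction with
    | mem y hy =>
      obtain ⟨ξ, rfl⟩ := hy
      intro c
      obtain ⟨r, hr⟩ := Ideal.Quotient.mk_surjective (l c)
      refine ⟨r • ξ, fun f => ?_⟩
      rw [InfAut.map_smul, InfAut.map_map]
      have e : (Ideal.Quotient.mkₐ R (m.map (algebraMap R B))).comp (Algebra.ofId R B) =
          κ.comp (Ideal.Quotient.mkₐ R m) := by
        ext
      rw [e, ← InfAut.map_map, InfAut.map_val, hΛ, ← hr]
      rfl
    | zero =>
      intro c
      refine ⟨0, fun f => ?_⟩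
      rw [map_zero, map_zero]
      simp
    | add y z _ _ hy hz =>
      intro c
      obtain ⟨ξ, h1⟩ := hy c
      obtain ⟨η, h2⟩ := hz c
      refine ⟨ξ + η, fun f => ?_⟩
      rw [map_add, map_add, InfAut.val_add, InfAut.val_add, LinearMap.add_apply,
        LinearMap.add_apply, smul_add, map_add, h1, h2]
    | smul b y _ hy =>
      intro c
      obtain ⟨ξ, h1⟩ := hy (c * Ideal.Quotient.mkₐ R (m.map (algebraMap R B)) b)
      refine ⟨ξ, fun f => ?_⟩
      rw [InfAut.map_smul, ← h1, InfAut.val_smul, LinearMap.smul_apply, smul_smul]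
  obtain ⟨ξ, hξ⟩ := claim 1
  refine ⟨ξ, ?_⟩
  apply Subtype.ext
  ext f
  rw [← hξ, hy, InfAut.map_val, hΛ, hl, one_smul]

/-- semilocal lifting -/
theorem InfAut.exists_lift_semilocal [Algebra.FinitePresentation R A]
    (hR : {m : Ideal R | m.IsMaximal}.Finite)
    (hloc : ∀ m : Ideal R, m.IsMaximal → ∃ (B : Type u) (_ : CommRing B) (_ : Algebra R B),
      Module.Flat R B ∧ m.map (algebraMap R B) ≠ ⊤ ∧
      Function.Surjective (InfAut.map (A := A) (Ideal.Quotient.mkₐ R (m.map (algebraMap R B)))))
    (x : ∀ m : Ideal R, InfAut R A (R ⧸ m)) :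
    ∃ ξ : InfAut R A R, ∀ m : Ideal R, m.IsMaximal →
      InfAut.map (Ideal.Quotient.mkₐ R m) ξ = x m := by
  classical
  have hsurj : ∀ m : Ideal R, m.IsMaximal → ∃ ξ : InfAut R A R,
      InfAut.map (Ideal.Quotient.mkₐ R m) ξ = x m := by
    intro m hm
    obtain ⟨B, _, _, h1, h2, h3⟩ := hloc m hm
    exact InfAut.map_mk_surjective m B h2 h3 (x m)
  have : Finite {m : Ideal R | m.IsMaximal} := hR
  let ι := {m : Ideal R | m.IsMaximal}
  have : Fintype ι := Fintype.ofFinite _
  choose ξ hξ using fun m : ι => hsurj m.1 m.2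
  have hcop : Pairwise fun i j : ι => IsCoprime i.1 j.1 := by
    intro i j hij
    have hi : i.1.IsMaximal := i.2
    have hj : j.1.IsMaximal := j.2
    exact Ideal.isCoprime_of_isMaximal (fun h => hij (Subtype.ext h))
  have hcrt : ∀ m : ι, ∃ e : R, ∀ m' : ι,
      Ideal.Quotient.mk m'.1 e = if m' = m then 1 else 0 := by
    intro m
    obtain ⟨e, he⟩ := Ideal.pi_quotient_surjective (I := fun i : ι => i.1) hcop
      (fun m' => if m' = m then 1 else 0)
    exact ⟨e, he⟩
  choose e he using hcrt
  refine ⟨∑ m, e m • ξ m, fun m hm => ?_⟩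
  rw [map_sum, Finset.sum_eq_single (⟨m, hm⟩ : ι)]
  · rw [InfAut.map_smul]
    have h1 := he ⟨m, hm⟩ ⟨m, hm⟩
    rw [if_pos rfl] at h1
    change Ideal.Quotient.mk m (e ⟨m, hm⟩) • _ = _
    rw [h1, one_smul]
    exact hξ ⟨m, hm⟩
  · intro m' _ hne
    rw [InfAut.map_smul]
    have h1 := he m' ⟨m, hm⟩
    rw [if_neg (Ne.symm hne)] at h1
    change Ideal.Quotient.mk m (e m') • _ = _
    rw [h1, zero_smul]
  · intro h
    exact absurd (Finset.mem_univ _) h

end Groth.Agent.Sga3B.MT
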