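import Groth.Agent.Sga3B.MT.SmoothCore

/-!
# Rational regular elements over an infinite field (relative form)
-/

set_option autoImplicit false
set_option linter.unusedSectionVars false
universe u

open TensorProduct
open Groth.Agent.Sga3B.Cell

namespace Groth.Agent.Sga3B.MT

variable {idx M : Type} [Fintype idx] [AddCommGroup M] [Module.Free ℤ M] [Module.Finite ℤ M]
variable {P : RootPairing idx ℤ M (Module.Dual ℤ M)} {b : P.Base}
    {R k K A : Type u} [CommRing R] [Field k] [Infinite k] [Field K] [IsAlgClosed K]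
    [Algebra R k] [Algebra R K] [CommRing A] [Algebra R A] [PtGrp R A]

/-- rational regular elements over an infinite field `k`, `R → k → K` -/
theorem RCell.exists_isReg_rel [Algebra.FinitePresentation R A] (D : RCell P b R A K)
    (j : k →ₐ[R] K)
    (hdiag : ∀ {B : Type u} [CommRing B] [Algebra R B] (φ : K →ₐ[R] B) (c : P.rootSpan ℤ →+ B),
      ∃ y : InfAut R A B, D.IsDiag φ c y)
    (huniq : ∀ {B : Type u} [CommRing B] [Algebra R B] (φ : K →ₐ[R] B) (c : P.rootSpan ℤ →+ B)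
      (y y' : InfAut R A B), D.IsDiag φ c y → D.IsDiag φ c y' → y = y')
    (hzero : ∀ {B : Type u} [CommRing B] [Algebra R B] (_ : K →ₐ[R] B) (x : InfAut R A B),
      ∃ (n : ℕ) (z : Fin n → B), ∀ {B' : Type u} [CommRing B'] [Algebra R B'] (ψ : B →ₐ[R] B'),
        InfAut.map ψ x = 0 ↔ ∀ j, ψ (z j) = 0)
    (hlift : ∀ {B C : Type u} [CommRing B] [Algebra R B] [CommRing C] [Algebra R C]
      (φ : K →ₐ[R] B) (ψ : B →ₐ[R] C) (_ : Function.Surjective ψ) (_ : RingHom.ker ψ ^ 2 = ⊥)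
      (ξ : InfAut R A B) (g₀ : Pt R A C) (c₀ : P.rootSpan ℤ →+ C) (y₀ : InfAut R A C)
      (_ : D.IsDiag (ψ.comp φ) c₀ y₀) (_ : ∀ a, IsUnit (c₀ (P.rootSpanMem ℤ a)))
      (_ : InfAut.map ψ ξ = InfAut.Ad g₀ y₀),
      ∃ (g : Pt R A B) (c : P.rootSpan ℤ →+ B) (y : InfAut R A B), D.IsDiag φ c y ∧
        Pt.map ψ g = g₀ ∧ (∀ q, ψ (c q) = c₀ q) ∧ ξ = InfAut.Ad g y)
    (hspan : ∀ x : InfAut R A K, x ∈ Submodule.span K (Set.range (InfAut.map (A := A) j))) :
    ∃ x : InfAut R A k, D.IsReg (AlgHom.id R K) (InfAut.map j x) := by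
  let : Algebra k K := j.toRingHom.toAlgebra
  obtain ⟨c, hc⟩ := RegForm.exists_form b K
  obtain ⟨y, hy⟩ := hdiag (AlgHom.id R K) c
  have hyreg : D.IsReg (AlgHom.id R K) y :=
    ⟨1, c, y, hy, fun a => (hc a).isUnit, (InfAut.Ad_one y).symm⟩
  obtain ⟨n, v, lam, hlam⟩ : ∃ (n : ℕ) (v : Fin n → InfAut R A k) (lam : Fin n → K),
      ∑ i, lam i • InfAut.map j (v i) = y := by
    obtain ⟨l, hl⟩ := Finsupp.mem_span_range_iff_exists_finsupp.mp (hspan y)
    let e := l.support.equivFin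
    refine ⟨l.support.card, fun i => (e.symm i : InfAut R A k), fun i => l (e.symm i), ?_⟩
    rw [← hl, Finsupp.sum, ← Finset.sum_coe_sort l.support]
    exact Fintype.sum_equiv e.symm _ _ (fun i => rfl)
  let B : Type u := MvPolynomial (Fin n) K
  let ρ : K →ₐ[R] B := IsScalarTower.toAlgHom R K B
  let ξ : InfAut R A B := ∑ i, (MvPolynomial.X i : B) • InfAut.map (ρ.comp j) (v i)
  have hsp : ∀ (χ : B →ₐ[R] K), χ.comp ρ = AlgHom.id R K → InfAut.map χ ξ =
      ∑ i, χ (MvPolynomial.X i) • InfAut.map j (v i) := by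
    intro χ hχ
    rw [map_sum]
    refine Finset.sum_congr rfl fun i _ => ?_
    have h : χ.comp (ρ.comp j) = j := by
      rw [← AlgHom.comp_assoc, hχ]
      rfl
    rw [InfAut.map_smul, InfAut.map_map, h]
  let κ : B →ₐ[R] K := (MvPolynomial.aeval (R := K) lam).restrictScalars R
  have hκρ : κ.comp ρ = AlgHom.id R K := by
    ext r
    change MvPolynomial.aeval lam (algebraMap K B r) = r
    rw [AlgHom.commutes]
    rfl
  have hκ : (D.bc ρ).IsReg κ (InfAut.map κ ξ) := by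
    rw [RCell.bc_isReg, hκρ, hsp κ hκρ]
    have : ∀ i, κ (MvPolynomial.X i) = lam i := fun i => MvPolynomial.aeval_X _ _
    simp only [this]
    rw [hlam]
    exact hyreg
  obtain ⟨B₁, _, _, ψ, het, ⟨q, -⟩, hreg⟩ := (D.bc ρ).exists_etale'
    (fun φ c => hdiag (φ.comp ρ) c) (fun φ c => huniq (φ.comp ρ) c)
    (fun φ x => hzero (φ.comp ρ) x)
    (fun φ ψ h1 h2 ξ g₀ c₀ y₀ h3 h4 h5 => hlift (φ.comp ρ) ψ h1 h2 ξ g₀ c₀ y₀ h3 h4 h5)
    ξ K κ hκ
  let : Algebra B B₁ := ψ.toRingHom.toAlgebra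
  have : Algebra.Etale B B₁ := het
  have : Nontrivial B₁ := q.nontrivial
  obtain ⟨z, χ, hχ⟩ := EtSec.exists_rational_point (k := k) (K := K) (ι := Fin n) B₁
  have hχ' : ∀ p : B, χ (ψ p) = MvPolynomial.eval (fun i => j (z i)) p := hχ
  let χ' : B₁ →ₐ[R] K :=
    { χ with
      commutes' := fun r => by
        have h1 : algebraMap R B₁ r = ψ (algebraMap R B r) := (ψ.commutes r).symm
        change χ (algebraMap R B₁ r) = _
        rw [h1, hχ', IsScalarTower.algebraMap_apply R K B, MvPolynomial.algebraMap_eq,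
          MvPolynomial.eval_C] }
  have h1 := hreg.map χ'
  have h2 : (χ'.comp ψ).comp ρ = AlgHom.id R K := by
    ext r
    change χ (ψ (algebraMap K B r)) = r
    rw [hχ', MvPolynomial.algebraMap_eq, MvPolynomial.eval_C]
  rw [InfAut.map_map, hsp _ h2, RCell.bc_isReg] at h1
  have h3 : ∀ i, (χ'.comp ψ) (MvPolynomial.X i) = j (z i) := by
    intro i
    change χ (ψ _) = _
    rw [hχ', MvPolynomial.eval_X]
  refine ⟨∑ i, z i • v i, ?_⟩
  rw [map_sum]
  simp only [InfAut.map_smul]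
  rw [h2] at h1
  simp only [h3] at h1
  exact h1

end Groth.Agent.Sga3B.MT
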