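import Groth.Agent.Sga3B.MT.Glue
import Groth.Agent.Sga3B.MT.InfBc
import Groth.Agent.Sga3B.MT.SmoothInf
import Groth.Agent.Sga3B.MT.DiagFin
import Groth.Agent.Sga3B.ChartFib

/-!
# Existence of maximal tori over semilocal rings: assembly
-/

set_option autoImplicit false
universe u

open CategoryTheory MonoidalCategory CartesianMonoidalCategory MonObj GrpObj AlgebraicGeometry Limits
open TensorProduct
open Groth.Agent.Sga3B.Cell

namespace Groth.Agent.Sga3B.MT

open Groth.Agent.Sga3B Groth.Agent.Sga3B.BcPts Groth.Agent.Sga3B.Parab Groth.Agent.Sga3B.ResAlg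
open Groth.Agent.Books.AffBridge

/-- The structure theorem (P1) for all split cell data of `A` over `R`. -/
structure StructHyp (R A : Type u) [CommRing R] [CommRing A] [Algebra R A] [PtGrp R A] : Prop where
  zero : ∀ {idx M : Type} [Fintype idx] [AddCommGroup M] [Module.Free ℤ M] [Module.Finite ℤ M]
    {P : RootPairing idx ℤ M (Module.Dual ℤ M)} {b : P.Base} {B₀ : Type u} [CommRing B₀]
    [Algebra R B₀] (_ : RCell P b R A B₀) {B : Type u} [CommRing B] [Algebra R B] (_ : B₀ →ₐ[R] B)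
    (x : InfAut R A B), ∃ (n : ℕ) (z : Fin n → B), ∀ {B' : Type u} [CommRing B'] [Algebra R B']
      (ψ : B →ₐ[R] B'), InfAut.map ψ x = 0 ↔ ∀ j, ψ (z j) = 0
  surj : ∀ {idx M : Type} [Fintype idx] [AddCommGroup M] [Module.Free ℤ M] [Module.Finite ℤ M]
    {P : RootPairing idx ℤ M (Module.Dual ℤ M)} {b : P.Base} {B₀ : Type u} [CommRing B₀]
    [Algebra R B₀] (_ : RCell P b R A B₀) {B C : Type u} [CommRing B] [Algebra R B] [CommRing C]
    [Algebra R C] (_ : B₀ →ₐ[R] B) (ψ : B →ₐ[R] C) (_ : Function.Surjective ψ),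
    Function.Surjective (InfAut.map (A := A) ψ)
  lift : ∀ {idx M : Type} [Fintype idx] [AddCommGroup M] [Module.Free ℤ M] [Module.Finite ℤ M]
    {P : RootPairing idx ℤ M (Module.Dual ℤ M)} {b : P.Base} {B₀ : Type u} [CommRing B₀]
    [Algebra R B₀] (D : RCell P b R A B₀) {B C : Type u} [CommRing B] [Algebra R B] [CommRing C]
    [Algebra R C] (φ : B₀ →ₐ[R] B) (ψ : B →ₐ[R] C) (_ : Function.Surjective ψ)
    (_ : RingHom.ker ψ ^ 2 = ⊥) (ξ : InfAut R A B) (g₀ : Pt R A C) (c₀ : P.rootSpan ℤ →+ C)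
    (y₀ : InfAut R A C) (_ : D.IsDiag (ψ.comp φ) c₀ y₀)
    (_ : ∀ a, IsUnit (c₀ (P.rootSpanMem ℤ a))) (_ : InfAut.map ψ ξ = InfAut.Ad g₀ y₀),
    ∃ (g : Pt R A B) (c : P.rootSpan ℤ →+ B) (y : InfAut R A B), D.IsDiag φ c y ∧
      Pt.map ψ g = g₀ ∧ (∀ q, ψ (c q) = c₀ q) ∧ ξ = InfAut.Ad g y

/-- Existence of regular elements over residue fields. -/
structure RegHyp (R A : Type u) [CommRing R] [CommRing A] [Algebra R A] [PtGrp R A] : Prop where
  reg : ∀ {idx M : Type} [Fintype idx] [AddCommGroup M] [Module.Free ℤ M] [Module.Finite ℤ M]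
    {P : RootPairing idx ℤ M (Module.Dual ℤ M)} {b : P.Base} {k K : Type u} [Field k] [Field K]
    [IsAlgClosed K] [Algebra R k] [Algebra R K] (D : RCell P b R A K) (j : k →ₐ[R] K)
    (_ : j.toRingHom.IsIntegral), ∃ x : InfAut R A k, D.IsReg (AlgHom.id R K) (InfAut.map j x)

/-- Étale local pinnings. -/
def PinHyp {R : Type u} [CommRing R] (G : Over (Spec (CommRingCat.of R))) [GrpObj G] : Prop :=
  ∀ s : PrimeSpectrum R, ∃ (B₀ : Type u) (_ : CommRing B₀) (_ : Algebra R B₀),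
    (algebraMap R B₀).Etale ∧ (∃ q : PrimeSpectrum B₀, PrimeSpectrum.comap (algebraMap R B₀) q = s) ∧
      Nonempty (Red.Pinning (Red.bc (f₀ R B₀) G))

/-- Models of pinned groups. -/
def ModelHyp : Prop := ∀ {S : Scheme.{u}} {G : Over S} [GrpObj G] (D : Red.Pinning G) (R : Type u)
  [CommRing R] (s : Spec (CommRingCat.of R) ⟶ S),
  Nonempty (PinMod.PinModel D.P D.base G (PinFinal.jOf D.toSplitRed) D.u s)

/-- geometric points of étale algebras -/
def GeomPtHyp : Prop := ∀ {R B₀ : Type u} [CommRing R] [CommRing B₀] [Algebra R B₀]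
    (_ : (algebraMap R B₀).Etale) (m : Ideal R) [m.IsMaximal] (q : PrimeSpectrum B₀)
    (_ : q.asIdeal.comap (algebraMap R B₀) = m), ∃ (K : Type u) (_ : Field K) (_ : IsAlgClosed K)
    (_ : Algebra R K) (κ : B₀ →ₐ[R] K) (j : (R ⧸ m) →ₐ[R] K),
    RingHom.ker κ = q.asIdeal ∧ j.toRingHom.IsIntegral

section

variable {R : Type u} [CommRing R] {G : Over (Spec (CommRingCat.of R))} [GrpObj G]
  {A : Type u} [CommRing A] [Algebra R A] [PtGrp R A] (Q : GPts G A)

theorem exists_local [Algebra.Smooth R A] [Algebra.FinitePresentation R A] (hdom : GeomDom R A)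
    (hstr : StructHyp R A) (hreg : RegHyp R A) (hpin : PinHyp G) (hmodel : ModelHyp.{u})
    (hgeom : GeomPtHyp.{u}) (m : Ideal R) [hm : m.IsMaximal] :
    ∃ x : InfAut R A (R ⧸ m),
      (∃ (B : Type u) (_ : CommRing B) (_ : Algebra R B),
        Module.Flat R B ∧ m.map (algebraMap R B) ≠ ⊤ ∧
        Function.Surjective (InfAut.map (A := A) (Ideal.Quotient.mkₐ R (m.map (algebraMap R B))))) ∧
      ∀ ξ : InfAut R A R, InfAut.map (Ideal.Quotient.mkₐ R m) ξ = x →
        ∃ K : Chart Q ξ, (⟨m, hm.isPrime⟩ : PrimeSpectrum R) ∈ Set.range K.f := by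
  obtain ⟨B₀, _, _, het, ⟨q, hq⟩, ⟨D⟩⟩ := hpin ⟨m, hm.isPrime⟩
  have hq' : q.asIdeal.comap (algebraMap R B₀) = m := congrArg PrimeSpectrum.asIdeal hq
  obtain ⟨model⟩ := hmodel D B₀ (𝟙 _)
  obtain ⟨F, hF⟩ := exists_rcell Q D.toSplitRed D.base model
  obtain ⟨K, _, _, _, κ, j, hker, hint⟩ := hgeom het m q hq'
  let _ : Field (R ⧸ m) := Ideal.Quotient.field m
  obtain ⟨x, hx⟩ := hreg.reg (F.bc κ) j hint
  refine ⟨x, ⟨B₀, inferInstance, inferInstance, ?_, ?_, ?_⟩, fun ξ hξ => ?_⟩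
  · have := RingHom.etale_algebraMap.mp het
    infer_instance
  · intro h
    have h1 : m.map (algebraMap R B₀) ≤ q.asIdeal := by
      rw [Ideal.map_le_iff_le_comap, hq']
    exact q.isPrime.ne_top (top_le_iff.mp (h ▸ h1))
  · exact hstr.surj F (AlgHom.id R B₀) _ Ideal.Quotient.mk_surjective
  · have e1 : κ.comp (Algebra.ofId R B₀) = j.comp (Ideal.Quotient.mkₐ R m) :=
      AlgHom.ext fun r => (κ.commutes r).trans (j.commutes r).symm
    have h1 : F.IsReg κ (InfAut.map κ (InfAut.map (Algebra.ofId R B₀) ξ)) := by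
      rw [InfAut.map_map, e1, ← InfAut.map_map, hξ]
      exact hx
    obtain ⟨B₁, _, _, ψ, hψ, ⟨q₁, hq₁⟩, g, c, y, hy, hc, heq⟩ := F.exists_etale'
      (fun φ c => F.exists_diag hdom φ c)
      (fun φ c y y' hy hy' => F.ext_infAut hdom φ y y'
        (fun ψ t => (hy.1 ψ t).trans (hy'.1 ψ t).symm)
        (fun a _ _ _ ψ z => (hy.2 a ψ z).trans (hy'.2 a ψ z).symm))
      (fun φ x => hstr.zero F φ x)
      (fun φ ψ h1 h2 ξ g₀ c₀ y₀ h3 h4 h5 => hstr.lift F φ ψ h1 h2 ξ g₀ c₀ y₀ h3 h4 h5)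
      (InfAut.map (Algebra.ofId R B₀) ξ) K κ h1
    refine ⟨{
      B₀ := B₀
      D := D.toSplitRed
      b := D.base
      F := F
      hF := hF
      B₁ := B₁
      ψ := ψ
      et₀ := het
      et₁ := hψ
      g := g
      c := c
      y := y
      diag := hy
      reg := hc
      eq := ?_ }, q₁, ?_⟩
    · have e2 : ψ.comp (Algebra.ofId R B₀) = Algebra.ofId R B₁ :=
        AlgHom.ext fun r => ψ.commutes r
      rw [← heq, InfAut.map_map, e2]
    · rw [Chart.f_eq]
      apply PrimeSpectrum.ext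
      change q₁.asIdeal.comap (algebraMap R B₁) = m
      have e3 : algebraMap R B₁ = ψ.toRingHom.comp (algebraMap R B₀) := ψ.comp_algebraMap.symm
      rw [e3, ← Ideal.comap_comap, hq₁, hker, hq']

include Q in
/-- **Maximal tori over semilocal rings**, affine form. -/
theorem exists_maximalTorus_of_hyps (hR : {m : Ideal R | m.IsMaximal}.Finite) [Algebra.Smooth R A]
    [Algebra.FinitePresentation R A] (hdom : GeomDom R A) (hstr : StructHyp R A) (hreg : RegHyp R A)
    (hpin : PinHyp G) (hmodel : ModelHyp.{u}) (hgeom : GeomPtHyp.{u}) :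
    ∃ (T : Over (Spec (CommRingCat.of R))) (_ : GrpObj T) (t : T ⟶ G),
      Red.IsMaximalTorus t ∧ IsClosedImmersion t.left := by
  classical
  have key : ∀ m : Ideal R, ∃ x : InfAut R A (R ⧸ m), m.IsMaximal →
      (∃ (B : Type u) (_ : CommRing B) (_ : Algebra R B),
        Module.Flat R B ∧ m.map (algebraMap R B) ≠ ⊤ ∧
        Function.Surjective (InfAut.map (A := A) (Ideal.Quotient.mkₐ R (m.map (algebraMap R B))))) ∧
      ∀ ξ : InfAut R A R, InfAut.map (Ideal.Quotient.mkₐ R m) ξ = x →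
        ∃ K : Chart Q ξ, ∃ s : PrimeSpectrum R, s.asIdeal = m ∧ s ∈ Set.range K.f := by
    intro m
    by_cases hm : m.IsMaximal
    · obtain ⟨x, h1, h2⟩ := exists_local Q hdom hstr hreg hpin hmodel hgeom m
      refine ⟨x, fun _ => ⟨h1, fun ξ hξ => ?_⟩⟩
      obtain ⟨K, hK⟩ := h2 ξ hξ
      exact ⟨K, _, rfl, hK⟩
    · exact ⟨0, fun h => absurd h hm⟩
  choose x hx using key
  obtain ⟨ξ, hξ⟩ := InfAut.exists_lift_semilocal hR (fun m hm => (hx m hm).1) x
  have hch : ∀ m : {m : Ideal R // m.IsMaximal}, ∃ K : Chart Q ξ, ∃ s : PrimeSpectrum R,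
      s.asIdeal = m.1 ∧ s ∈ Set.range K.f := fun m => (hx m.1 m.2).2 ξ (hξ m.1 m.2)
  choose K s hs hK using hch
  refine exists_maximalTorus_of_charts Q ξ hdom K fun p => ?_
  obtain ⟨m, hm, hpm⟩ := Ideal.exists_le_maximal (p : PrimeSpectrum R).asIdeal
    (p : PrimeSpectrum R).isPrime.ne_top
  refine ⟨⟨m, hm⟩, ?_⟩
  have hle : (show PrimeSpectrum R from p) ≤ s ⟨m, hm⟩ := by
    change (p : PrimeSpectrum R).asIdeal ≤ (s ⟨m, hm⟩).asIdeal
    rw [hs]
    exact hpm
  have hsp := (PrimeSpectrum.le_iff_specializes _ _).mp hle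
  have := (K ⟨m, hm⟩).etale_f
  have hop : IsOpen (Set.range (K ⟨m, hm⟩).f) := (K ⟨m, hm⟩).f.isOpenMap.isOpen_range
  exact hsp.mem_open hop (hK ⟨m, hm⟩)

end

/-- **Maximal tori of reductive groups over semilocal rings**. -/
theorem exists_maximalTorus_of_hyps' {R : Type u} [CommRing R]
    (hR : {m : Ideal R | m.IsMaximal}.Finite) {G : Over (Spec (CommRingCat.of R))} [GrpObj G]
    (hG : Red.IsReductive G)
    (hstr : ∀ {A : Type u} [CommRing A] [Algebra R A] [PtGrp R A] [Algebra.Smooth R A]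
      [Algebra.FinitePresentation R A], GeomDom R A → StructHyp R A)
    (hreg : ∀ {A : Type u} [CommRing A] [Algebra R A] [PtGrp R A] [Algebra.Smooth R A]
      [Algebra.FinitePresentation R A], GeomDom R A → RegHyp R A)
    (hpin : PinHyp G) (hmodel : ModelHyp.{u}) (hgeom : GeomPtHyp.{u}) :
    ∃ (T : Over (Spec (CommRingCat.of R))) (_ : GrpObj T) (t : T ⟶ G),
      Red.IsMaximalTorus t ∧ IsClosedImmersion t.left := by
  obtain ⟨A, _, _, ⟨e⟩⟩ := AdCentre.exists_specIso G hG.1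
  let _ : PtGrp R A := ptGrpOf (A := A) e
  have hp : IsPullback e.inv.left (Spec.map (CommRingCat.ofHom (algebraMap R A))) G.hom (𝟙 _) := by
    have : IsIso e.inv.left := inferInstanceAs (IsIso ((Over.forget _).map e.inv))
    exact IsPullback.of_horiz_isIso_mono ⟨by rw [Category.comp_id]; exact Over.w e.inv⟩
  have := hG.2.1
  have h1 : Algebra.Smooth R A := ChartFib.smooth_of_isPullback hp
  have h2 : Algebra.FinitePresentation R A := ChartFib.finitePresentation_of_isPullback hp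
  have hdom : GeomDom R A := fun K _ _ => ChartFib.isDomain hG hp K
  exact exists_maximalTorus_of_hyps (gptsOf (A := A) e) hR hdom (hstr hdom) (hreg hdom) hpin hmodel
    hgeom

end Groth.Agent.Sga3B.MT
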