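import Groth.Agent.Sga3B.MT.Defs
import Mathlib.RingTheory.Ideal.Maximal
import Mathlib.RingTheory.Ideal.Quotient.Basic
import Mathlib.GroupTheory.QuotientGroup.Basic

/-!
# The torus of a split cell datum is a closed subgroup

`RCell.evp_surjective`: restriction of functions `B ⊗ A → B[M]` to the torus is surjective.
-/

set_option autoImplicit false
universe u

open TensorProduct

namespace Groth.Agent.Sga3B.MT

open Groth.Agent.Sga3B.Cell

section evT

variable {M : Type} [AddCommGroup M] {R B C E : Type u} [CommRing R] [CommRing B] [Algebra R B]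
  [CommRing C] [Algebra R C] [CommRing E] [Algebra R E]

/-- evaluation `B[M] → C` at a torus point over `ψ : B → C` -/
noncomputable def evTo (ψ : B →ₐ[R] C) (s : TPt M C) :
    MonoidAlgebra B (Multiplicative M) →ₐ[R] C :=
  MonoidAlgebra.liftNCAlgHom ψ ((Units.coeHom C).comp s) (fun _ _ => Commute.all _ _)

@[simp] lemma evTo_single (ψ : B →ₐ[R] C) (s : TPt M C) (m : Multiplicative M) (b : B) :
    evTo ψ s (MonoidAlgebra.single m b) = ψ b * (s m : C) :=
  MonoidAlgebra.liftNC_single _ _ _ _

lemma evTo_apply (ψ : B →ₐ[R] C) (s : TPt M C) (z : MonoidAlgebra B (Multiplicative M)) :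
    evTo ψ s z = z.coeff.sum fun n c => ψ c * (s n : C) := rfl

/-- the universal torus point over `B[M]` -/
noncomputable def uT (M : Type) [AddCommGroup M] (B : Type u) [CommRing B] :
    TPt M (MonoidAlgebra B (Multiplicative M)) :=
  MonoidHom.toHomUnits (MonoidAlgebra.of B (Multiplicative M))

@[simp] lemma uT_apply (m : Multiplicative M) :
    ((uT M B m : _) : MonoidAlgebra B (Multiplicative M)) = MonoidAlgebra.single m 1 := rfl

variable (R) in
/-- the constants `B → B[M]` -/
noncomputable def cT (M : Type) [AddCommGroup M] (B : Type u) [CommRing B] [Algebra R B] :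
    B →ₐ[R] MonoidAlgebra B (Multiplicative M) := IsScalarTower.toAlgHom R B _

lemma cT_apply (b : B) : cT R M B b = MonoidAlgebra.single 1 b := by
  change algebraMap B (MonoidAlgebra B (Multiplicative M)) b = _
  rw [MonoidAlgebra.coe_algebraMap]
  rfl

lemma evTo_comp_cT (ψ : B →ₐ[R] C) (s : TPt M C) : (evTo ψ s).comp (cT R M B) = ψ := by
  ext b
  rw [AlgHom.comp_apply, cT_apply, evTo_single, map_one, Units.val_one, mul_one]

lemma map_evTo_uT (ψ : B →ₐ[R] C) (s : TPt M C) : TPt.map (evTo ψ s) (uT M B) = s := by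
  refine MonoidHom.ext fun m => Units.ext ?_
  rw [TPt.map_apply, uT_apply, evTo_single, map_one, one_mul]

/-- coefficientwise application -/
noncomputable def mapT (M : Type) [AddCommGroup M] (ψ : B →ₐ[R] C) :
    MonoidAlgebra B (Multiplicative M) →ₐ[R] MonoidAlgebra C (Multiplicative M) :=
  evTo ((cT R M C).comp ψ) (uT M C)

lemma mapT_single (ψ : B →ₐ[R] C) (m : Multiplicative M) (b : B) :
    mapT M ψ (MonoidAlgebra.single m b) = MonoidAlgebra.single m (ψ b) := by
  rw [mapT, evTo_single, AlgHom.comp_apply, cT_apply, uT_apply, MonoidAlgebra.single_mul_single,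
    one_mul, mul_one]

lemma coeff_mapT (ψ : B →ₐ[R] C) (z : MonoidAlgebra B (Multiplicative M)) (m : Multiplicative M) :
    (mapT M ψ z).coeff m = ψ (z.coeff m) := by
  classical
  induction z using MonoidAlgebra.induction_linear with
  | zero => simp
  | add x y hx hy =>
    rw [map_add, MonoidAlgebra.coeff_add, Finsupp.add_apply, hx, hy, MonoidAlgebra.coeff_add,
      Finsupp.add_apply, map_add]
  | single n r =>
    rw [mapT_single, MonoidAlgebra.coeff_single, MonoidAlgebra.coeff_single, Finsupp.single_apply,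
      Finsupp.single_apply]
    split_ifs with h
    · rfl
    · rw [map_zero]

end evT

section Closed

variable {idx M : Type} [Fintype idx] [AddCommGroup M] [Module.Free ℤ M] [Module.Finite ℤ M]
variable {P : RootPairing idx ℤ M (Module.Dual ℤ M)} {b : P.Base}
    {R A B₀ : Type u} [CommRing R] [CommRing A] [Algebra R A] [CommRing B₀] [Algebra R B₀]
    [PtGrp R A] (D : RCell P b R A B₀) {B : Type u} [CommRing B] [Algebra R B] (φ : B₀ →ₐ[R] B)

namespace RCell

/-- the universal torus point of `G` -/
noncomputable def tU : Pt R A (MonoidAlgebra B (Multiplicative M)) :=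
  D.i ((cT R M B).comp φ) (uT M B)

/-- restriction of functions on `G_B` to the torus -/
noncomputable def resT : B ⊗[R] A →ₐ[R] MonoidAlgebra B (Multiplicative M) :=
  evp (cT R M B) (D.tU φ)

variable {C : Type u} [CommRing C] [Algebra R C]

lemma map_evTo_tU (ψ : B →ₐ[R] C) (s : TPt M C) :
    Pt.map (evTo ψ s) (D.tU φ) = D.i (ψ.comp φ) s := by
  rw [tU, D.i_nat, map_evTo_uT, ← AlgHom.comp_assoc, evTo_comp_cT]

lemma evp_i (ψ : B →ₐ[R] C) (s : TPt M C) (z : B ⊗[R] A) :
    evp ψ (D.i (ψ.comp φ) s) z = evTo ψ s (D.resT φ z) := by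
  rw [← D.map_evTo_tU φ ψ s, resT, ← evp_comp_apply, evTo_comp_cT]

/-- the universal point of `G_B` translated by the universal torus point -/
noncomputable def trU : Pt R A (MonoidAlgebra (B ⊗[R] A) (Multiplicative M)) :=
  Pt.map (cT R M (B ⊗[R] A)) (InfAut.univ R A B) * D.tU ((InfAut.cst R A B).comp φ)

/-- the diagonal torus point over `B[M][M]` -/
noncomputable def tDiag (R : Type u) (M : Type) (B : Type u) [CommRing R] [AddCommGroup M]
    [CommRing B] [Algebra R B] :
    TPt M (MonoidAlgebra (MonoidAlgebra B (Multiplicative M)) (Multiplicative M)) :=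
  TPt.map (cT R M (MonoidAlgebra B (Multiplicative M))) (uT M B) *
    uT M (MonoidAlgebra B (Multiplicative M))

omit [Module.Free ℤ M] [Module.Finite ℤ M] in
lemma tDiag_apply (m : Multiplicative M) : ((tDiag R M B m : _) :
    MonoidAlgebra (MonoidAlgebra B (Multiplicative M)) (Multiplicative M)) =
      MonoidAlgebra.single m (MonoidAlgebra.single m (1 : B)) := by
  rw [tDiag, MonoidHom.mul_apply, Units.val_mul, TPt.map_apply, uT_apply, uT_apply, cT_apply,
    MonoidAlgebra.single_mul_single, one_mul, mul_one]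

omit [Module.Free ℤ M] [Module.Finite ℤ M] in
lemma coeff_evTo_tDiag (z : MonoidAlgebra B (Multiplicative M)) (m : Multiplicative M) :
    (evTo ((cT R M (MonoidAlgebra B (Multiplicative M))).comp (cT R M B)) (tDiag R M B) z).coeff m =
      MonoidAlgebra.single m (z.coeff m) := by
  classical
  induction z using MonoidAlgebra.induction_linear with
  | zero => simp
  | add x y hx hy =>
    rw [map_add, MonoidAlgebra.coeff_add, Finsupp.add_apply, hx, hy, MonoidAlgebra.coeff_add,
      Finsupp.add_apply, MonoidAlgebra.single_add]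
  | single n r =>
    rw [evTo_single, tDiag_apply, AlgHom.comp_apply, cT_apply, cT_apply,
      MonoidAlgebra.single_mul_single, MonoidAlgebra.single_mul_single, one_mul, mul_one,
      MonoidAlgebra.coeff_single, MonoidAlgebra.coeff_single, Finsupp.single_apply,
      Finsupp.single_apply]
    split_ifs with h
    · rw [h]
    · simp

/-- The image of `B ⊗ A → B[M]` contains the homogeneous components of its elements. -/
lemma exists_resT_eq_single (z : B ⊗[R] A) (m : Multiplicative M) :
    ∃ z' : B ⊗[R] A, D.resT φ z' = MonoidAlgebra.single m ((D.resT φ z).coeff m) := by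
  refine ⟨(evp ((cT R M (B ⊗[R] A)).comp (InfAut.cst R A B)) (D.trU φ) z).coeff m, ?_⟩
  have hψ : (D.resT φ).comp (InfAut.cst R A B) = cT R M B := InfAut.evp_comp_cst _ _
  have h1 : Pt.map (mapT M (D.resT φ)) (D.trU φ) =
      D.i (((cT R M (MonoidAlgebra B (Multiplicative M))).comp (cT R M B)).comp φ)
        (tDiag R M B) := by
    rw [trU, Pt.map_mul, tDiag, _root_.map_mul]
    congr 1
    · rw [Pt.map_map]
      have e1 : (mapT M (D.resT φ)).comp (cT R M (B ⊗[R] A)) =
          (cT R M (MonoidAlgebra B (Multiplicative M))).comp (D.resT φ) := by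
        rw [mapT, evTo_comp_cT]
      rw [e1, ← Pt.map_map, resT, InfAut.map_evp_univ, tU, D.i_nat]
      rfl
    · have e2 : ((cT R M (MonoidAlgebra B (Multiplicative M))).comp (D.resT φ)).comp
          ((InfAut.cst R A B).comp φ) =
          ((cT R M (MonoidAlgebra B (Multiplicative M))).comp (cT R M B)).comp φ := by
        rw [← hψ]; rfl
      rw [mapT, D.map_evTo_tU, e2]
  have h2 : (mapT M (D.resT φ)).comp ((cT R M (B ⊗[R] A)).comp (InfAut.cst R A B)) =
      (cT R M (MonoidAlgebra B (Multiplicative M))).comp (cT R M B) := by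
    rw [← AlgHom.comp_assoc, mapT, evTo_comp_cT, AlgHom.comp_assoc, hψ]
  have h3 := evp_comp_apply (mapT M (D.resT φ))
    ((cT R M (B ⊗[R] A)).comp (InfAut.cst R A B)) (D.trU φ) z
  rw [← coeff_mapT, ← h3, h1, h2, D.evp_i, coeff_evTo_tDiag]

lemma resT_smul (c : B) (z : B ⊗[R] A) : D.resT φ (c • z) = c • D.resT φ z := by
  induction z using TensorProduct.induction_on with
  | zero => simp
  | add x y hx hy => rw [smul_add, _root_.map_add, hx, hy, _root_.map_add, smul_add]
  | tmul x y =>
    rw [TensorProduct.smul_tmul', resT, evp_tmul, evp_tmul, smul_eq_mul, _root_.map_mul, cT_apply,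
      mul_assoc]
    rw [Algebra.smul_def, MonoidAlgebra.coe_algebraMap]
    rfl

/-- the ideal of coefficients of the character `m` occurring in functions on `G_B` -/
def coefI (m : Multiplicative M) : Ideal B where
  carrier := {c | ∃ z, D.resT φ z = MonoidAlgebra.single m c}
  zero_mem' := ⟨0, by simp⟩
  add_mem' := by
    rintro c c' ⟨f, hf⟩ ⟨f', hf'⟩
    exact ⟨f + f', by rw [_root_.map_add, hf, hf', MonoidAlgebra.single_add]⟩
  smul_mem' := by
    rintro r c ⟨f, hf⟩
    exact ⟨r • f, by rw [resT_smul, hf, MonoidAlgebra.smul_single]⟩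

lemma mem_coefI {m : Multiplicative M} {c : B} :
    c ∈ D.coefI φ m ↔ ∃ f, D.resT φ f = MonoidAlgebra.single m c := Iff.rfl

lemma coeff_mem_coefI (z : B ⊗[R] A) (m : Multiplicative M) :
    (D.resT φ z).coeff m ∈ D.coefI φ m := D.exists_resT_eq_single φ z m

lemma one_mem_coefI : (1 : B) ∈ D.coefI φ 1 := ⟨1, by rw [_root_.map_one]; rfl⟩

lemma mul_mem_coefI {m n : Multiplicative M} {c c' : B} (h : c ∈ D.coefI φ m)
    (h' : c' ∈ D.coefI φ n) : c * c' ∈ D.coefI φ (m * n) := by
  obtain ⟨f, hf⟩ := h
  obtain ⟨f', hf'⟩ := h'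
  exact ⟨f * f', by rw [_root_.map_mul, hf, hf', MonoidAlgebra.single_mul_single]⟩

lemma inv_mem_coefI {m : Multiplicative M} {c : B} (h : c ∈ D.coefI φ m) : c ∈ D.coefI φ m⁻¹ := by
  obtain ⟨z, hz⟩ := h
  refine ⟨evp (InfAut.cst R A B) (InfAut.univ R A B)⁻¹ z, ?_⟩
  have hψ : (D.resT φ).comp (InfAut.cst R A B) = cT R M B := InfAut.evp_comp_cst _ _
  rw [← evp_comp_apply, hψ, Pt.map_inv]
  have h1 : Pt.map (D.resT φ) (InfAut.univ R A B) = D.tU φ := by
    rw [resT, InfAut.map_evp_univ]
  rw [h1, tU, ← _root_.map_inv, D.evp_i, hz, evTo_single, cT_apply]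
  have h3 : (((uT M B)⁻¹ m : _) : MonoidAlgebra B (Multiplicative M)) =
      MonoidAlgebra.single m⁻¹ 1 := by
    rw [MonoidHom.inv_apply, ← _root_.map_inv]
    rfl
  rw [h3, MonoidAlgebra.single_mul_single, one_mul, mul_one]

/-- The torus is a closed subgroup. -/
theorem resT_surjective : Function.Surjective (D.resT φ) := by
  have key : ∀ m, D.coefI φ m = ⊤ := by
    intro m
    by_contra hm
    obtain ⟨p, hp, hle⟩ := Ideal.exists_le_maximal _ hm
    let N : Subgroup (Multiplicative M) :=
      { carrier := {n | ¬ D.coefI φ n ≤ p}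
        one_mem' := fun h => hp.ne_top ((Ideal.eq_top_iff_one _).mpr (h (D.one_mem_coefI φ)))
        mul_mem' := by
          intro a b ha hb
          obtain ⟨c, hc, hc'⟩ := Set.not_subset.mp ha
          obtain ⟨d, hd, hd'⟩ := Set.not_subset.mp hb
          intro hab
          rcases hp.isPrime.mem_or_mem (hab (D.mul_mem_coefI φ hc hd)) with h | h
          · exact hc' h
          · exact hd' h
        inv_mem' := by
          intro a ha hinv
          obtain ⟨c, hc, hc'⟩ := Set.not_subset.mp ha
          exact hc' (hinv (D.inv_mem_coefI φ hc)) }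
    have hN : ∀ n, n ∈ N ↔ ¬ D.coefI φ n ≤ p := fun n => Iff.rfl
    let k := B ⧸ p
    have hk : Nontrivial k := Ideal.Quotient.nontrivial_iff.mpr hp.ne_top
    let K := MonoidAlgebra k (Multiplicative M ⧸ N)
    let t : TPt M K :=
      MonoidHom.toHomUnits ((MonoidAlgebra.of k (Multiplicative M ⧸ N)).comp (QuotientGroup.mk' N))
    have ht : ∀ n : Multiplicative M, ((t n : Kˣ) : K) =
      MonoidAlgebra.single (n : Multiplicative M ⧸ N) (1 : k) := fun n => rfl
    let ψ : B →ₐ[R] K := (IsScalarTower.toAlgHom R k K).comp (Ideal.Quotient.mkₐ R p)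
    have hψ : ∀ c ∈ p, ψ c = 0 := by
      intro c hc
      have h1 : Ideal.Quotient.mkₐ R p c = 0 := Ideal.Quotient.eq_zero_iff_mem.mpr hc
      change (IsScalarTower.toAlgHom R k K) (Ideal.Quotient.mkₐ R p c) = 0
      rw [h1, map_zero]
    have hi : D.i (ψ.comp φ) t = D.i (ψ.comp φ) 1 := by
      apply Pt.ext
      intro f
      have e : ∀ s : TPt M K, (D.i (ψ.comp φ) s).hom f =
          evTo ψ s (D.resT φ ((1 : B) ⊗ₜ[R] f)) := by
        intro s
        rw [← D.evp_i, evp_tmul, _root_.map_one, one_mul]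
      rw [e, e, evTo_apply, evTo_apply]
      apply Finsupp.sum_congr
      intro n _
      by_cases hn : n ∈ N
      · rw [ht, (QuotientGroup.eq_one_iff n).mpr hn]
        rfl
      · rw [hN, not_not] at hn
        rw [hψ _ (hn (D.coeff_mem_coefI φ _ n)), zero_mul, zero_mul]
    have h1 := D.i_inj (ψ.comp φ) hi
    have h2 := congrArg (fun s : TPt M K => ((s m : Kˣ) : K)) h1
    simp only [ht] at h2
    have h3 : (MonoidAlgebra.single (m : Multiplicative M ⧸ N) (1 : k) : K) =
      MonoidAlgebra.single 1 (1 : k) := h2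
    have h4 := (MonoidAlgebra.of_injective (R := k) (M := Multiplicative M ⧸ N)) h3
    exact (hN m).mp ((QuotientGroup.eq_one_iff m).mp h4) hle
  intro z
  induction z using MonoidAlgebra.induction_linear with
  | zero => exact ⟨0, map_zero _⟩
  | add x y hx hy =>
    obtain ⟨f, rfl⟩ := hx
    obtain ⟨g, rfl⟩ := hy
    exact ⟨f + g, _root_.map_add _ _ _⟩
  | single n r =>
    exact (D.mem_coefI φ).mp (by rw [key n]; trivial)

/-- **The torus of a split cell datum is closed**: restriction of functions is surjective. -/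
theorem evp_surjective (ι : B →ₐ[R] MonoidAlgebra B (Multiplicative M))
    (hι : ∀ z, ι z = algebraMap _ _ z) (t : TPt M (MonoidAlgebra B (Multiplicative M)))
    (ht : ∀ m, (t m : MonoidAlgebra B (Multiplicative M)) = MonoidAlgebra.single m 1) :
    Function.Surjective (evp ι (D.i (ι.comp φ) t)) := by
  have h1 : ι = cT R M B := AlgHom.ext hι
  have h2 : t = uT M B := MonoidHom.ext fun m => Units.ext (ht m)
  rw [h1, h2]
  exact D.resT_surjective φ

end RCell

end Closed

end Groth.Agent.Sga3B.MT
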