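import Groth.Agent.Sga3B.MT.SmoothCore

/-!
# Two cell structures over an algebraically closed field have a common regular element
-/

set_option autoImplicit false
set_option linter.unusedSectionVars false
universe u

open TensorProduct
open Groth.Agent.Sga3B.Cell

namespace Groth.Agent.Sga3B.MT.Common729

/-- Two nonzero flat algebras over a domain have a nonzero tensor product. -/
theorem nontrivial_tensor {B E E' : Type u} [CommRing B] [IsDomain B] [CommRing E] [Algebra B E]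
    [CommRing E'] [Algebra B E'] [Module.Flat B E] [Module.Flat B E'] [Nontrivial E]
    [Nontrivial E'] : Nontrivial (E ⊗[B] E') := by
  have hE : Function.Injective (algebraMap B E) := FaithfulSMul.algebraMap_injective B E
  have hE' : Function.Injective (algebraMap B E') := FaithfulSMul.algebraMap_injective B E'
  have h1 : Function.Injective (Algebra.TensorProduct.includeLeft : E →ₐ[B] E ⊗[B] E') :=
    Algebra.TensorProduct.includeLeft_injective hE'
  exact h1.nontrivial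

variable {idx M : Type} [Fintype idx] [AddCommGroup M] [Module.Free ℤ M] [Module.Finite ℤ M]
variable {P : RootPairing idx ℤ M (Module.Dual ℤ M)} {b : P.Base}
    {R K A : Type u} [CommRing R] [Field K] [IsAlgClosed K]
    [Algebra R K] [CommRing A] [Algebra R A] [PtGrp R A]

/-- zero loci of infinitesimal automorphisms -/
def ZeroLocus (_D : RCell P b R A K) : Prop :=
  ∀ {B : Type u} [CommRing B] [Algebra R B] (_ : K →ₐ[R] B) (x : InfAut R A B),
      ∃ (n : ℕ) (z : Fin n → B), ∀ {B' : Type u} [CommRing B'] [Algebra R B'] (ψ : B →ₐ[R] B'),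
        InfAut.map ψ x = 0 ↔ ∀ j, ψ (z j) = 0

/-- lifting of regular decompositions along square zero extensions -/
def RegLift (D : RCell P b R A K) : Prop :=
  ∀ {B C : Type u} [CommRing B] [Algebra R B] [CommRing C] [Algebra R C]
      (φ : K →ₐ[R] B) (ψ : B →ₐ[R] C) (_ : Function.Surjective ψ) (_ : RingHom.ker ψ ^ 2 = ⊥)
      (ξ : InfAut R A B) (g₀ : Pt R A C) (c₀ : P.rootSpan ℤ →+ C) (y₀ : InfAut R A C)
      (_ : D.IsDiag (ψ.comp φ) c₀ y₀) (_ : ∀ a, IsUnit (c₀ (P.rootSpanMem ℤ a)))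
      (_ : InfAut.map ψ ξ = InfAut.Ad g₀ y₀),
      ∃ (g : Pt R A B) (c : P.rootSpan ℤ →+ B) (y : InfAut R A B), D.IsDiag φ c y ∧
        Pt.map ψ g = g₀ ∧ (∀ q, ψ (c q) = c₀ q) ∧ ξ = InfAut.Ad g y

/-- **Common regular element** of two cell structures over an algebraically closed field. -/
theorem exists_common [Algebra.FinitePresentation R A] (D D' : RCell P b R A K)
    (hdiag : ∀ {B : Type u} [CommRing B] [Algebra R B] (φ : K →ₐ[R] B) (c : P.rootSpan ℤ →+ B),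
      ∃ y : InfAut R A B, D.IsDiag φ c y)
    (huniq : ∀ {B : Type u} [CommRing B] [Algebra R B] (φ : K →ₐ[R] B) (c : P.rootSpan ℤ →+ B)
      (y y' : InfAut R A B), D.IsDiag φ c y → D.IsDiag φ c y' → y = y')
    (hdiag' : ∀ {B : Type u} [CommRing B] [Algebra R B] (φ : K →ₐ[R] B) (c : P.rootSpan ℤ →+ B),
      ∃ y : InfAut R A B, D'.IsDiag φ c y)
    (huniq' : ∀ {B : Type u} [CommRing B] [Algebra R B] (φ : K →ₐ[R] B) (c : P.rootSpan ℤ →+ B)
      (y y' : InfAut R A B), D'.IsDiag φ c y → D'.IsDiag φ c y' → y = y')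
    (hz : ZeroLocus D) (hl : RegLift D) (hl' : RegLift D') :
    ∃ x : InfAut R A K, D.IsReg (AlgHom.id R K) x ∧ D'.IsReg (AlgHom.id R K) x := by
  obtain ⟨c, hc⟩ := RegForm.exists_form b K
  obtain ⟨y, hy⟩ := hdiag (AlgHom.id R K) c
  obtain ⟨y', hy'⟩ := hdiag' (AlgHom.id R K) c
  have hyreg : D.IsReg (AlgHom.id R K) y :=
    ⟨1, c, y, hy, fun a => (hc a).isUnit, (InfAut.Ad_one y).symm⟩
  have hyreg' : D'.IsReg (AlgHom.id R K) y' :=
    ⟨1, c, y', hy', fun a => (hc a).isUnit, (InfAut.Ad_one y').symm⟩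
  let B : Type u := MvPolynomial (Fin 2) K
  let ρ : K →ₐ[R] B := IsScalarTower.toAlgHom R K B
  let ξ : InfAut R A B := (MvPolynomial.X 0 : B) • InfAut.map ρ y +
    (MvPolynomial.X 1 : B) • InfAut.map ρ y'
  have hsp : ∀ (χ : B →ₐ[R] K), χ.comp ρ = AlgHom.id R K → InfAut.map χ ξ =
      χ (MvPolynomial.X 0) • y + χ (MvPolynomial.X 1) • y' := by
    intro χ hχ
    rw [map_add, InfAut.map_smul, InfAut.map_smul, InfAut.map_map, InfAut.map_map, hχ,
      InfAut.map_id, InfAut.map_id]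
  let κ (l : Fin 2 → K) : B →ₐ[R] K := (MvPolynomial.aeval (R := K) l).restrictScalars R
  have hκρ : ∀ l, (κ l).comp ρ = AlgHom.id R K := by
    intro l
    ext r
    change MvPolynomial.aeval l (algebraMap K B r) = r
    rw [AlgHom.commutes]
    rfl
  have hκX : ∀ l i, κ l (MvPolynomial.X i) = l i := fun l i => MvPolynomial.aeval_X _ _
  have hκ : (D.bc ρ).IsReg (κ ![1, 0]) (InfAut.map (κ ![1, 0]) ξ) := by
    rw [RCell.bc_isReg, hκρ, hsp _ (hκρ _), hκX, hκX]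
    simpa using hyreg
  have hκ' : (D'.bc ρ).IsReg (κ ![0, 1]) (InfAut.map (κ ![0, 1]) ξ) := by
    rw [RCell.bc_isReg, hκρ, hsp _ (hκρ _), hκX, hκX]
    simpa using hyreg'
  obtain ⟨B₁, _, _, ψ, het, ⟨q, -⟩, hreg⟩ := (D.bc ρ).exists_etale'
    (fun φ c => hdiag (φ.comp ρ) c) (fun φ c => huniq (φ.comp ρ) c)
    (fun φ x => hz (φ.comp ρ) x)
    (fun φ ψ h1 h2 ξ g₀ c₀ y₀ h3 h4 h5 => hl (φ.comp ρ) ψ h1 h2 ξ g₀ c₀ y₀ h3 h4 h5)
    ξ K (κ ![1, 0]) hκ
  obtain ⟨B₂, _, _, ψ', het', ⟨q', -⟩, hreg'⟩ := (D'.bc ρ).exists_etale'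
    (fun φ c => hdiag' (φ.comp ρ) c) (fun φ c => huniq' (φ.comp ρ) c)
    (fun φ x => hz (φ.comp ρ) x)
    (fun φ ψ h1 h2 ξ g₀ c₀ y₀ h3 h4 h5 => hl' (φ.comp ρ) ψ h1 h2 ξ g₀ c₀ y₀ h3 h4 h5)
    ξ K (κ ![0, 1]) hκ'
  let : Algebra B B₁ := ψ.toRingHom.toAlgebra
  let : Algebra B B₂ := ψ'.toRingHom.toAlgebra
  have : Algebra.Etale B B₁ := het
  have : Algebra.Etale B B₂ := het'
  have : Nontrivial B₁ := q.nontrivial
  have : Nontrivial B₂ := q'.nontrivial
  have : Nontrivial (B₁ ⊗[B] B₂) := nontrivial_tensor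
  have : Algebra.Etale B (B₁ ⊗[B] B₂) := Algebra.Etale.comp B B₁ _
  obtain ⟨z, χ, hχ⟩ := EtSec.exists_rational_point (k := K) (K := K) (ι := Fin 2) (B₁ ⊗[B] B₂)
  have hX : InfAut.map (κ z) ξ = z 0 • y + z 1 • y' := by
    rw [hsp _ (hκρ _), hκX, hκX]
  have hχ1 : ∀ p : B, χ ((ψ p) ⊗ₜ[B] 1) = κ z p := fun p => hχ p
  have hχ2 : ∀ p : B, χ (1 ⊗ₜ[B] (ψ' p)) = κ z p := by
    intro p
    rw [← hχ1]
    congr 1
    have e1 : ψ' p = p • (1 : B₂) := by rw [Algebra.smul_def, mul_one]; rfl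
    have e2 : ψ p = p • (1 : B₁) := by rw [Algebra.smul_def, mul_one]; rfl
    rw [e1, e2, TensorProduct.smul_tmul]
  let χ₁ : B₁ →ₐ[R] K :=
    { χ.comp (Algebra.TensorProduct.includeLeft : B₁ →ₐ[B] B₁ ⊗[B] B₂).toRingHom with
      commutes' := fun r => by
        have h1 : algebraMap R B₁ r = ψ (algebraMap R B r) := (ψ.commutes r).symm
        change χ ((algebraMap R B₁ r) ⊗ₜ[B] 1) = _
        rw [h1, hχ1, AlgHom.commutes] }
  let χ₂ : B₂ →ₐ[R] K :=
    { χ.comp (Algebra.TensorProduct.includeRight : B₂ →ₐ[B] B₁ ⊗[B] B₂).toRingHom with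
      commutes' := fun r => by
        have h1 : algebraMap R B₂ r = ψ' (algebraMap R B r) := (ψ'.commutes r).symm
        change χ (1 ⊗ₜ[B] (algebraMap R B₂ r)) = _
        rw [h1, hχ2, AlgHom.commutes] }
  have e1 : χ₁.comp ψ = κ z := AlgHom.ext hχ1
  have e2 : χ₂.comp ψ' = κ z := AlgHom.ext hχ2
  refine ⟨z 0 • y + z 1 • y', ?_, ?_⟩
  · have h1 := hreg.map χ₁
    rw [InfAut.map_map, e1, RCell.bc_isReg, hκρ, hX] at h1
    exact h1
  · have h1 := hreg'.map χ₂
    rw [InfAut.map_map, e2, RCell.bc_isReg, hκρ, hX] at h1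
    exact h1

end Groth.Agent.Sga3B.MT.Common729
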