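import Groth.Agent.Sga3A.Weyl
import Mathlib.LinearAlgebra.RootSystem.Finite.Nondegenerate

/-!
# Twisted Coxeter elements

For a finite reduced root datum `P` over `ℤ` with a base and any automorphism `g` of `P` there are
an element `w` of the Weyl group and a linear form `f` on the root lattice such that every root has a
translate under a power of `w g` on which `f` takes the value `1`.
-/

set_option autoImplicit false

open RootPairing

namespace Groth.Agent.Sga3B.MT.Cox

open Groth.Agent.Sga3A.Weyl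

variable {ι M N : Type*} [AddCommGroup M] [AddCommGroup N] {P : RootPairing ι ℤ M N}

/-- The product of the reflections along a list of roots. -/
noncomputable def pr (P : RootPairing ι ℤ M N) (L : List ι) : P.Aut :=
  (L.map (Equiv.reflection P)).prod

theorem pr_nil : pr P [] = 1 := rfl

theorem pr_cons (a : ι) (L : List ι) : pr P (a :: L) = Equiv.reflection P a * pr P L := by
  simp [pr]

theorem pr_append (L L' : List ι) : pr P (L ++ L') = pr P L * pr P L' := by
  simp [pr]

theorem pr_mem (L : List ι) : pr P L ∈ P.weylGroup := by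
  induction L with
  | nil => exact one_mem _
  | cons a L ih => rw [pr_cons]; exact mul_mem (P.reflection_mem_weylGroup a) ih

/-- The span of the roots of a list. -/
def sp (P : RootPairing ι ℤ M N) (L : List ι) : Submodule ℤ M :=
  Submodule.span ℤ (P.root '' {i | i ∈ L})

theorem root_mem_sp {L : List ι} {a : ι} (h : a ∈ L) : P.root a ∈ sp P L :=
  Submodule.subset_span ⟨a, h, rfl⟩

theorem sp_mono {L L' : List ι} (h : ∀ a ∈ L, a ∈ L') : sp P L ≤ sp P L' :=
  Submodule.span_mono (Set.image_mono h)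

theorem pr_smul_sub (L : List ι) (m : M) : pr P L • m - m ∈ sp P L := by
  induction L with
  | nil => rw [pr_nil, one_smul, sub_self]; exact zero_mem _
  | cons a L ih =>
    rw [pr_cons, mul_smul]
    have h1 : Equiv.reflection P a • (pr P L • m) - m =
        (pr P L • m - m) - (P.coroot' a (pr P L • m)) • P.root a := by
      rw [Equiv.reflection_smul, reflection_apply]
      abel
    rw [h1]
    refine Submodule.sub_mem _ (sp_mono (fun x hx => List.mem_cons_of_mem _ hx) ih) ?_
    exact Submodule.smul_mem _ _ (root_mem_sp (List.mem_cons_self ..))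

theorem pr_inv_smul_sub (L : List ι) (m : M) : (pr P L)⁻¹ • m - m ∈ sp P L := by
  have h := pr_smul_sub (P := P) L ((pr P L)⁻¹ • m)
  rw [smul_inv_smul] at h
  rw [← neg_sub]
  exact Submodule.neg_mem _ h

section Base

variable (b : P.Base)

theorem root_refl (a : ι) : Equiv.reflection P a * Equiv.reflection P a = 1 :=
  reflection_mul_self P a

theorem refl_inv (a : ι) : (Equiv.reflection P a)⁻¹ = Equiv.reflection P a :=
  Equiv.reflection_inv P a

theorem refl_refl_smul {X : Type*} [MulAction P.Aut X] (a : ι) (x : X) :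
    Equiv.reflection P a • Equiv.reflection P a • x = x := by
  rw [← mul_smul, root_refl, one_smul]

/-- The coordinate of an element of the root lattice at a simple root. -/
noncomputable def co (a : b.support) : P.rootSpan ℤ →ₗ[ℤ] ℤ := b.toWeightBasisInt.coord a

theorem co_self (a : b.support) : co b a (P.rootSpanMem ℤ a) = 1 := by
  have h : b.toWeightBasisInt a = P.rootSpanMem ℤ a := Subtype.ext (b.coe_toWeightBasisInt_apply a)
  rw [co, ← h, Module.Basis.coord_apply, Module.Basis.repr_self, Finsupp.single_eq_same]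

theorem co_ne {a c : b.support} (hac : c ≠ a) : co b a (P.rootSpanMem ℤ c) = 0 := by
  have h : b.toWeightBasisInt c = P.rootSpanMem ℤ c := Subtype.ext (b.coe_toWeightBasisInt_apply c)
  rw [co, ← h, Module.Basis.coord_apply, Module.Basis.repr_self, Finsupp.single_eq_of_ne hac.symm]

theorem co_eq_zero_of_mem_sp {L : List ι} (hL : ∀ a ∈ L, a ∈ b.support) {a : b.support}
    (ha : (a : ι) ∉ L) {x : P.rootSpan ℤ} (hx : (x : M) ∈ sp P L) : co b a x = 0 := by
  have h : sp P L ≤ (LinearMap.ker (co b a)).map (P.rootSpan ℤ).subtype := by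
    rw [sp, Submodule.span_le]
    rintro _ ⟨i, hi, rfl⟩
    refine ⟨P.rootSpanMem ℤ i, ?_, rfl⟩
    rw [SetLike.mem_coe, LinearMap.mem_ker]
    refine co_ne b (a := a) (c := ⟨i, hL i hi⟩) ?_
    intro e
    exact ha (by rw [← e]; exact hi)
  obtain ⟨y, hy, hyx⟩ := h hx
  have : y = x := Subtype.ext hyx
  rw [← this]
  exact hy

/-- The inversions of a product of simple reflections. -/
theorem exists_of_inversion [Finite ι] [P.IsReduced] (L : List ι) (hL : ∀ a ∈ L, a ∈ b.support) (i : ι)
    (hi : b.IsPos i) (hi' : ¬ b.IsPos ((pr P L)⁻¹ • i)) :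
    ∃ L₁ a L₂, L = L₁ ++ a :: L₂ ∧ i = pr P L₁ • a := by
  induction L generalizing i with
  | nil =>
    rw [pr_nil, inv_one, one_smul] at hi'
    exact absurd hi hi'
  | cons c L ih =>
    by_cases hc : i = c
    · exact ⟨[], c, L, rfl, by rw [pr_nil, one_smul]; exact hc⟩
    · have hcs := hL c (List.mem_cons_self ..)
      have h1 : b.IsPos (Equiv.reflection P c • i) := hi.reflectionPerm hcs hc
      rw [pr_cons, mul_inv_rev, mul_smul, refl_inv] at hi'
      obtain ⟨L₁, a, L₂, e, e'⟩ := ih (fun a ha => hL a (List.mem_cons_of_mem _ ha)) _ h1 hi'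
      refine ⟨c :: L₁, a, L₂, by rw [e]; rfl, ?_⟩
      rw [pr_cons, mul_smul, ← e', refl_refl_smul]

theorem rootSpanMem_val (i : ι) : ((P.rootSpanMem ℤ i : P.rootSpan ℤ) : M) = P.root i := rfl

/-- A linear form on the root lattice taking the value `1` at all inversions. -/
theorem exists_form (L : List ι) (hL : ∀ a ∈ L, a ∈ b.support) (hn : L.Nodup) :
    ∃ f : P.rootSpan ℤ →ₗ[ℤ] ℤ, ∀ L₁ a L₂, L = L₁ ++ a :: L₂ →
      f (P.rootSpanMem ℤ (pr P L₁ • a)) = 1 := by
  induction L using List.reverseRecOn with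
  | nil =>
    refine ⟨0, ?_⟩
    intro L₁ a L₂ h
    simp at h
  | append_singleton L c ih =>
    obtain ⟨f, hf⟩ := ih (fun a ha => hL a (List.mem_append_left _ ha)) (List.Nodup.of_append_left hn)
    have hL' : ∀ a ∈ L, a ∈ b.support := fun a ha => hL a (List.mem_append_left _ ha)
    have hc : c ∈ b.support := hL c (by simp)
    have hcL : c ∉ L := by
      intro h
      rw [List.nodup_append] at hn
      exact hn.2.2 c h c (by simp) rfl
    refine ⟨f + (1 - f (P.rootSpanMem ℤ (pr P L • c))) • co b ⟨c, hc⟩, ?_⟩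
    intro L₁ a L₂ h
    rcases List.eq_nil_or_concat L₂ with rfl | ⟨L₃, x, rfl⟩
    · obtain ⟨rfl, h2⟩ := List.append_inj' h rfl
      obtain rfl : c = a := by simpa using h2
      have h3 : co b ⟨c, hc⟩ (P.rootSpanMem ℤ (pr P L • c)) = 1 := by
        have h4 : co b ⟨c, hc⟩ (P.rootSpanMem ℤ (pr P L • c) - P.rootSpanMem ℤ c) = 0 := by
          apply co_eq_zero_of_mem_sp b hL' hcL
          rw [Submodule.coe_sub, rootSpanMem_val, rootSpanMem_val, root_smul]
          exact pr_smul_sub L _
        rw [map_sub, sub_eq_zero] at h4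
        rw [h4]
        exact co_self b ⟨c, hc⟩
      rw [LinearMap.add_apply, LinearMap.smul_apply, h3, smul_eq_mul]
      ring
    · have h' : L ++ [c] = (L₁ ++ a :: L₃) ++ [x] := by
        rw [h]; simp
      obtain ⟨h1, h2⟩ := List.append_inj' h' rfl
      rw [LinearMap.add_apply, LinearMap.smul_apply, hf _ _ _ h1]
      have h5 : co b ⟨c, hc⟩ (P.rootSpanMem ℤ (pr P L₁ • a)) = 0 := by
        apply co_eq_zero_of_mem_sp b hL' hcL
        rw [rootSpanMem_val, root_smul]
        have h6 : pr P L₁ • P.root a = (pr P L₁ • P.root a - P.root a) + P.root a := by abel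
        rw [h6]
        refine Submodule.add_mem _ (sp_mono ?_ (pr_smul_sub L₁ _)) (root_mem_sp ?_)
        · intro y hy
          rw [h1]; exact List.mem_append_left _ hy
        · rw [h1]; simp
      rw [h5, smul_zero, add_zero]

theorem sp_le_rootSpan (L : List ι) : sp P L ≤ P.rootSpan ℤ :=
  Submodule.span_mono (Set.image_subset_range _ _)

/-- A product of distinct simple reflections fixing a vector: each of them fixes the vector. -/
theorem coroot_eq_zero_of_fixed (L : List ι) (hL : ∀ a ∈ L, a ∈ b.support) (hn : L.Nodup) (v : M)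
    (hv : pr P L • v = v) : ∀ a ∈ L, P.coroot' a v = 0 := by
  induction L with
  | nil => intro a ha; exact absurd ha (List.not_mem_nil)
  | cons c L ih =>
    have hL' : ∀ a ∈ L, a ∈ b.support := fun a ha => hL a (List.mem_cons_of_mem _ ha)
    have hc : c ∈ b.support := hL c (List.mem_cons_self ..)
    have hcL : c ∉ L := (List.nodup_cons.1 hn).1
    have h1 : pr P L • v = Equiv.reflection P c • v := by
      rw [pr_cons, mul_smul] at hv
      rw [← refl_refl_smul (P := P) c (pr P L • v), hv]
    have h2 : P.coroot' c v • P.root c ∈ sp P L := by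
      have h3 := pr_smul_sub (P := P) L v
      rw [h1, Equiv.reflection_smul, reflection_apply, sub_sub_cancel_left] at h3
      rw [← neg_mem_iff]
      exact h3
    have h4 : P.coroot' c v = 0 := by
      have h5 := co_eq_zero_of_mem_sp b hL' (a := ⟨c, hc⟩) hcL (x := P.coroot' c v • P.rootSpanMem ℤ c) h2
      rw [map_smul] at h5
      have h6 := co_self b ⟨c, hc⟩
      rw [h6] at h5
      simpa using h5
    have h7 : pr P L • v = v := by
      rw [h1, Equiv.reflection_smul, reflection_apply, h4, zero_smul, sub_zero]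
    intro a ha
    rcases List.mem_cons.1 ha with rfl | ha
    · exact h4
    · exact ih hL' (List.nodup_cons.1 hn).2 h7 a ha

theorem smul_mem_rootSpan (g : P.Aut) {v : M} (hv : v ∈ P.rootSpan ℤ) : g • v ∈ P.rootSpan ℤ := by
  refine Submodule.span_induction (p := fun v _ => g • v ∈ P.rootSpan ℤ) ?_ ?_ ?_ ?_ hv
  · rintro _ ⟨i, rfl⟩
    rw [← root_smul]
    exact Submodule.subset_span ⟨_, rfl⟩
  · rw [smul_zero]; exact zero_mem _
  · intro x y _ _ hx hy
    rw [smul_add]; exact add_mem hx hy
  · intro a x _ hx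
    rw [smul_comm]; exact Submodule.smul_mem _ _ hx

/-- A vector of the root lattice killed by all coroots vanishes. -/
theorem eq_zero_of_coroot [Finite ι] {v : M} (hv : v ∈ P.rootSpan ℤ)
    (h : ∀ j ∈ b.support, P.coroot' j v = 0) : v = 0 := by
  have := Fintype.ofFinite ι
  have h1 : ∀ i, P.coroot' i v = 0 := by
    intro i
    have h2 := b.coroot_mem_span_int i
    have h3 : P.coroot' i v = P.toLinearMap v (P.coroot i) := rfl
    rw [h3]
    refine Submodule.span_induction (p := fun c _ => P.toLinearMap v c = 0) ?_ ?_ ?_ ?_ h2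
    · rintro _ ⟨j, hj, rfl⟩
      exact h j hj
    · rw [map_zero]
    · intro x y _ _ hx hy
      rw [map_add, hx, hy, add_zero]
    · intro a x _ hx
      rw [map_smul, hx, smul_zero]
  have h2 : v ∈ LinearMap.ker P.RootForm := by
    rw [LinearMap.mem_ker]
    ext w
    rw [P.rootForm_apply_apply]
    simp only [h1, zero_mul, Finset.sum_const_zero, LinearMap.zero_apply]
  have h3 := (Submodule.disjoint_def.1 P.disjoint_rootSpan_ker_rootForm) v hv h2
  exact h3

theorem exists_pow_smul [Finite ι] (g : P.Aut) : ∃ m : ℕ, 0 < m ∧ ∀ i : ι, g ^ m • i = i := by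
  have h := isOfFinOrder_of_finite (MulAction.toPermHom P.Aut ι g)
  obtain ⟨m, hm, h⟩ := h.exists_pow_eq_one
  refine ⟨m, hm, fun i => ?_⟩
  rw [← map_pow] at h
  exact congrArg (fun e : Equiv.Perm ι => e i) h

theorem pow_smul_eq_of {g : P.Aut} {m : ℕ} (h : ∀ i : ι, g ^ m • i = i) {v : M}
    (hv : v ∈ P.rootSpan ℤ) : g ^ m • v = v := by
  refine Submodule.span_induction (p := fun v _ => g ^ m • v = v) ?_ ?_ ?_ ?_ hv
  · rintro _ ⟨i, rfl⟩
    rw [← root_smul, h]
  · rw [smul_zero]
  · intro x y _ _ hx hy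
    rw [smul_add, hx, hy]
  · intro a x _ hx
    rw [smul_comm, hx]

/-- The action of an automorphism on the root lattice. -/
noncomputable def act (g : P.Aut) : P.rootSpan ℤ →ₗ[ℤ] P.rootSpan ℤ where
  toFun v := ⟨g • (v : M), smul_mem_rootSpan g v.2⟩
  map_add' x y := Subtype.ext (smul_add _ _ _)
  map_smul' a x := Subtype.ext (by
    change g • (a • (x : M)) = a • (g • (x : M))
    rw [smul_comm])

theorem act_root (g : P.Aut) (i : ι) : act g (P.rootSpanMem ℤ i) = P.rootSpanMem ℤ (g • i) :=
  Subtype.ext (root_smul P g i).symm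

theorem sum_pow_smul_sub (g : P.Aut) (v : M) (m : ℕ) :
    ∑ k ∈ Finset.range m, g ^ k • (g • v - v) = g ^ m • v - v := by
  induction m with
  | zero => simp
  | succ m ih =>
    rw [Finset.sum_range_succ, ih, smul_sub, pow_succ, mul_smul]
    abel

/-- Data of representatives of the orbits of `g` on the simple roots. -/
structure Reps (b : P.Base) (g : P.Aut) (L : List ι) : Prop where
  sub : ∀ a ∈ L, a ∈ b.support
  nodup : L.Nodup
  cover : ∀ j ∈ b.support, ∃ k : ℕ, ∃ a ∈ L, g ^ k • a = j
  dist : ∀ a ∈ L, ∀ c ∈ L, ∀ k : ℕ, g ^ k • a = c → a = c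

theorem fixed_eq_zero [Finite ι] {g : P.Aut} {L : List ι} (hR : Reps b g L)
    (hg : ∀ i, b.IsPos i → b.IsPos (g • i))
    {v : M} (hv : v ∈ P.rootSpan ℤ) (hfix : (pr P L * g) • v = v) : v = 0 := by
  classical
  rw [mul_smul] at hfix
  have h1 : g • v - v ∈ sp P L := by
    have h := pr_inv_smul_sub (P := P) L v
    rw [← hfix, inv_smul_smul, hfix] at h
    exact h
  obtain ⟨m, hm, hm'⟩ := exists_pow_smul g
  have h2 : ∑ k ∈ Finset.range m, g ^ k • (g • v - v) = 0 := by
    rw [sum_pow_smul_sub, pow_smul_eq_of hm' hv, sub_self]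
  have h3 : g • v - v = 0 := by
    have h4 : sp P L = Submodule.span ℤ (P.root '' (L.toFinset : Set ι)) := by
      rw [sp]; congr 2; ext i; simp
    rw [h4] at h1
    obtain ⟨n0, hn0⟩ := (Submodule.mem_span_image_finset_iff_exists_fun ℤ).1 h1
    obtain ⟨n, hn⟩ : ∃ n : ι → ℤ, ∑ c ∈ L.toFinset, n c • P.root c = g • v - v := by
      refine ⟨fun c => if h : c ∈ L.toFinset then n0 ⟨c, h⟩ else 0, ?_⟩
      rw [← hn0, ← Finset.sum_coe_sort L.toFinset]
      refine Finset.sum_congr rfl (fun c _ => ?_)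
      beta_reduce
      rw [dif_pos c.2]
    have h5 : ∀ a ∈ L, n a = 0 := by
      intro a ha
      have hgs : ∀ k : ℕ, ∀ i ∈ b.support, g ^ k • i ∈ b.support := by
        intro k
        induction k with
        | zero => intro i hi; rw [pow_zero, one_smul]; exact hi
        | succ k ih =>
          intro i hi
          rw [pow_succ', mul_smul]
          exact (image_support b b g hg _).2 (ih i hi)
      let φ : P.rootSpan ℤ →ₗ[ℤ] ℤ := ∑ k ∈ Finset.range m, co b ⟨a, hR.sub a ha⟩ ∘ₗ act (g ^ k)
      have hφ : ∀ c (hc : c ∈ L), φ (P.rootSpanMem ℤ c) =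
          ∑ k ∈ Finset.range m, co b ⟨a, hR.sub a ha⟩ (P.rootSpanMem ℤ (g ^ k • c)) := by
        intro c hc
        simp only [φ, LinearMap.sum_apply, LinearMap.comp_apply, act_root]
      have hco : ∀ c ∈ L, ∀ k, c ≠ a → co b ⟨a, hR.sub a ha⟩ (P.rootSpanMem ℤ (g ^ k • c)) = 0 := by
        intro c hc k hca
        refine co_ne b (a := ⟨a, hR.sub a ha⟩) (c := ⟨g ^ k • c, hgs k c (hR.sub c hc)⟩) ?_
        intro e
        exact hca (hR.dist c hc a ha k (congrArg Subtype.val e))
      have hφ1 : ∀ c ∈ L, c ≠ a → φ (P.rootSpanMem ℤ c) = 0 := by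
        intro c hc hca
        rw [hφ c hc]
        exact Finset.sum_eq_zero (fun k _ => hco c hc k hca)
      have hφ2 : 0 < φ (P.rootSpanMem ℤ a) := by
        rw [hφ a ha]
        refine Finset.sum_pos' ?_ ⟨0, Finset.mem_range.2 hm, ?_⟩
        · intro k _
          by_cases e : g ^ k • a = a
          · rw [e]
            have := co_self b ⟨a, hR.sub a ha⟩
            rw [this]
            exact zero_le_one
          · refine le_of_eq (Eq.symm ?_)
            refine co_ne b (a := ⟨a, hR.sub a ha⟩) (c := ⟨g ^ k • a, hgs k a (hR.sub a ha)⟩) ?_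
            intro e'
            exact e (congrArg Subtype.val e')
        · rw [pow_zero, one_smul]
          have := co_self b ⟨a, hR.sub a ha⟩
          rw [this]
          exact zero_lt_one
      have h6 : φ (∑ c ∈ L.toFinset, n c • P.rootSpanMem ℤ c) = 0 := by
        have h7 : ∀ k, act (g ^ k) (∑ c ∈ L.toFinset, n c • P.rootSpanMem ℤ c) =
            ⟨g ^ k • (g • v - v), smul_mem_rootSpan _ (by
              rw [← hn]
              exact Submodule.sum_mem _ (fun c _ => Submodule.smul_mem _ _ (Submodule.subset_span ⟨c, rfl⟩)))⟩ := by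
          intro k
          apply Subtype.ext
          change g ^ k • ((∑ c ∈ L.toFinset, n c • P.rootSpanMem ℤ c : P.rootSpan ℤ) : M) = _
          congr 1
          rw [← hn, Submodule.coe_sum]
          rfl
        simp only [φ, LinearMap.sum_apply, LinearMap.comp_apply, h7]
        rw [← map_sum]
        have h8 : (∑ k ∈ Finset.range m, (⟨g ^ k • (g • v - v), smul_mem_rootSpan _ (by
              rw [← hn]
              exact Submodule.sum_mem _ (fun c _ => Submodule.smul_mem _ _ (Submodule.subset_span ⟨c, rfl⟩)))⟩ :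
                P.rootSpan ℤ)) = 0 := by
          apply Subtype.ext
          rw [Submodule.coe_sum]
          exact h2
        rw [h8, map_zero]
      rw [map_sum, Finset.sum_eq_single a] at h6
      · rw [map_smul, smul_eq_mul] at h6
        rcases mul_eq_zero.1 h6 with h | h
        · exact h
        · exact absurd h hφ2.ne'
      · intro c hc hca
        rw [map_smul, hφ1 c (List.mem_toFinset.1 hc) hca, smul_zero]
      · intro h
        exact absurd (List.mem_toFinset.2 ha) h
    rw [← hn]
    exact Finset.sum_eq_zero (fun c hc => by rw [h5 c (List.mem_toFinset.1 hc), zero_smul])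
  have h4 : g • v = v := sub_eq_zero.1 h3
  rw [h4] at hfix
  have h5 := coroot_eq_zero_of_fixed b L hR.sub hR.nodup v hfix
  apply eq_zero_of_coroot b hv
  intro j hj
  obtain ⟨k, a, ha, rfl⟩ := hR.cover j hj
  have h6 : g ^ k • v = v := by
    clear hj
    induction k with
    | zero => rw [pow_zero, one_smul]
    | succ k ih => rw [pow_succ, mul_smul, h4, ih]
  have h7 := smul_toLin P (g ^ k) v a
  rw [h6] at h7
  exact h7.trans (h5 a ha)

/-- The height as a linear form on the root lattice. -/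
noncomputable def ht : P.rootSpan ℤ →ₗ[ℤ] ℤ := ∑ j, co b j

theorem ht_root (i : ι) : ht b (P.rootSpanMem ℤ i) = b.height i := by
  classical
  obtain ⟨f, -, -, hf⟩ := b.exists_root_eq_sum_int i
  have h1 : P.rootSpanMem ℤ i = ∑ j : b.support, f j • P.rootSpanMem ℤ j := by
    apply Subtype.ext
    rw [rootSpanMem_val, hf, Submodule.coe_sum, ← Finset.sum_coe_sort b.support]
    rfl
  rw [Base.height_eq_sum hf, h1, map_sum, ← Finset.sum_coe_sort b.support]
  refine Finset.sum_congr rfl (fun j _ => ?_)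
  rw [map_smul, ht, LinearMap.sum_apply, Finset.sum_eq_single j, co_self, smul_eq_mul, mul_one]
  · intro c _ hc
    exact co_ne b hc.symm
  · intro h
    exact absurd (Finset.mem_univ j) h

theorem exists_reps [Finite ι] (g : P.Aut) (hg : ∀ i, b.IsPos i → b.IsPos (g • i)) :
    ∃ L : List ι, Reps b g L := by
  classical
  have hgs : ∀ k : ℕ, ∀ i ∈ b.support, g ^ k • i ∈ b.support := by
    intro k
    induction k with
    | zero => intro i hi; rw [pow_zero, one_smul]; exact hi
    | succ k ih =>
      intro i hi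
      rw [pow_succ', mul_smul]
      exact (image_support b b g hg _).2 (ih i hi)
  obtain ⟨m, hm, hm'⟩ := exists_pow_smul g
  have hmul : ∀ n : ℕ, ∀ i : ι, g ^ (m * n) • i = i := by
    intro n i
    induction n with
    | zero => rw [mul_zero, pow_zero, one_smul]
    | succ n ih => rw [Nat.mul_succ, pow_add, mul_smul, hm', ih]
  let S : Setoid b.support :=
    { r := fun i j => ∃ k : ℕ, g ^ k • (i : ι) = j
      iseqv :=
        { refl := fun i => ⟨0, by rw [pow_zero, one_smul]⟩
          symm := by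
            rintro i j ⟨k, hk⟩
            refine ⟨m * k - k, ?_⟩
            have h : m * k - k + k = m * k := Nat.sub_add_cancel (Nat.le_mul_of_pos_left k hm)
            rw [← hk, ← mul_smul, ← pow_add, h, hmul]
          trans := by
            rintro i j l ⟨k, hk⟩ ⟨k', hk'⟩
            exact ⟨k' + k, by rw [pow_add, mul_smul, hk, hk']⟩ } }
  let T : Finset b.support := Finset.univ.image (fun j : b.support => (Quotient.out (Quotient.mk S j)))
  refine ⟨(T.toList).map (fun j : b.support => (j : ι)), ?_, ?_, ?_, ?_⟩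
  · intro a ha
    obtain ⟨c, -, rfl⟩ := List.mem_map.1 ha
    exact c.2
  · exact (Finset.nodup_toList T).map Subtype.val_injective
  · intro j hj
    have h1 : S.r (Quotient.out (Quotient.mk S ⟨j, hj⟩)) ⟨j, hj⟩ :=
      Quotient.exact (Quotient.out_eq (Quotient.mk S ⟨j, hj⟩))
    obtain ⟨k, hk⟩ := h1
    refine ⟨k, _, ?_, hk⟩
    refine List.mem_map.2 ⟨_, Finset.mem_toList.2 (Finset.mem_image.2 ⟨⟨j, hj⟩, Finset.mem_univ _, rfl⟩), rfl⟩
  · intro a ha c hc k hk
    obtain ⟨a', ha', rfl⟩ := List.mem_map.1 ha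
    obtain ⟨c', hc', rfl⟩ := List.mem_map.1 hc
    obtain ⟨x, -, rfl⟩ := Finset.mem_image.1 (Finset.mem_toList.1 ha')
    obtain ⟨y, -, rfl⟩ := Finset.mem_image.1 (Finset.mem_toList.1 hc')
    have h1 : (Quotient.mk S (Quotient.out (Quotient.mk S x))) = Quotient.mk S (Quotient.out (Quotient.mk S y)) :=
      Quotient.sound ⟨k, hk⟩
    rw [Quotient.out_eq, Quotient.out_eq] at h1
    rw [h1]

theorem exists_pos_and_neg [Finite ι] [P.IsReduced] {g : P.Aut} {L : List ι} (hR : Reps b g L)
    (hg : ∀ i, b.IsPos i → b.IsPos (g • i)) (i : ι) :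
    (∃ n : ℕ, b.IsPos ((pr P L * g) ^ n • i)) ∧ ∃ n : ℕ, ¬ b.IsPos ((pr P L * g) ^ n • i) := by
  set τ := pr P L * g with hτ
  obtain ⟨m, hm, hm'⟩ := exists_pow_smul τ
  let v : P.rootSpan ℤ := ∑ n ∈ Finset.range m, P.rootSpanMem ℤ (τ ^ n • i)
  have hv : act τ v = v := by
    have h1 : act τ v = ∑ n ∈ Finset.range m, P.rootSpanMem ℤ (τ ^ (n + 1) • i) := by
      simp only [v, map_sum, act_root, ← mul_smul, ← pow_succ']
    have h2 := Finset.sum_range_succ (fun n => P.rootSpanMem ℤ (τ ^ n • i)) m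
    have h3 := Finset.sum_range_succ' (fun n => P.rootSpanMem ℤ (τ ^ n • i)) m
    rw [h1]
    rw [h2, hm'] at h3
    have h4 : τ ^ 0 • i = i := by rw [pow_zero, one_smul]
    rw [h4] at h3
    exact (add_right_cancel h3).symm
  have h0 : v = 0 := by
    apply Subtype.ext
    exact fixed_eq_zero b hR hg v.2 (congrArg Subtype.val hv)
  have h1 : ∑ n ∈ Finset.range m, b.height (τ ^ n • i) = 0 := by
    have h2 : ht b v = 0 := by rw [h0, map_zero]
    simpa only [v, map_sum, ht_root] using h2
  constructor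
  · by_contra hc
    push Not at hc
    have h2 : ∑ n ∈ Finset.range m, b.height (τ ^ n • i) < 0 := by
      refine Finset.sum_neg (fun n _ => ?_) ⟨0, Finset.mem_range.2 hm⟩
      have h3 := hc n
      rw [Base.isPos_iff, not_lt] at h3
      exact lt_of_le_of_ne h3 (b.height_ne_zero _)
    exact absurd h1 h2.ne
  · by_contra hc
    push Not at hc
    have h2 : 0 < ∑ n ∈ Finset.range m, b.height (τ ^ n • i) :=
      Finset.sum_pos (fun n _ => hc n) ⟨0, Finset.mem_range.2 hm⟩
    exact absurd h1 h2.ne'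

theorem conj_mem_weylGroup (g : P.Aut) {w : P.Aut} (hw : w ∈ P.weylGroup) : g * w * g⁻¹ ∈ P.weylGroup := by
  rw [weylGroup] at hw
  refine Subgroup.closure_induction (p := fun w _ => g * w * g⁻¹ ∈ P.weylGroup) ?_ ?_ ?_ ?_ hw
  · rintro _ ⟨i, rfl⟩
    rw [conj_reflection]
    exact P.reflection_mem_weylGroup _
  · rw [mul_one, mul_inv_cancel]; exact one_mem _
  · intro x y _ _ hx hy
    have := mul_mem hx hy
    rwa [show g * x * g⁻¹ * (g * y * g⁻¹) = g * (x * y) * g⁻¹ by group] at this
  · intro x _ hx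
    have := inv_mem hx
    rwa [show (g * x * g⁻¹)⁻¹ = g * x⁻¹ * g⁻¹ by group] at this

theorem exists_mul_pos [Finite ι] [P.IsReduced] (g : P.Aut) :
    ∃ w ∈ P.weylGroup, ∀ i, b.IsPos i → b.IsPos ((g * w) • i) := by
  suffices H : ∀ n, ∀ w ∈ P.weylGroup, cnt b b (g * w) = n →
      ∃ w ∈ P.weylGroup, ∀ i, b.IsPos i → b.IsPos ((g * w) • i) from H _ 1 (one_mem _) rfl
  intro n
  induction n using Nat.strong_induction_on with
  | _ n ih =>
    intro w hw hn
    by_cases h : ∀ j ∈ b.support, b.IsPos ((g * w) • j)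
    · exact ⟨w, hw, fun i hi => isPos_smul_of_simple b b (g * w) h hi⟩
    · push Not at h
      obtain ⟨j, hj, hj'⟩ := h
      refine ih _ (hn ▸ cnt_lt b b (g * w) hj hj') (w * Equiv.reflection P j)
        (mul_mem hw (P.reflection_mem_weylGroup j)) ?_
      rw [mul_assoc]

include b in
/-- The main result: twisted Coxeter elements. -/
theorem exists_cox [Finite ι] [P.IsReduced] (g : P.Aut) :
    ∃ w ∈ P.weylGroup, ∃ f : P.rootSpan ℤ →ₗ[ℤ] ℤ, ∀ i : ι, ∃ n : ℕ,
      f (P.rootSpanMem ℤ ((w * g) ^ n • i)) = 1 := by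
  obtain ⟨w1, hw1, hpos⟩ := exists_mul_pos b g
  set π := g * w1 with hπ
  obtain ⟨L, hR⟩ := exists_reps b π hpos
  obtain ⟨f, hf⟩ := exists_form b L hR.sub hR.nodup
  refine ⟨pr P L * (g * w1 * g⁻¹), mul_mem (pr_mem L) (conj_mem_weylGroup g hw1), f, ?_⟩
  have he : pr P L * (g * w1 * g⁻¹) * g = pr P L * π := by rw [hπ]; group
  rw [he]
  intro i
  set τ := pr P L * π with hτ
  obtain ⟨⟨n₁, h₁⟩, n₀, h₀⟩ := exists_pos_and_neg b hR hpos i
  have hstep : ∃ n : ℕ, ¬ b.IsPos (τ ^ n • i) ∧ b.IsPos (τ ^ (n + 1) • i) := by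
    by_contra hc
    push Not at hc
    have h2 : ∀ k : ℕ, ¬ b.IsPos (τ ^ (n₀ + k) • i) := by
      intro k
      induction k with
      | zero => exact h₀
      | succ k ih => exact hc _ ih
    obtain ⟨m, hm, hm'⟩ := exists_pow_smul τ
    have hmul : ∀ n : ℕ, ∀ i : ι, τ ^ (m * n) • i = i := by
      intro n i
      induction n with
      | zero => rw [mul_zero, pow_zero, one_smul]
      | succ n ih => rw [Nat.mul_succ, pow_add, mul_smul, hm', ih]
    have h3 : τ ^ (n₀ + (m * n₀ - n₀ + n₁)) • i = τ ^ n₁ • i := by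
      have h4 : n₀ ≤ m * n₀ := Nat.le_mul_of_pos_left n₀ hm
      have h5 : n₀ + (m * n₀ - n₀ + n₁) = m * n₀ + n₁ := by omega
      rw [h5, pow_add, mul_smul, hmul]
    exact h2 (m * n₀ - n₀ + n₁) (h3 ▸ h₁)
  obtain ⟨n, hn, hn'⟩ := hstep
  refine ⟨n + 1, ?_⟩
  have h2 : ¬ b.IsPos ((pr P L)⁻¹ • (τ ^ (n + 1) • i)) := by
    rw [pow_succ', mul_smul, hτ, mul_smul, inv_smul_smul]
    rw [isPos_smul_iff b b π hpos]
    exact hn
  obtain ⟨L₁, a, L₂, e, e'⟩ := exists_of_inversion b L hR.sub _ hn' h2
  rw [e']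
  exact hf _ _ _ e

end Base

end Groth.Agent.Sga3B.MT.Cox
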