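import Groth.Agent.Sga3B.MT.WeylDiag
import Mathlib.FieldTheory.IsAlgClosed.Basic

/-!
# Equivariant curves are root subgroups (over an algebraically closed field)
-/

set_option autoImplicit false
set_option linter.unusedSectionVars false
universe u

open TensorProduct TrivSqZeroExt Polynomial

namespace Groth.Agent.Sga3B.MT

open Groth.Agent.Sga3B.Cell Groth.Agent.Sga3B.MT.Cox

variable {idx M : Type} [Fintype idx] [AddCommGroup M] [Module.Free ℤ M] [Module.Finite ℤ M]
variable {P : RootPairing idx ℤ M (Module.Dual ℤ M)} {b : P.Base}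
    {R A : Type u} [CommRing R] [CommRing A] [Algebra R A] [PtGrp R A]

namespace RCell

section field

variable {K : Type u} [Field K] [Algebra R K] (D : RCell P b R A K)

/-- evaluation `K[X] → B` over `φ : K → B` -/
noncomputable def pe {B : Type u} [CommRing B] [Algebra R B] (φ : K →ₐ[R] B) (x : B) : K[X] →ₐ[R] B :=
  Polynomial.eval₂AlgHom φ x (fun _ => Commute.all _ _)

lemma pe_apply {B : Type u} [CommRing B] [Algebra R B] (φ : K →ₐ[R] B) (x : B) (p : K[X]) :
    pe φ x p = p.eval₂ (φ : K →+* B) x := rfl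

@[simp] lemma pe_X {B : Type u} [CommRing B] [Algebra R B] (φ : K →ₐ[R] B) (x : B) : pe φ x X = x := by
  rw [pe_apply, eval₂_X]

@[simp] lemma pe_C {B : Type u} [CommRing B] [Algebra R B] (φ : K →ₐ[R] B) (x : B) (c : K) :
    pe φ x (C c) = φ c := by
  rw [pe_apply, eval₂_C]; rfl

variable (R K) in
/-- constants `K → K[X]` -/
noncomputable def kC : K →ₐ[R] K[X] := CAlgHom

lemma pe_comp_kC {B : Type u} [CommRing B] [Algebra R B] (φ : K →ₐ[R] B) (x : B) :
    (pe φ x).comp (kC R K) = φ := by
  ext c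
  exact pe_C φ x c

/-- a natural family of curves -/
structure Curve (R A K : Type u) [CommRing R] [CommRing A] [Algebra R A] [PtGrp R A] [Field K]
    [Algebra R K] where
  /-- the family -/
  V : ∀ {B : Type u} [CommRing B] [Algebra R B] (_ : K →ₐ[R] B), B → Pt R A B
  nat : ∀ {B B' : Type u} [CommRing B] [Algebra R B] [CommRing B'] [Algebra R B'] (φ : K →ₐ[R] B)
    (ψ : B →ₐ[R] B') (x : B), Pt.map ψ (V φ x) = V (ψ.comp φ) (ψ x)
  zero : ∀ {B : Type u} [CommRing B] [Algebra R B] (φ : K →ₐ[R] B), V φ 0 = 1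
  inj : ∀ {B : Type u} [CommRing B] [Algebra R B] (φ : K →ₐ[R] B), Function.Injective (V φ)

/-- equivariance of weight `m` -/
def Curve.Eq (D : RCell P b R A K) (F : Curve R A K) (m : M) : Prop :=
  ∀ {B : Type u} [CommRing B] [Algebra R B] (φ : K →ₐ[R] B) (t : TPt M B) (x : B),
    D.i φ t * F.V φ x * (D.i φ t)⁻¹ = F.V φ (TPt.ch m t * x)

lemma Curve.V_eq (F : Curve R A K) {B : Type u} [CommRing B] [Algebra R B] (φ : K →ₐ[R] B) (x : B) :
    F.V φ x = Pt.map (pe φ x) (F.V (kC R K) X) := by
  rw [F.nat, pe_comp_kC, pe_X]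

lemma conj_prod {B : Type u} [CommRing B] [Algebra R B] (φ : K →ₐ[R] B) (l : List idx) (x : idx → B)
    (t : TPt M B) :
    D.i φ t * (l.map (fun a => D.uu a φ (x a))).prod * (D.i φ t)⁻¹ =
      (l.map (fun a => D.uu a φ (TPt.ch (P.root a) t * x a))).prod := by
  induction l with
  | nil => simp
  | cons a l ih =>
    rw [List.map_cons, List.prod_cons, List.map_cons, List.prod_cons, ← ih, ← D.rel]
    group

lemma conj_cell {B : Type u} [CommRing B] [Algebra R B] (φ : K →ₐ[R] B) (x : idx → B) (s t : TPt M B) :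
    D.i φ t * (((allList b).map (fun a => D.uu a φ (x a))).prod * D.i φ s) * (D.i φ t)⁻¹ =
      ((allList b).map (fun a => D.uu a φ (TPt.ch (P.root a) t * x a))).prod * D.i φ s := by
  rw [← D.conj_prod]
  have h0 : t * s = s * t := by
    ext m
    simp [mul_comm]
  have h : D.i φ t * D.i φ s = D.i φ s * D.i φ t := by
    rw [← map_mul, ← map_mul, h0]
  calc _ = D.i φ t * ((allList b).map (fun a => D.uu a φ (x a))).prod * (D.i φ t)⁻¹ *
        (D.i φ t * D.i φ s) * (D.i φ t)⁻¹ := by group
    _ = _ := by rw [h]; group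

lemma isCell_one {B : Type u} [CommRing B] [Algebra R B] (φ : K →ₐ[R] B) : D.IsCell φ 1 := by
  refine ⟨fun _ => 0, 1, ?_⟩
  have h : ((allList b).map (fun a => D.uu a φ ((0 : B)))).prod = 1 := by
    apply List.prod_eq_one
    intro z hz
    obtain ⟨c, -, rfl⟩ := List.mem_map.mp hz
    exact D.uu_zero_w φ c
  rw [h, map_one, mul_one]

lemma IsCell.conj {D : RCell P b R A K} {B : Type u} [CommRing B] [Algebra R B] {φ : K →ₐ[R] B}
    {g : Pt R A B} (h : D.IsCell φ g) (t : TPt M B) : D.IsCell φ (D.i φ t * g * (D.i φ t)⁻¹) := by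
  obtain ⟨x, s, rfl⟩ := h
  exact ⟨_, _, D.conj_cell φ x s t⟩

end field

section closed

variable {K : Type u} [Field K] [IsAlgClosed K] [Algebra R K] (D : RCell P b R A K)

lemma exists_ch {m : M} (hm : m ≠ 0) (z : Kˣ) : ∃ t : TPt M K, TPt.ch m t = z := by
  obtain ⟨f, hf⟩ : ∃ f : Module.Dual ℤ M, f m ≠ 0 := by
    by_contra hc
    push Not at hc
    exact hm ((Module.forall_dual_apply_eq_zero_iff ℤ m).1 hc)
  have hn : 0 < (f m).natAbs := Int.natAbs_pos.2 hf
  obtain ⟨y, hy⟩ := IsAlgClosed.exists_pow_nat_eq (z : K) hn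
  have hy0 : y ≠ 0 := by
    rintro rfl
    rw [zero_pow hn.ne'] at hy
    exact z.ne_zero hy.symm
  let w : Kˣ := Units.mk0 y hy0
  have hw : w ^ (f m).natAbs = z := Units.ext hy
  rcases Int.natAbs_eq (f m) with h | h
  · refine ⟨TPt.cow f w, ?_⟩
    rw [TPt.ch_cow, h, zpow_natCast, hw]
  · refine ⟨TPt.cow f w⁻¹, ?_⟩
    rw [TPt.ch_cow, h, zpow_neg, inv_zpow, inv_inv, zpow_natCast, hw]

lemma isCell_iff_exists (F : Curve R A K) (z : K) :
    D.IsCell (AlgHom.id R K) (F.V (AlgHom.id R K) z) ↔
      ∃ f ∈ D.cellIdeal.map (evp (kC R K) (F.V (kC R K) X)).toRingHom, f.eval z ≠ 0 := by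
  rw [D.isCell_iff, F.V_eq]
  have h1 : (evp (AlgHom.id R K) (Pt.map (pe (AlgHom.id R K) z) (F.V (kC R K) X))).toRingHom =
      ((pe (AlgHom.id R K) z).toRingHom).comp (evp (kC R K) (F.V (kC R K) X)).toRingHom := by
    have h2 := comp_evp (pe (AlgHom.id R K) z) (kC R K) (F.V (kC R K) X)
    rw [pe_comp_kC] at h2
    rw [← h2]
    rfl
  rw [h1, ← Ideal.map_map]
  have h2 : ∀ f : K[X], (pe (AlgHom.id R K) z).toRingHom f = f.eval z := fun f => rfl
  constructor
  · intro h
    by_contra hc
    push Not at hc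
    have h3 : Ideal.map (pe (AlgHom.id R K) z).toRingHom
        (D.cellIdeal.map (evp (kC R K) (F.V (kC R K) X)).toRingHom) ≤ ⊥ := by
      rw [Ideal.map_le_iff_le_comap]
      intro f hf
      rw [Ideal.mem_comap, Ideal.mem_bot, h2]
      exact hc f hf
    rw [h, top_le_iff] at h3
    exact bot_ne_top h3
  · rintro ⟨f, hf, hz⟩
    rw [Ideal.eq_top_iff_one]
    have h3 : f.eval z ∈ Ideal.map (pe (AlgHom.id R K) z).toRingHom
        (D.cellIdeal.map (evp (kC R K) (F.V (kC R K) X)).toRingHom) := by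
      rw [← h2]
      exact Ideal.mem_map_of_mem _ hf
    have h4 := Ideal.mul_mem_left _ (f.eval z)⁻¹ h3
    rwa [inv_mul_cancel₀ hz] at h4

/-- The universal point of an equivariant curve lies in the big cell. -/
lemma isCell_curve (F : Curve R A K) {m : M} (hm : m ≠ 0) (hF : F.Eq D m) :
    D.IsCell (kC R K) (F.V (kC R K) X) := by
  rw [D.isCell_iff]
  set J := D.cellIdeal.map (evp (kC R K) (F.V (kC R K) X)).toRingHom with hJ
  have h0 : ∃ f ∈ J, f.eval 0 ≠ 0 := by
    rw [← D.isCell_iff_exists, F.zero]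
    exact D.isCell_one _
  have hall : ∀ z : K, ∃ f ∈ J, f.eval z ≠ 0 := by
    intro z₀
    by_contra hz
    have hz₀ : z₀ ≠ 0 := by
      rintro rfl
      exact hz h0
    have hz2 : ∀ w : K, w ≠ 0 → ¬ ∃ f ∈ J, f.eval w ≠ 0 := by
      intro w hw hex
      obtain ⟨t, ht⟩ := exists_ch (K := K) hm (Units.mk0 (z₀ / w) (div_ne_zero hz₀ hw))
      rw [← D.isCell_iff_exists] at hex
      apply hz
      rw [← D.isCell_iff_exists]
      have h1 := hex.conj t
      rw [hF, ht, Units.val_mk0, div_mul_cancel₀ _ hw] at h1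
      exact h1
    obtain ⟨f, hf, hf0⟩ := h0
    have hfz : f = 0 := by
      apply Polynomial.eq_zero_of_infinite_isRoot
      refine Set.Infinite.mono (s := {0}ᶜ) ?_ ?_
      · intro w hw
        have h1 := hz2 w hw
        push Not at h1
        exact h1 f hf
      · exact Set.Finite.infinite_compl (Set.finite_singleton _)
    rw [hfz, eval_zero] at hf0
    exact hf0 rfl
  by_contra hne
  obtain ⟨f, hf⟩ := (IsPrincipalIdealRing.principal J)
  have hf' : J = Ideal.span {f} := hf
  have hroot : ∃ z, f.eval z = 0 := by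
    by_cases hd : f.degree = 0
    · exfalso
      apply hne
      rw [hf', Ideal.span_singleton_eq_top]
      exact Polynomial.isUnit_iff_degree_eq_zero.2 hd
    · exact IsAlgClosed.exists_root f hd
  obtain ⟨z, hz⟩ := hroot
  obtain ⟨h, hh, hh'⟩ := hall z
  rw [hf', Ideal.mem_span_singleton] at hh
  obtain ⟨q, rfl⟩ := hh
  rw [eval_mul, hz, zero_mul] at hh'
  exact hh' rfl

variable (K M) in
/-- the universal torus point over `K[M][X]` -/
noncomputable def tuX : TPt M (MonoidAlgebra K (Multiplicative M))[X] where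
  toFun m :=
    { val := C (MonoidAlgebra.single m 1)
      inv := C (MonoidAlgebra.single m⁻¹ 1)
      val_inv := by
        rw [← C_mul, MonoidAlgebra.single_mul_single, mul_inv_cancel, one_mul]; rfl
      inv_val := by
        rw [← C_mul, MonoidAlgebra.single_mul_single, inv_mul_cancel, one_mul]; rfl }
  map_one' := by ext1; rfl
  map_mul' m n := by
    ext1
    change C (MonoidAlgebra.single (m * n) (1 : K)) = C (MonoidAlgebra.single m 1) * C (MonoidAlgebra.single n 1)
    rw [← C_mul, MonoidAlgebra.single_mul_single, one_mul]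

lemma ch_tuX (m : M) : TPt.ch m (tuX M K) = C (MonoidAlgebra.single (Multiplicative.ofAdd m) (1 : K)) := rfl

variable (R K M) in
/-- constants `K → K[M][X]` -/
noncomputable def kE : K →ₐ[R] (MonoidAlgebra K (Multiplicative M))[X] :=
  (CAlgHom : MonoidAlgebra K (Multiplicative M) →ₐ[R] _).comp
    (MonoidAlgebra.singleOneAlgHom (R := R) (A := K) (M := Multiplicative M))

lemma kE_apply (c : K) : kE M R K c = C (MonoidAlgebra.single 1 c) := rfl

lemma kE_injective : Function.Injective (kE M R K) := (kE M R K).toRingHom.injective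

/-- An equivariant family of curves is a root subgroup. -/
theorem Curve.exists_eq_uu [P.IsReduced] {D : RCell P b R A K} (F : Curve R A K) {m : M} (hm : m ≠ 0)
    (hF : F.Eq D m) : ∃ (a : idx) (r : K), P.root a = m ∧ r ≠ 0 ∧
      ∀ {B : Type u} [CommRing B] [Algebra R B] (φ : K →ₐ[R] B) (x : B),
        F.V φ x = D.uu a φ (φ r * x) := by
  classical
  obtain ⟨p, τ, hpτ⟩ := D.isCell_curve F hm hF
  -- values at a point
  have hval : ∀ {B : Type u} [CommRing B] [Algebra R B] (φ : K →ₐ[R] B) (x : B),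
      F.V φ x = ((allList b).map (fun a => D.uu a φ (pe φ x (p a)))).prod * D.i φ (TPt.map (pe φ x) τ) := by
    intro B _ _ φ x
    rw [F.V_eq, hpτ, Pt.map_mul, Pt.map_list_prod, D.i_nat, List.map_map, pe_comp_kC]
    congr 2
    refine List.map_congr_left fun a _ => ?_
    change Pt.map (pe φ x) (D.uu a (kC R K) (p a)) = _
    rw [D.uu_nat, pe_comp_kC]
  have hone : ∀ {B : Type u} [CommRing B] [Algebra R B] (φ : K →ₐ[R] B),
      (1 : Pt R A B) = ((allList b).map (fun a => D.uu a φ ((fun _ => (0 : B)) a))).prod * D.i φ 1 := by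
    intro B _ _ φ
    have h : ((allList b).map (fun a => D.uu a φ ((0 : B)))).prod = 1 := by
      apply List.prod_eq_one
      intro z hz
      obtain ⟨c, -, rfl⟩ := List.mem_map.mp hz
      exact D.uu_zero_w φ c
    rw [h, map_one, mul_one]
  -- the torus part is trivial
  have h0 := hval (AlgHom.id R K) 0
  rw [F.zero, hone] at h0
  obtain ⟨hp0, hτ0⟩ := D.cell_inj _ _ _ _ _ h0
  have hτ : τ = 1 := by
    apply TPt.ext_ch
    intro m'
    have h1 : IsUnit (TPt.ch m' τ) := TPt.isUnit_ch _ _
    obtain ⟨c, -, hc⟩ := Polynomial.isUnit_iff.1 h1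
    have h2 : TPt.ch m' (TPt.map (pe (AlgHom.id R K) 0) τ) = 1 := by rw [← hτ0]; exact TPt.ch_one m'
    rw [TPt.ch_map, ← hc, pe_C] at h2
    rw [← hc, TPt.ch_one]
    have h3 : c = 1 := h2
    rw [h3, C_1]
  have hval' : ∀ {B : Type u} [CommRing B] [Algebra R B] (φ : K →ₐ[R] B) (x : B),
      F.V φ x = ((allList b).map (fun a => D.uu a φ (pe φ x (p a)))).prod * D.i φ 1 := by
    intro B _ _ φ x
    rw [hval, hτ, map_one]
  -- weights of the coefficients
  have hwt : ∀ (c : idx) (n : ℕ), (p c).coeff n ≠ 0 → P.root c = n • m := by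
    intro c n hn
    have h1 := hF (kE M R K) (tuX M K) X
    rw [hval' (kE M R K) X, D.conj_cell, hval' (kE M R K)] at h1
    have h2 := congrFun (D.cell_inj _ _ _ _ _ h1).1 c
    rw [ch_tuX, ch_tuX] at h2
    have h3 := congrArg (fun q => Polynomial.coeff q n) h2
    have h4 : ∀ q : K[X], pe (kE M R K) X q = q.map (MonoidAlgebra.singleOneRingHom) := by
      intro q
      rfl
    have h5 : ∀ (s : MonoidAlgebra K (Multiplicative M)) (q : K[X]), (pe (kE M R K) (C s * X) q).coeff n =
        s ^ n * MonoidAlgebra.single 1 (q.coeff n) := by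
      intro s q
      have h6 : pe (kE M R K) (C s * X) q = (q.map (MonoidAlgebra.singleOneRingHom)).comp (C s * X) := by
        rw [pe_apply, Polynomial.comp, Polynomial.eval₂_map]
        rfl
      rw [h6, Polynomial.comp_C_mul_X_coeff, Polynomial.coeff_map]
      rw [mul_comm]
      rfl
    simp only [Polynomial.coeff_C_mul] at h3
    rw [h5, h4, Polynomial.coeff_map] at h3
    change MonoidAlgebra.single (Multiplicative.ofAdd (P.root c)) (1 : K) *
      MonoidAlgebra.single 1 ((p c).coeff n) = _ at h3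
    rw [MonoidAlgebra.single_mul_single, mul_one, one_mul, MonoidAlgebra.single_pow,
      MonoidAlgebra.single_mul_single, mul_one, one_pow, one_mul] at h3
    have h7 := congrArg (fun z : MonoidAlgebra K (Multiplicative M) => z.coeff
      (Multiplicative.ofAdd (P.root c))) h3
    simp only [MonoidAlgebra.coeff_single, Finsupp.single_eq_same] at h7
    by_contra hne
    rw [Finsupp.single_eq_of_ne] at h7
    · exact hn h7
    · intro h8
      exact hne (congrArg Multiplicative.toAdd h8)
  -- the coefficient of degree one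
  have hc0 : ∀ c, (p c).coeff 0 = 0 := by
    intro c
    have h1 := congrFun hp0 c
    rw [Polynomial.coeff_zero_eq_eval_zero]
    exact h1.symm
  have hex : ∃ a, (p a).coeff 1 ≠ 0 := by
    by_contra hc
    push Not at hc
    have h1 : ∀ c, pe (eInl R K) (inr 1) (p c) = 0 := by
      intro c
      have h2 : X ^ 2 ∣ p c := by
        rw [Polynomial.X_pow_dvd_iff]
        intro d hd
        interval_cases d
        · exact hc0 c
        · exact hc c
      obtain ⟨q, hq⟩ := h2
      rw [hq, map_mul, map_pow, pe_X, pow_two, TrivSqZeroExt.inr_mul_inr, zero_mul]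
    have h2 : F.V (eInl R K) (inr 1) = F.V (eInl R K) 0 := by
      rw [F.zero, hval', hone (eInl R K)]
      simp only [h1]
    have h3 := congrArg TrivSqZeroExt.snd (F.inj _ h2)
    simp at h3
  obtain ⟨a, ha⟩ := hex
  have ham : P.root a = m := by
    rw [hwt a 1 ha, one_smul]
  have hred : ∀ (c : idx) (n : ℕ), (p c).coeff n ≠ 0 → c = a ∧ n = 1 := by
    intro c n hn
    have h1 := hwt c n hn
    rw [← ham] at h1
    have h2 : ¬ LinearIndependent ℤ ![P.root a, P.root c] := by
      rw [LinearIndependent.pair_iff]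
      push Not
      refine ⟨n, -1, ?_, fun _ => by norm_num⟩
      rw [h1, neg_smul, one_smul, natCast_zsmul, add_neg_cancel]
    have hne : P.root a ≠ 0 := P.ne_zero a
    rcases RootPairing.IsReduced.eq_or_eq_neg a c h2 with h3 | h3
    · have h4 : a = c := P.root.injective h3
      refine ⟨h4.symm, ?_⟩
      rw [← h3] at h1
      have h5 : ((n : ℤ) - 1) • P.root a = 0 := by
        rw [sub_smul, one_smul, natCast_zsmul, ← h1, sub_self]
      rcases smul_eq_zero.1 h5 with h6 | h6
      · omega
      · exact absurd h6 hne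
    · have h4 : P.root c = - P.root a := by rw [h3, neg_neg]
      rw [h4] at h1
      have h5 : ((n : ℤ) + 1) • P.root a = 0 := by
        rw [add_smul, one_smul, natCast_zsmul, ← h1, neg_add_cancel]
      rcases smul_eq_zero.1 h5 with h6 | h6
      · omega
      · exact absurd h6 hne
  refine ⟨a, (p a).coeff 1, ham, ha, ?_⟩
  intro B _ _ φ x
  rw [hval', D.uu_eq_cell]
  congr 2
  refine List.map_congr_left fun c _ => ?_
  congr 1
  by_cases hca : c = a
  · subst hca
    have h1 : p c = C ((p c).coeff 1) * X := by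
      ext n
      rw [Polynomial.coeff_C_mul, Polynomial.coeff_X]
      by_cases hn : 1 = n
      · rw [if_pos hn, mul_one, hn]
      · rw [if_neg hn, mul_zero]
        by_contra h
        exact hn (hred c n h).2.symm
    rw [Pi.single_eq_same]
    conv_lhs => rw [h1]
    rw [map_mul, pe_C, pe_X]
  · have h1 : p c = 0 := by
      ext n
      rw [Polynomial.coeff_zero]
      by_contra h
      exact hca (hred c n h).1
    rw [Pi.single_eq_of_ne hca, h1, map_zero]

end closed

end RCell

end Groth.Agent.Sga3B.MT
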