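import Groth.Agent.Sga3B.CellUP
import Groth.Agent.Sga3B.PinCell
import Mathlib.Algebra.DualNumber
import Mathlib.RingTheory.TensorProduct.Basic
import Mathlib.LinearAlgebra.RootSystem.Base

/-!
# Infinitesimal automorphisms of an affine group functor

`Spec A` is an affine group functor over `R` (`PtGrp R A`, `Pt R A B = G(B)`).  For an `R`-algebra `B`,
`InfAut R A B` is the `B`-module `ker (Aut G (B[ε]) → Aut G (B))` = Lie algebra of `Aut G`, realised as
the module of derivations `A → B ⊗ A` compatible with the group law.  An element `x` gives, for all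
`φ : B → B'`, a group homomorphism `x.app φ : G(B') → G(B'[ε])` lifting the identity, and is determined
by these.
-/

set_option autoImplicit false
set_option linter.unusedSectionVars false
set_option linter.unusedVariables false
universe u

open TensorProduct TrivSqZeroExt

namespace Groth.Agent.Sga3B.MT

open Groth.Agent.Sga3B.Cell

/-- `B[ε]` -/
abbrev Eps (B : Type u) [CommRing B] : Type u := DualNumber B

section eps

variable {R B C E : Type u} [CommRing R] [CommRing B] [Algebra R B] [CommRing C] [Algebra R C]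
  [CommRing E] [Algebra R E]

/-- the constants `B → B[ε]` -/
def eInl (R B : Type u) [CommRing R] [CommRing B] [Algebra R B] : B →ₐ[R] Eps B :=
  inlAlgHom R B B

/-- the reduction `B[ε] → B` -/
def eFst (R B : Type u) [CommRing R] [CommRing B] [Algebra R B] : Eps B →ₐ[R] B :=
  fstHom R B B

@[simp] lemma eInl_apply (b : B) : eInl R B b = inl b := rfl
@[simp] lemma eFst_apply (b : Eps B) : eFst R B b = b.fst := rfl

/-- functoriality of `B[ε]` -/
def eMap (φ : B →ₐ[R] C) : Eps B →ₐ[R] Eps C where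
  toFun x := (φ x.fst, φ x.snd)
  map_one' := by ext <;> simp
  map_mul' x y := by ext <;> simp [mul_comm]
  map_zero' := by ext <;> simp
  map_add' x y := by ext <;> simp
  commutes' r := by ext <;> simp [algebraMap_eq_inl']

@[simp] lemma fst_eMap (φ : B →ₐ[R] C) (x : Eps B) : (eMap φ x).fst = φ x.fst := rfl
@[simp] lemma snd_eMap (φ : B →ₐ[R] C) (x : Eps B) : (eMap φ x).snd = φ x.snd := rfl

lemma eMap_comp (φ : B →ₐ[R] C) (ψ : C →ₐ[R] E) : eMap (ψ.comp φ) = (eMap ψ).comp (eMap φ) := rfl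

lemma eMap_id : eMap (AlgHom.id R B) = AlgHom.id R (Eps B) := rfl

lemma eMap_comp_eInl (φ : B →ₐ[R] C) : (eMap φ).comp (eInl R B) = (eInl R C).comp φ := by
  ext x <;> simp

lemma eFst_comp_eMap (φ : B →ₐ[R] C) : (eFst R C).comp (eMap φ) = φ.comp (eFst R B) := rfl

lemma eFst_comp_eInl : (eFst R B).comp (eInl R B) = AlgHom.id R B := by ext; simp

lemma eMap_injective {φ : B →ₐ[R] C} (h : Function.Injective φ) : Function.Injective (eMap φ) := by
  intro x y hxy
  ext
  · exact h (by simpa using congrArg fst hxy)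
  · exact h (by simpa using congrArg snd hxy)

/-- `ε ↦ b ε` -/
def eScale (R : Type u) {B : Type u} [CommRing R] [CommRing B] [Algebra R B] (b : B) :
    Eps B →ₐ[R] Eps B where
  toFun x := (x.fst, b * x.snd)
  map_one' := by ext <;> simp
  map_mul' x y := by ext <;> simp; ring
  map_zero' := by ext <;> simp
  map_add' x y := by ext <;> simp [mul_add]
  commutes' r := by ext <;> simp [algebraMap_eq_inl']

@[simp] lemma fst_eScale (b : B) (x : Eps B) : (eScale R b x).fst = x.fst := rfl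
@[simp] lemma snd_eScale (b : B) (x : Eps B) : (eScale R b x).snd = b * x.snd := rfl

end eps

section VF

variable {R A B : Type u} [CommRing R] [CommRing A] [Algebra R A] [CommRing B] [Algebra R B]

/-- Leibniz rule for a linear map `A → B ⊗ A`. -/
def IsVF (d : A →ₗ[R] B ⊗[R] A) : Prop :=
  ∀ f f' : A, d (f * f') = ((1 : B) ⊗ₜ[R] f) * d f' + ((1 : B) ⊗ₜ[R] f') * d f

variable {B' C : Type u} [CommRing B'] [Algebra R B'] [CommRing C] [Algebra R C]

/-- evaluation of a function on `G_B` at a point over `φ : B → B'`. -/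
noncomputable def evp (φ : B →ₐ[R] B') (g : Pt R A B') : B ⊗[R] A →ₐ[R] B' :=
  Algebra.TensorProduct.lift φ g.hom (fun _ _ => Commute.all _ _)

@[simp] lemma evp_tmul (φ : B →ₐ[R] B') (g : Pt R A B') (b : B) (f : A) :
    evp φ g (b ⊗ₜ[R] f) = φ b * g.hom f := by
  simp [evp]

lemma comp_evp (ψ : B' →ₐ[R] C) (φ : B →ₐ[R] B') (g : Pt R A B') :
    ψ.comp (evp φ g) = evp (ψ.comp φ) (Pt.map ψ g) := by
  apply Algebra.TensorProduct.ext' 
  intro b f
  simp

lemma evp_comp_apply (ψ : B' →ₐ[R] C) (φ : B →ₐ[R] B') (g : Pt R A B') (z : B ⊗[R] A) :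
    evp (ψ.comp φ) (Pt.map ψ g) z = ψ (evp φ g z) :=
  (congrArg (fun k : B ⊗[R] A →ₐ[R] C => k z) (comp_evp ψ φ g)).symm

/-- the point of `G(B'[ε])` attached to a vector field and a point. -/
noncomputable def vpt (d : A →ₗ[R] B ⊗[R] A) (hd : IsVF d) (φ : B →ₐ[R] B') (g : Pt R A B') :
    Pt R A (Eps B') :=
  Pt.mk (AlgHom.ofLinearMap
    { toFun := fun f => (inl (g.hom f) + inr (evp φ g (d f)) : Eps B')
      map_add' := fun f f' => by ext <;> simp
      map_smul' := fun r f => by ext <;> simp }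
    (by
      have h := hd 1 1
      have h1 : d 1 = 0 := by
        have e : ((1 : B) ⊗ₜ[R] (1 : A)) = 1 := rfl
        rw [mul_one, e, one_mul] at h
        simpa using h
      ext <;> simp [h1])
    (fun f f' => by
      ext
      · simp
      · simp [hd f f', mul_comm]))

@[simp] lemma fst_vpt (d : A →ₗ[R] B ⊗[R] A) (hd : IsVF d) (φ : B →ₐ[R] B') (g : Pt R A B') (f : A) :
    ((vpt d hd φ g).hom f).fst = g.hom f := by
  change (inl (g.hom f) + inr (evp φ g (d f)) : Eps B').fst = _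
  simp

@[simp] lemma snd_vpt (d : A →ₗ[R] B ⊗[R] A) (hd : IsVF d) (φ : B →ₐ[R] B') (g : Pt R A B') (f : A) :
    ((vpt d hd φ g).hom f).snd = evp φ g (d f) := by
  change (inl (g.hom f) + inr (evp φ g (d f)) : Eps B').snd = _
  simp

lemma vpt_nat (d : A →ₗ[R] B ⊗[R] A) (hd : IsVF d) (φ : B →ₐ[R] B') (ψ : B' →ₐ[R] C)
    (g : Pt R A B') : Pt.map (eMap ψ) (vpt d hd φ g) = vpt d hd (ψ.comp φ) (Pt.map ψ g) := by
  apply Pt.ext
  intro f
  ext
  · simp
  · simp [evp_comp_apply]

lemma map_eFst_vpt (d : A →ₗ[R] B ⊗[R] A) (hd : IsVF d) (φ : B →ₐ[R] B') (g : Pt R A B') :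
    Pt.map (eFst R B') (vpt d hd φ g) = g := by
  apply Pt.ext
  intro f
  simp

/-- two independent infinitesimals with all products zero -/
abbrev Eps2 (B : Type u) [CommRing B] : Type u := TrivSqZeroExt B (B × B)

/-- a linear map `B × B → B` induces `B[ε₁, ε₂] → B[ε]`. -/
def e2Map (R : Type u) {B : Type u} [CommRing R] [CommRing B] [Algebra R B] (l : B × B →ₗ[B] B) :
    Eps2 B →ₐ[R] Eps B where
  toFun x := (x.fst, l x.snd)
  map_one' := by ext <;> simp
  map_mul' x y := by ext <;> simp [mul_comm]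
  map_zero' := by ext <;> simp
  map_add' x y := by ext <;> simp
  commutes' r := by ext <;> simp [algebraMap_eq_inl']

@[simp] lemma fst_e2Map (l : B × B →ₗ[B] B) (x : Eps2 B) : (e2Map R l x).fst = x.fst := rfl
@[simp] lemma snd_e2Map (l : B × B →ₗ[B] B) (x : Eps2 B) : (e2Map R l x).snd = l x.snd := rfl

/-- gluing of two points of `G(B[ε])` with the same reduction -/
def glue2 (P Q : Pt R A (Eps B)) (h : ∀ f, (P.hom f).fst = (Q.hom f).fst) : Pt R A (Eps2 B) :=
  Pt.mk (AlgHom.ofLinearMap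
    { toFun := fun f => (((P.hom f).fst, ((P.hom f).snd, (Q.hom f).snd)) : Eps2 B)
      map_add' := fun f f' => by ext <;> simp
      map_smul' := fun r f => by ext <;> simp }
    (by ext <;> simp)
    (fun f f' => by
      ext
      · simp
      · simp
      · simp [h]))

@[simp] lemma fst_glue2 (P Q : Pt R A (Eps B)) (h : ∀ f, (P.hom f).fst = (Q.hom f).fst) (f : A) :
    ((glue2 P Q h).hom f).fst = (P.hom f).fst := rfl

@[simp] lemma snd_glue2 (P Q : Pt R A (Eps B)) (h : ∀ f, (P.hom f).fst = (Q.hom f).fst) (f : A) :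
    ((glue2 P Q h).hom f).snd = ((P.hom f).snd, (Q.hom f).snd) := rfl

variable [PtGrp R A]

/-- compatibility with the group law -/
def IsGrpVF (d : A →ₗ[R] B ⊗[R] A) (hd : IsVF d) : Prop :=
  ∀ (B' : Type u) [CommRing B'] [Algebra R B'] (φ : B →ₐ[R] B') (g h : Pt R A B'),
    vpt d hd φ (g * h) = vpt d hd φ g * vpt d hd φ h

/-- Key lemma: linear combinations of compatible products. -/
lemma mul_linComb {P₁ P₂ Q₁ Q₂ S₁ S₂ : Pt R A (Eps B)}
    (hP : ∀ f, (P₁.hom f).fst = (P₂.hom f).fst) (hQ : ∀ f, (Q₁.hom f).fst = (Q₂.hom f).fst)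
    (hS : ∀ f, (S₁.hom f).fst = (S₂.hom f).fst)
    (h₁ : S₁ = P₁ * Q₁) (h₂ : S₂ = P₂ * Q₂) (l : B × B →ₗ[B] B) :
    Pt.map (e2Map R l) (glue2 S₁ S₂ hS) =
      Pt.map (e2Map R l) (glue2 P₁ P₂ hP) * Pt.map (e2Map R l) (glue2 Q₁ Q₂ hQ) := by
  rw [← Pt.map_mul]
  congr 1
  have e1 : ∀ (P Q : Pt R A (Eps B)) (h : ∀ f, (P.hom f).fst = (Q.hom f).fst),
      Pt.map (e2Map R (LinearMap.fst B B B)) (glue2 P Q h) = P := by
    intro P Q h
    apply Pt.ext; intro f; ext <;> simp
  have e2 : ∀ (P Q : Pt R A (Eps B)) (h : ∀ f, (P.hom f).fst = (Q.hom f).fst),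
      Pt.map (e2Map R (LinearMap.snd B B B)) (glue2 P Q h) = Q := by
    intro P Q h
    apply Pt.ext; intro f; ext <;> simp [h]
  have e3 : Pt.map (e2Map R (LinearMap.fst B B B)) (glue2 S₁ S₂ hS) =
      Pt.map (e2Map R (LinearMap.fst B B B)) (glue2 P₁ P₂ hP * glue2 Q₁ Q₂ hQ) := by
    rw [Pt.map_mul, e1, e1, e1, h₁]
  have e4 : Pt.map (e2Map R (LinearMap.snd B B B)) (glue2 S₁ S₂ hS) =
      Pt.map (e2Map R (LinearMap.snd B B B)) (glue2 P₁ P₂ hP * glue2 Q₁ Q₂ hQ) := by
    rw [Pt.map_mul, e2, e2, e2, h₂]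
  apply Pt.ext
  intro f
  have a3 := congrArg (fun k : Pt R A (Eps B) => k.hom f) e3
  have a4 := congrArg (fun k : Pt R A (Eps B) => k.hom f) e4
  simp only [Pt.map_hom_apply] at a3 a4
  ext
  · simpa using congrArg fst a3
  · simpa using congrArg snd a3
  · simpa using congrArg snd a4

variable (R A B) in
/-- The submodule of infinitesimal automorphisms of `G_B`. -/
noncomputable def infAutSub : Submodule B (A →ₗ[R] B ⊗[R] A) where
  carrier := {d | ∃ hd : IsVF d, IsGrpVF d hd}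
  zero_mem' := by
    refine ⟨fun f f' => by simp, ?_⟩
    intro B' _ _ φ g h
    have e : ∀ k : Pt R A B', vpt (0 : A →ₗ[R] B ⊗[R] A) (fun f f' => by simp) φ k =
        Pt.map (eInl R B') k := by
      intro k
      apply Pt.ext; intro f; ext <;> simp
    rw [e, e, e, Pt.map_mul]
  add_mem' := by
    rintro d d' ⟨hd, h⟩ ⟨hd', h'⟩
    have hdd : IsVF (d + d') := fun f f' => by
      simp only [LinearMap.add_apply, hd f f', hd' f f']; ring
    refine ⟨hdd, ?_⟩
    intro B' _ _ φ g k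
    have e : ∀ k : Pt R A B', vpt (d + d') hdd φ k =
        Pt.map (e2Map R (LinearMap.coprod LinearMap.id LinearMap.id))
          (glue2 (vpt d hd φ k) (vpt d' hd' φ k) (fun f => by simp)) := by
      intro k
      apply Pt.ext; intro f; ext <;> simp
    rw [e, e, e]
    exact mul_linComb _ _ _ (h B' φ g k) (h' B' φ g k) _
  smul_mem' := by
    rintro b d ⟨hd, h⟩
    have hdd : IsVF (b • d) := fun f f' => by
      simp only [LinearMap.smul_apply, hd f f', smul_add, mul_smul_comm]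
    refine ⟨hdd, ?_⟩
    intro B' _ _ φ g k
    have e : ∀ k : Pt R A B', vpt (b • d) hdd φ k =
        Pt.map (eScale R (φ b)) (vpt d hd φ k) := by
      intro k
      have e0 : ∀ z : B ⊗[R] A, evp φ k (b • z) = φ b * evp φ k z := by
        intro z
        have : b • z = (b ⊗ₜ[R] (1 : A)) * z := by
          induction z using TensorProduct.induction_on with
          | zero => simp
          | tmul x y => simp [TensorProduct.smul_tmul']
          | add x y hx hy => rw [smul_add, hx, hy, mul_add]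
        rw [this, map_mul, evp_tmul, map_one, mul_one]
      apply Pt.ext; intro f; ext <;> simp [e0]
    rw [e, e, e, h B' φ g k, Pt.map_mul]

variable (R A B) in
/-- **The module of infinitesimal automorphisms of `G_B`.** -/
def InfAut : Type u := ↥(infAutSub R A B)

end VF

namespace InfAut

variable {R A B : Type u} [CommRing R] [CommRing A] [Algebra R A] [CommRing B] [Algebra R B]
  [PtGrp R A]

noncomputable instance : AddCommGroup (InfAut R A B) := inferInstanceAs (AddCommGroup (infAutSub R A B))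
noncomputable instance : Module B (InfAut R A B) := inferInstanceAs (Module B (infAutSub R A B))

@[simp] lemma val_add (x y : InfAut R A B) : (x + y).1 = x.1 + y.1 := rfl
@[simp] lemma val_smul (b : B) (x : InfAut R A B) : (b • x).1 = b • x.1 := rfl
@[simp] lemma val_zero : (0 : InfAut R A B).1 = 0 := rfl
@[simp] lemma val_neg (x : InfAut R A B) : (-x).1 = -x.1 := rfl
@[simp] lemma val_sub (x y : InfAut R A B) : (x - y).1 = x.1 - y.1 := rfl

variable {B' C : Type u} [CommRing B'] [Algebra R B'] [CommRing C] [Algebra R C]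

/-- the group homomorphism `G(B') → G(B'[ε])` of an infinitesimal automorphism over `B`, for
`φ : B → B'`. -/
noncomputable def app (x : InfAut R A B) (φ : B →ₐ[R] B') : Pt R A B' →* Pt R A (Eps B') :=
  MonoidHom.mk' (fun g => vpt x.1 x.2.choose φ g) (fun g h => x.2.choose_spec B' φ g h)

@[simp] lemma fst_app (x : InfAut R A B) (φ : B →ₐ[R] B') (g : Pt R A B') (f : A) :
    ((x.app φ g).hom f).fst = g.hom f := fst_vpt _ x.2.choose φ g f

@[simp] lemma snd_app (x : InfAut R A B) (φ : B →ₐ[R] B') (g : Pt R A B') (f : A) :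
    ((x.app φ g).hom f).snd = evp φ g (x.1 f) := snd_vpt _ x.2.choose φ g f

lemma app_nat (x : InfAut R A B) (φ : B →ₐ[R] B') (ψ : B' →ₐ[R] C) (g : Pt R A B') :
    Pt.map (eMap ψ) (x.app φ g) = x.app (ψ.comp φ) (Pt.map ψ g) :=
  vpt_nat _ x.2.choose φ ψ g

@[simp] lemma map_eFst_app (x : InfAut R A B) (φ : B →ₐ[R] B') (g : Pt R A B') :
    Pt.map (eFst R B') (x.app φ g) = g :=
  map_eFst_vpt _ x.2.choose φ g

/-- the universal point of `G` over `B ⊗ A` -/
def univ (R A B : Type u) [CommRing R] [CommRing A] [Algebra R A] [CommRing B] [Algebra R B] :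
    Pt R A (B ⊗[R] A) := Pt.mk Algebra.TensorProduct.includeRight

/-- the constants `B → B ⊗ A` -/
def cst (R A B : Type u) [CommRing R] [CommRing A] [Algebra R A] [CommRing B] [Algebra R B] :
    B →ₐ[R] B ⊗[R] A := Algebra.TensorProduct.includeLeft

lemma evp_cst_univ : evp (cst R A B) (univ R A B) = AlgHom.id R (B ⊗[R] A) := by
  apply Algebra.TensorProduct.ext'
  intro b f
  simp [cst, univ]

lemma evp_comp_cst (φ : B →ₐ[R] B') (g : Pt R A B') : (evp φ g).comp (cst R A B) = φ := by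
  ext b
  simp [cst]

lemma map_evp_univ (φ : B →ₐ[R] B') (g : Pt R A B') : Pt.map (evp φ g) (univ R A B) = g := by
  apply Pt.ext
  intro f
  simp [univ]

lemma ext_univ {x y : InfAut R A B}
    (h : x.app (cst R A B) (univ R A B) = y.app (cst R A B) (univ R A B)) : x = y := by
  apply Subtype.ext
  apply LinearMap.ext
  intro f
  have h1 := congrArg (fun k : Pt R A (Eps (B ⊗[R] A)) => (k.hom f).snd) h
  simpa [evp_cst_univ] using h1

lemma ext_app {x y : InfAut R A B}
    (h : ∀ (B' : Type u) [CommRing B'] [Algebra R B'] (φ : B →ₐ[R] B') (g : Pt R A B'),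
      x.app φ g = y.app φ g) : x = y := ext_univ (h _ _ _)

/-- an infinitesimal automorphism from a natural family of homomorphisms -/
theorem exists_of_family (θ : ∀ (B' : Type u) [CommRing B'] [Algebra R B'] (_ : B →ₐ[R] B'),
      Pt R A B' → Pt R A (Eps B'))
    (hnat : ∀ {B' C : Type u} [CommRing B'] [Algebra R B'] [CommRing C] [Algebra R C]
      (φ : B →ₐ[R] B') (ψ : B' →ₐ[R] C) (g : Pt R A B'),
      Pt.map (eMap ψ) (θ B' φ g) = θ C (ψ.comp φ) (Pt.map ψ g))
    (hred : ∀ {B' : Type u} [CommRing B'] [Algebra R B'] (φ : B →ₐ[R] B') (g : Pt R A B'),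
      Pt.map (eFst R B') (θ B' φ g) = g)
    (hmul : ∀ {B' : Type u} [CommRing B'] [Algebra R B'] (φ : B →ₐ[R] B') (g h : Pt R A B'),
      θ B' φ (g * h) = θ B' φ g * θ B' φ h) :
    ∃ x : InfAut R A B, ∀ {B' : Type u} [CommRing B'] [Algebra R B'] (φ : B →ₐ[R] B')
      (g : Pt R A B'), x.app φ g = θ B' φ g := by
  let U := θ _ (cst R A B) (univ R A B)
  have hU : ∀ f, (U.hom f).fst = (1 : B) ⊗ₜ[R] f := by
    intro f
    exact congrArg (fun k : Pt R A (B ⊗[R] A) => k.hom f) (hred (cst R A B) (univ R A B))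
  let d : A →ₗ[R] B ⊗[R] A :=
    { toFun := fun f => (U.hom f).snd
      map_add' := fun f f' => by simp
      map_smul' := fun r f => by simp }
  have hd : IsVF d := by
    intro f f'
    change (U.hom (f * f')).snd = _
    rw [map_mul, DualNumber.snd_mul, hU, hU]
    change _ * (U.hom f').snd + (U.hom f).snd * _ = _ * (U.hom f').snd + _ * (U.hom f).snd
    ring
  have key : ∀ {B' : Type u} [CommRing B'] [Algebra R B'] (φ : B →ₐ[R] B') (g : Pt R A B'),
      vpt d hd φ g = θ B' φ g := by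
    intro B' _ _ φ g
    have h1 := hnat (cst R A B) (evp φ g) (univ R A B)
    rw [evp_comp_cst, map_evp_univ] at h1
    rw [← h1]
    apply Pt.ext
    intro f
    ext
    · rw [fst_vpt, Pt.map_hom_apply, fst_eMap]
      change _ = evp φ g ((U.hom f).fst)
      rw [hU]
      simp
    · rw [snd_vpt]
      rfl
  refine ⟨⟨d, hd, ?_⟩, ?_⟩
  · intro B' _ _ φ g h
    rw [key, key, key, hmul]
  · intro B' _ _ φ g
    exact key φ g

/-- functoriality in `B` -/
theorem exists_map (ψ : B →ₐ[R] C) (x : InfAut R A B) : ∃ y : InfAut R A C,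
    ∀ {B' : Type u} [CommRing B'] [Algebra R B'] (φ : C →ₐ[R] B') (g : Pt R A B'),
      y.app φ g = x.app (φ.comp ψ) g :=
  exists_of_family (fun _ _ _ φ => x.app (φ.comp ψ)) (fun φ ψ' g => app_nat x _ ψ' g)
    (fun φ g => map_eFst_app x _ g) (fun φ g h => map_mul (x.app (φ.comp ψ)) g h)

lemma snd_app_add (x y : InfAut R A B) (φ : B →ₐ[R] B') (g : Pt R A B') (f : A) :
    (((x + y).app φ g).hom f).snd = ((x.app φ g).hom f).snd + ((y.app φ g).hom f).snd := by
  simp

lemma app_smul (b : B) (x : InfAut R A B) (φ : B →ₐ[R] B') (g : Pt R A B') :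
    (b • x).app φ g = Pt.map (eScale R (φ b)) (x.app φ g) := by
  have e0 : ∀ z : B ⊗[R] A, evp φ g (b • z) = φ b * evp φ g z := by
    intro z
    have : b • z = (b ⊗ₜ[R] (1 : A)) * z := by
      induction z using TensorProduct.induction_on with
      | zero => simp
      | tmul x y => simp [TensorProduct.smul_tmul']
      | add x y hx hy => rw [smul_add, hx, hy, mul_add]
    rw [this, map_mul, evp_tmul, map_one, mul_one]
  apply Pt.ext; intro f; ext <;> simp [e0]

lemma app_zero (φ : B →ₐ[R] B') (g : Pt R A B') :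
    (0 : InfAut R A B).app φ g = Pt.map (eInl R B') g := by
  apply Pt.ext; intro f; ext <;> simp

/-- Functoriality of `InfAut` in `B`. -/
noncomputable def map (ψ : B →ₐ[R] C) : InfAut R A B →+ InfAut R A C where
  toFun x := (exists_map ψ x).choose
  map_zero' := by
    apply ext_app
    intro B' _ _ φ g
    rw [(exists_map ψ 0).choose_spec, app_zero, app_zero]
  map_add' x y := by
    apply ext_app
    intro B' _ _ φ g
    rw [(exists_map ψ (x + y)).choose_spec]
    apply Pt.ext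
    intro f
    ext
    · simp
    · rw [snd_app_add, snd_app_add, (exists_map ψ x).choose_spec, (exists_map ψ y).choose_spec]

@[simp] lemma app_map (ψ : B →ₐ[R] C) (x : InfAut R A B) (φ : C →ₐ[R] B') (g : Pt R A B') :
    (map ψ x).app φ g = x.app (φ.comp ψ) g := (exists_map ψ x).choose_spec φ g

lemma map_smul (ψ : B →ₐ[R] C) (b : B) (x : InfAut R A B) : map ψ (b • x) = ψ b • map ψ x := by
  apply ext_app
  intro B' _ _ φ g
  rw [app_map, app_smul, app_smul, app_map]
  rfl

lemma map_id (x : InfAut R A B) : map (AlgHom.id R B) x = x := by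
  apply ext_app
  intro B' _ _ φ g
  rw [app_map]
  rfl

lemma map_map {E : Type u} [CommRing E] [Algebra R E] (ψ : B →ₐ[R] C) (χ : C →ₐ[R] E)
    (x : InfAut R A B) : map χ (map ψ x) = map (χ.comp ψ) x := by
  apply ext_app
  intro B' _ _ φ g
  rw [app_map, app_map, app_map]
  rfl

/-- constant points -/
def inlPt (φ : B →ₐ[R] B') (g : Pt R A B) : Pt R A (Eps B') := Pt.map ((eInl R B').comp φ) g

theorem exists_Ad (g : Pt R A B) (x : InfAut R A B) : ∃ y : InfAut R A B,
    ∀ {B' : Type u} [CommRing B'] [Algebra R B'] (φ : B →ₐ[R] B') (h : Pt R A B'),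
      y.app φ h = inlPt φ g * x.app φ ((Pt.map φ g)⁻¹ * h * Pt.map φ g) * (inlPt φ g)⁻¹ := by
  refine exists_of_family (fun B' _ _ φ h =>
    inlPt φ g * x.app φ ((Pt.map φ g)⁻¹ * h * Pt.map φ g) * (inlPt φ g)⁻¹) ?_ ?_ ?_
  · intro B' C _ _ _ _ φ ψ h
    have e : Pt.map (eMap ψ) (inlPt φ g) = inlPt (ψ.comp φ) g := by
      apply Pt.ext; intro f; ext <;> simp [inlPt]
    rw [Pt.map_mul, Pt.map_mul, Pt.map_inv, e, app_nat, Pt.map_mul, Pt.map_mul, Pt.map_inv]
    rfl
  · intro B' _ _ φ h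
    have e : Pt.map (eFst R B') (inlPt φ g) = Pt.map φ g := by
      rw [inlPt, Pt.map_map]
      rfl
    rw [Pt.map_mul, Pt.map_mul, Pt.map_inv, e, map_eFst_app]
    group
  · intro B' _ _ φ h k
    have : (Pt.map φ g)⁻¹ * (h * k) * Pt.map φ g =
        ((Pt.map φ g)⁻¹ * h * Pt.map φ g) * ((Pt.map φ g)⁻¹ * k * Pt.map φ g) := by group
    rw [this, _root_.map_mul]
    group

/-- The action of `G(B)` on `InfAut` by conjugation. -/
noncomputable def Ad (g : Pt R A B) (x : InfAut R A B) : InfAut R A B := (exists_Ad g x).choose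

lemma app_Ad (g : Pt R A B) (x : InfAut R A B) (φ : B →ₐ[R] B') (h : Pt R A B') :
    (Ad g x).app φ h =
      inlPt φ g * x.app φ ((Pt.map φ g)⁻¹ * h * Pt.map φ g) * (inlPt φ g)⁻¹ :=
  (exists_Ad g x).choose_spec φ h

@[simp] lemma inlPt_mul (φ : B →ₐ[R] B') (g h : Pt R A B) :
    inlPt φ (g * h) = inlPt φ g * inlPt φ h := Pt.map_mul _ _ _

@[simp] lemma inlPt_inv (φ : B →ₐ[R] B') (g : Pt R A B) :
    inlPt φ g⁻¹ = (inlPt φ g)⁻¹ := Pt.map_inv _ _

@[simp] lemma inlPt_one (φ : B →ₐ[R] B') : inlPt φ (1 : Pt R A B) = 1 := Pt.map_one _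

lemma inlPt_map (φ : B →ₐ[R] C) (ψ : C →ₐ[R] B') (g : Pt R A B) :
    inlPt ψ (Pt.map φ g) = inlPt (ψ.comp φ) g := rfl

lemma map_eScale_inlPt (b : B') (φ : B →ₐ[R] B') (g : Pt R A B) :
    Pt.map (eScale R b) (inlPt φ g) = inlPt φ g := by
  apply Pt.ext; intro f; ext <;> simp [inlPt]

lemma Ad_one (x : InfAut R A B) : Ad 1 x = x := by
  apply ext_app
  intro B' _ _ φ h
  rw [app_Ad, Pt.map_one]
  simp

lemma Ad_mul (g h : Pt R A B) (x : InfAut R A B) : Ad (g * h) x = Ad g (Ad h x) := by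
  apply ext_app
  intro B' _ _ φ k
  rw [app_Ad, app_Ad, app_Ad, Pt.map_mul]
  simp only [inlPt_mul, mul_inv_rev, mul_assoc]

lemma Ad_inv_Ad (g : Pt R A B) (x : InfAut R A B) : Ad g⁻¹ (Ad g x) = x := by
  rw [← Ad_mul, inv_mul_cancel, Ad_one]

lemma Ad_Ad_inv (g : Pt R A B) (x : InfAut R A B) : Ad g (Ad g⁻¹ x) = x := by
  rw [← Ad_mul, mul_inv_cancel, Ad_one]

lemma map_Ad (ψ : B →ₐ[R] C) (g : Pt R A B) (x : InfAut R A B) :
    map ψ (Ad g x) = Ad (Pt.map ψ g) (map ψ x) := by
  apply ext_app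
  intro B' _ _ φ h
  rw [app_map, app_Ad, app_Ad, app_map]
  rfl

lemma Ad_smul (g : Pt R A B) (b : B) (x : InfAut R A B) : Ad g (b • x) = b • Ad g x := by
  apply ext_app
  intro B' _ _ φ h
  rw [app_Ad, app_smul, app_smul, app_Ad, Pt.map_mul, Pt.map_mul, Pt.map_inv, map_eScale_inlPt]

lemma glue_inl (φ : B →ₐ[R] B') (g : Pt R A B) :
    Pt.map (e2Map R (LinearMap.coprod LinearMap.id LinearMap.id))
      (glue2 (inlPt φ g) (inlPt φ g) (fun _ => rfl)) = inlPt φ g := by
  apply Pt.ext; intro f; ext <;> simp [inlPt]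

lemma app_add (x y : InfAut R A B) (φ : B →ₐ[R] B') (g : Pt R A B') :
    (x + y).app φ g = Pt.map (e2Map R (LinearMap.coprod LinearMap.id LinearMap.id))
      (glue2 (x.app φ g) (y.app φ g) (fun f => by simp)) := by
  apply Pt.ext; intro f; ext <;> simp

lemma Ad_add (g : Pt R A B) (x y : InfAut R A B) : Ad g (x + y) = Ad g x + Ad g y := by
  apply ext_app
  intro B' _ _ φ h
  rw [app_add (Ad g x) (Ad g y), app_Ad, app_add x y]
  have hfst : ∀ f, ((inlPt φ g * x.app φ ((Pt.map φ g)⁻¹ * h * Pt.map φ g)).hom f).fst =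
      ((inlPt φ g * y.app φ ((Pt.map φ g)⁻¹ * h * Pt.map φ g)).hom f).fst := by
    intro f
    have e : ∀ z : InfAut R A B, Pt.map (eFst R B') (inlPt φ g *
        z.app φ ((Pt.map φ g)⁻¹ * h * Pt.map φ g)) =
          Pt.map φ g * ((Pt.map φ g)⁻¹ * h * Pt.map φ g) := by
      intro z
      rw [Pt.map_mul, map_eFst_app]
      rfl
    exact (congrArg (fun k : Pt R A B' => k.hom f) (e x)).trans
      (congrArg (fun k : Pt R A B' => k.hom f) (e y)).symm
  have e1 := mul_linComb (R := R) (A := A) (S₁ := inlPt φ g * x.app φ ((Pt.map φ g)⁻¹ * h * Pt.map φ g))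
    (S₂ := inlPt φ g * y.app φ ((Pt.map φ g)⁻¹ * h * Pt.map φ g)) (P₁ := inlPt φ g) (P₂ := inlPt φ g)
    (Q₁ := x.app φ ((Pt.map φ g)⁻¹ * h * Pt.map φ g)) (Q₂ := y.app φ ((Pt.map φ g)⁻¹ * h * Pt.map φ g))
    (fun _ => rfl) (fun f => (fst_app _ _ _ _).trans (fst_app _ _ _ _).symm)
    hfst rfl rfl (LinearMap.coprod LinearMap.id LinearMap.id)
  have e2 := mul_linComb (R := R) (A := A) (S₁ := (Ad g x).app φ h) (S₂ := (Ad g y).app φ h)
    (P₁ := inlPt φ g * x.app φ ((Pt.map φ g)⁻¹ * h * Pt.map φ g))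
    (P₂ := inlPt φ g * y.app φ ((Pt.map φ g)⁻¹ * h * Pt.map φ g))
    (Q₁ := inlPt φ g⁻¹) (Q₂ := inlPt φ g⁻¹) hfst (fun _ => rfl)
    (fun f => (fst_app _ _ _ _).trans (fst_app _ _ _ _).symm)
    (by rw [app_Ad, inlPt_inv]) (by rw [app_Ad, inlPt_inv])
    (LinearMap.coprod LinearMap.id LinearMap.id)
  refine Eq.trans ?_ e2.symm
  rw [e1, glue_inl, glue_inl, inlPt_inv]

lemma map_val (ψ : B →ₐ[R] C) (x : InfAut R A B) (f : A) :
    (map ψ x).1 f = Algebra.TensorProduct.map ψ (AlgHom.id R A) (x.1 f) := by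
  have h1 := congrArg (fun k : Pt R A (Eps (C ⊗[R] A)) => (k.hom f).snd)
    (app_map ψ x (cst R A C) (univ R A C))
  simp only [snd_app, evp_cst_univ, AlgHom.id_apply] at h1
  rw [h1]
  congr 1
  apply Algebra.TensorProduct.ext'
  intro b f
  simp [cst, univ]

end InfAut

section RCell

variable {idx M : Type} [Fintype idx] [AddCommGroup M] [Module.Free ℤ M] [Module.Finite ℤ M]

/-- Split cell data for the group `G = Spec A` over `R`, over an `R`-algebra `B₀`: torus, root
homomorphisms, big cell, in functor-of-points form; the test rings are the `φ : B₀ → B`. -/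
structure RCell (P : RootPairing idx ℤ M (Module.Dual ℤ M)) (b : P.Base)
    (R A B₀ : Type u) [CommRing R] [CommRing A] [Algebra R A] [CommRing B₀] [Algebra R B₀]
    [PtGrp R A] where
  pairing_eq : P.toLinearMap = Module.Dual.eval ℤ M
  /-- the torus -/
  i : ∀ {B : Type u} [CommRing B] [Algebra R B] (_ : B₀ →ₐ[R] B), TPt M B →* Pt R A B
  i_nat : ∀ {B C : Type u} [CommRing B] [Algebra R B] [CommRing C] [Algebra R C] (φ : B₀ →ₐ[R] B)
    (ψ : B →ₐ[R] C) (t : TPt M B), Pt.map ψ (i φ t) = i (ψ.comp φ) (TPt.map ψ t)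
  i_inj : ∀ {B : Type u} [CommRing B] [Algebra R B] (φ : B₀ →ₐ[R] B), Function.Injective (i φ)
  /-- the root homomorphisms -/
  uu : idx → ∀ {B : Type u} [CommRing B] [Algebra R B] (_ : B₀ →ₐ[R] B), B → Pt R A B
  uu_add : ∀ (a : idx) {B : Type u} [CommRing B] [Algebra R B] (φ : B₀ →ₐ[R] B) (x y : B),
    uu a φ (x + y) = uu a φ x * uu a φ y
  uu_nat : ∀ (a : idx) {B C : Type u} [CommRing B] [Algebra R B] [CommRing C] [Algebra R C]
    (φ : B₀ →ₐ[R] B) (ψ : B →ₐ[R] C) (x : B), Pt.map ψ (uu a φ x) = uu a (ψ.comp φ) (ψ x)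
  rel : ∀ (a : idx) {B : Type u} [CommRing B] [Algebra R B] (φ : B₀ →ₐ[R] B) (t : TPt M B) (x : B),
    i φ t * uu a φ x * (i φ t)⁻¹ = uu a φ (TPt.ch (P.root a) t * x)
  /-- the rank one relation for the simple roots -/
  rank1 : ∀ a ∈ b.support, ∀ {B : Type u} [CommRing B] [Algebra R B] (φ : B₀ →ₐ[R] B) (x y : B)
    (v : Bˣ), (v : B) = 1 + x * y → uu a φ x * uu (P.reflectionPerm a a) φ y =
      uu (P.reflectionPerm a a) φ ((v⁻¹ : Bˣ) * y) * i φ (TPt.cow (P.coroot a) v) *
        uu a φ ((v⁻¹ : Bˣ) * x)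
  /-- conjugation by `n_a = u_a(1) u_{-a}(-1) u_a(1)` -/
  conj : ∀ a ∈ b.support, ∀ c : idx, ∃ r : B₀ˣ, ∀ {B : Type u} [CommRing B] [Algebra R B]
    (φ : B₀ →ₐ[R] B) (x : B),
    (uu a φ 1 * uu (P.reflectionPerm a a) φ (-1) * uu a φ 1) * uu c φ x *
      (uu a φ 1 * uu (P.reflectionPerm a a) φ (-1) * uu a φ 1)⁻¹ =
      uu (P.reflectionPerm a c) φ (φ r * x)
  /-- the big cell `U⁻ × U⁺ × T → G` is a monomorphism -/
  cell_inj : ∀ {B : Type u} [CommRing B] [Algebra R B] (φ : B₀ →ₐ[R] B) (x x' : idx → B)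
    (t t' : TPt M B),
    ((allList b).map (fun a => uu a φ (x a))).prod * i φ t =
      ((allList b).map (fun a => uu a φ (x' a))).prod * i φ t' → x = x' ∧ t = t'
  /-- the ideal whose complement is the big cell -/
  cellIdeal : Ideal (B₀ ⊗[R] A)
  cellIdeal_fg : cellIdeal.FG
  mem_cell_iff : ∀ {B : Type u} [CommRing B] [Algebra R B] (φ : B₀ →ₐ[R] B) (g : Pt R A B),
    (∃ (x : idx → B) (t : TPt M B), g = ((allList b).map (fun a => uu a φ (x a))).prod * i φ t) ↔
      cellIdeal.map (evp φ g).toRingHom = ⊤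

variable {P : RootPairing idx ℤ M (Module.Dual ℤ M)} {b : P.Base}
    {R A B₀ : Type u} [CommRing R] [CommRing A] [Algebra R A] [CommRing B₀] [Algebra R B₀]
    [PtGrp R A]

/-- `x` is the infinitesimal automorphism `d_c` of a linear form `c : Q → B` on the root lattice:
trivial on `T`, and `u_a(z) ↦ u_a((1 + ε c_a) z)`. -/
def RCell.IsDiag (D : RCell P b R A B₀) {B : Type u} [CommRing B] [Algebra R B] (φ₀ : B₀ →ₐ[R] B)
    (c : P.rootSpan ℤ →+ B) (x : InfAut R A B) : Prop :=
  (∀ {B' : Type u} [CommRing B'] [Algebra R B'] (ψ : B →ₐ[R] B') (t : TPt M B'),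
    x.app ψ (D.i (ψ.comp φ₀) t) = Pt.map (eInl R B') (D.i (ψ.comp φ₀) t)) ∧
  ∀ (a : idx) {B' : Type u} [CommRing B'] [Algebra R B'] (ψ : B →ₐ[R] B') (z : B'),
    x.app ψ (D.uu a (ψ.comp φ₀) z) =
      D.uu a ((eInl R B').comp (ψ.comp φ₀)) (inl z + inr (ψ (c (P.rootSpanMem ℤ a)) * z))

/-- `x` is regular (with respect to the split data): conjugate to some `d_c` with all `c(a)` units. -/
def RCell.IsReg (D : RCell P b R A B₀) {B : Type u} [CommRing B] [Algebra R B] (φ₀ : B₀ →ₐ[R] B)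
    (x : InfAut R A B) : Prop :=
  ∃ (g : Pt R A B) (c : P.rootSpan ℤ →+ B) (y : InfAut R A B), D.IsDiag φ₀ c y ∧
    (∀ a : idx, IsUnit (c (P.rootSpanMem ℤ a))) ∧ x = InfAut.Ad g y

end RCell

end Groth.Agent.Sga3B.MT
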