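import Groth.Agent.Sga3B.MT.Defs

/-!
# Points of the big cell, geometric integrality
-/

set_option autoImplicit false
universe u

open TensorProduct
open Groth.Agent.Sga3B.Cell

namespace Groth.Agent.Sga3B.MT

/-- the fibres of `Spec A` over `R` are geometrically integral -/
def GeomDom (R A : Type u) [CommRing R] [CommRing A] [Algebra R A] : Prop :=
  ∀ (K : Type u) [Field K] [Algebra R K], IsDomain (K ⊗[R] A)

variable {idx M : Type} [Fintype idx] [AddCommGroup M] [Module.Free ℤ M] [Module.Finite ℤ M]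
variable {P : RootPairing idx ℤ M (Module.Dual ℤ M)} {b : P.Base}
    {R A B₀ : Type u} [CommRing R] [CommRing A] [Algebra R A] [CommRing B₀] [Algebra R B₀]
    [PtGrp R A]

/-- points of the big cell -/
def RCell.IsCell (D : RCell P b R A B₀) {B : Type u} [CommRing B] [Algebra R B]
    (φ : B₀ →ₐ[R] B) (g : Pt R A B) : Prop :=
  ∃ (x : idx → B) (t : TPt M B), g = ((allList b).map (fun a => D.uu a φ (x a))).prod * D.i φ t

lemma RCell.isCell_iff (D : RCell P b R A B₀) {B : Type u} [CommRing B] [Algebra R B]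
    (φ : B₀ →ₐ[R] B) (g : Pt R A B) :
    D.IsCell φ g ↔ D.cellIdeal.map (evp φ g).toRingHom = ⊤ := D.mem_cell_iff φ g

end Groth.Agent.Sga3B.MT
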