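import Groth.Agent.Sga3B.MT.Defs2
import Groth.Agent.S1192

/-!
# Density of the big cell over arbitrary bases
-/

set_option autoImplicit false
set_option linter.unusedSectionVars false
universe u

open TensorProduct
open Groth.Agent.Sga3B.Cell

namespace Groth.Agent.Sga3B.MT.Dens709

section torsion

attribute [local instance] Algebra.TensorProduct.rightAlgebra in
/-- An element of a flat finitely presented algebra with integral fibres which is torsion with respect
to an ideal non-zero on all the fibres is zero. -/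
theorem eq_zero_of_torsion {C S : Type u} [CommRing C] [CommRing S] [Algebra C S]
    [Algebra.FinitePresentation C S] [Module.Flat C S]
    (hint : ∀ (p : Ideal C) [p.IsPrime], IsDomain (p.Fiber S))
    (I : Ideal S)
    (hI : ∀ (p : Ideal C) [p.IsPrime], ∃ f ∈ I, (1 : p.ResidueField) ⊗ₜ[C] f ≠ 0)
    (z : S) (hz : ∀ f ∈ I, ∃ k : ℕ, f ^ k * z = 0) : z = 0 := by
  by_contra hz0
  have hne : (Submodule.span S {z}).annihilator ≠ ⊤ := by
    intro h
    have h1 : (1 : S) ∈ (Submodule.span S {z}).annihilator := by rw [h]; trivial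
    rw [Submodule.mem_annihilator_span_singleton, one_smul] at h1
    exact hz0 h1
  obtain ⟨q, hq⟩ := Ideal.nonempty_minimalPrimes hne
  have hqp : q.IsPrime := hq.1.1
  let p := q.comap (algebraMap C S)
  have hlie : q.LiesOver p := ⟨rfl⟩
  have hIq : I ≤ q := by
    intro f hf
    obtain ⟨k, hk⟩ := hz f hf
    refine hqp.mem_of_pow_mem k (hq.1.2 ?_)
    rw [Submodule.mem_annihilator_span_singleton]
    exact hk
  have hwa : q ∈ FlatCA.weakAss S (S ⊗[C] C) := by
    refine ⟨z ⊗ₜ[C] (1 : C), ?_⟩
    have : (Submodule.span S {z ⊗ₜ[C] (1 : C)}).annihilator = (Submodule.span S {z}).annihilator := by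
      ext a
      rw [Submodule.mem_annihilator_span_singleton, Submodule.mem_annihilator_span_singleton]
      constructor
      · intro h
        have := congrArg (TensorProduct.rid C S) h
        simpa [TensorProduct.smul_tmul'] using this
      · intro h
        rw [TensorProduct.smul_tmul', h, TensorProduct.zero_tmul]
    rw [this]
    exact hq
  have h1 := ((Groth.Agent.S1192.result (R := C) (S := S) S C p q).1 hwa).2
  have hdom := hint p
  let e : FlatCA.fiberMod p S S ≃ₗ[p.Fiber S] p.Fiber S :=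
    AlgebraTensorModule.rid S (p.Fiber S) (p.Fiber S)
  have h2 : FlatCA.fiberIdeal p q ∈ associatedPrimes (p.Fiber S) (p.Fiber S) := by
    rw [← LinearEquiv.AssociatedPrimes.eq e]
    exact h1
  have h3 : FlatCA.fiberIdeal p q = ⊥ := by
    obtain ⟨hpr, x, hx⟩ := h2
    have hx0 : x ≠ 0 := by
      rintro rfl
      apply hpr.ne_top
      rw [hx, Ideal.radical_eq_top, Ideal.eq_top_iff_one, Submodule.mem_colon_singleton]
      simp
    rw [hx, eq_bot_iff]
    intro a ha
    obtain ⟨k, hk⟩ := ha
    rw [Submodule.mem_colon_singleton, smul_eq_mul] at hk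
    have h5 : a ^ k = 0 := (mul_eq_zero.1 (show a ^ k * x = 0 from hk)).resolve_right hx0
    have hk0 : k ≠ 0 := by
      rintro rfl
      simp at h5
    exact (pow_eq_zero_iff hk0).1 h5
  obtain ⟨f, hf, hf0⟩ := hI p
  apply hf0
  have : (1 : p.ResidueField) ⊗ₜ[C] f ∈ FlatCA.fiberIdeal p q :=
    Ideal.mem_map_of_mem _ (hIq hf)
  rw [h3] at this
  exact this

end torsion

section ucell

/-- coordinate ring of the cell `𝔸^idx × D(M)` over `B`. -/
abbrev CellR (idx M : Type) (B : Type u) [AddCommGroup M] [CommRing B] : Type u :=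
  MvPolynomial idx (MonoidAlgebra B (Multiplicative M))

variable {idx M : Type} [AddCommGroup M]
variable {R B B' C : Type u} [CommRing R] [CommRing B] [Algebra R B]
  [CommRing B'] [Algebra R B'] [CommRing C] [Algebra R C]

variable (R idx M B) in
/-- the constants -/
noncomputable def cC : B →ₐ[R] CellR idx M B := IsScalarTower.toAlgHom R B (CellR idx M B)

lemma cC_apply (b : B) : cC idx M R B b = MvPolynomial.C (algebraMap B _ b) := rfl

variable (idx M B) in
/-- the universal torus point -/
noncomputable def tU : TPt M (CellR idx M B) :=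
  MonoidHom.toHomUnits
    (((MvPolynomial.C (σ := idx) (R := MonoidAlgebra B (Multiplicative M))) : _ →* CellR idx M B).comp
      (MonoidAlgebra.of B (Multiplicative M)))

lemma ch_tU (m : M) : TPt.ch m (tU idx M B) =
    MvPolynomial.C (MonoidAlgebra.single (Multiplicative.ofAdd m) (1 : B)) := rfl

/-- evaluation of functions on the cell at a point -/
noncomputable def cev (χ : B →ₐ[R] B') (x : idx → B') (t : TPt M B') : CellR idx M B →ₐ[R] B' where
  toRingHom := MvPolynomial.eval₂Hom
    (MonoidAlgebra.liftNCRingHom (χ : B →+* B') ((Units.coeHom B').comp t) (fun _ _ => Commute.all _ _)) x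
  commutes' r := by
    rw [IsScalarTower.algebraMap_apply R B (CellR idx M B)]
    change MvPolynomial.eval₂Hom _ _ (MvPolynomial.C (algebraMap B _ (algebraMap R B r))) = _
    rw [MvPolynomial.coe_eval₂Hom, MvPolynomial.eval₂_C, MonoidAlgebra.coe_algebraMap]
    simp [MonoidAlgebra.liftNCRingHom]

@[simp] lemma cev_X (χ : B →ₐ[R] B') (x : idx → B') (t : TPt M B') (a : idx) :
    cev χ x t (MvPolynomial.X a) = x a := by
  change MvPolynomial.eval₂Hom _ _ (MvPolynomial.X a) = _
  simp

@[simp] lemma cev_C_single (χ : B →ₐ[R] B') (x : idx → B') (t : TPt M B') (m : Multiplicative M)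
    (c : B) : cev χ x t (MvPolynomial.C (MonoidAlgebra.single m c)) = χ c * (t m : B') := by
  change MvPolynomial.eval₂Hom _ _ (MvPolynomial.C (MonoidAlgebra.single m c)) = _
  rw [MvPolynomial.coe_eval₂Hom, MvPolynomial.eval₂_C]
  simp [MonoidAlgebra.liftNCRingHom]

lemma cev_cC (χ : B →ₐ[R] B') (x : idx → B') (t : TPt M B') (c : B) :
    cev χ x t (cC idx M R B c) = χ c := by
  rw [cC_apply, MonoidAlgebra.coe_algebraMap]
  simp

lemma cev_comp_cC (χ : B →ₐ[R] B') (x : idx → B') (t : TPt M B') :
    (cev χ x t).comp (cC idx M R B) = χ := AlgHom.ext fun c => cev_cC χ x t c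

@[simp] lemma map_cev_tU (χ : B →ₐ[R] B') (x : idx → B') (t : TPt M B') :
    TPt.map (cev χ x t) (tU idx M B) = t := by
  apply TPt.ext_ch
  intro m
  rw [TPt.ch_map, ch_tU, cev_C_single, map_one, one_mul]
  rfl

end ucell

section RCell

variable {idx M : Type} [Fintype idx] [AddCommGroup M] [Module.Free ℤ M] [Module.Finite ℤ M]
variable {P : RootPairing idx ℤ M (Module.Dual ℤ M)} {b : P.Base}
    {R A B₀ : Type u} [CommRing R] [CommRing A] [Algebra R A] [CommRing B₀] [Algebra R B₀]
    [PtGrp R A]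
variable {B C : Type u} [CommRing B] [Algebra R B] [CommRing C] [Algebra R C]

/-- the cell map -/
noncomputable def cell (D : RCell P b R A B₀) (φ : B₀ →ₐ[R] B) (x : idx → B) (t : TPt M B) :
    Pt R A B := ((allList b).map (fun a => D.uu a φ (x a))).prod * D.i φ t

lemma cell_nat (D : RCell P b R A B₀) (φ : B₀ →ₐ[R] B) (ψ : B →ₐ[R] C) (x : idx → B)
    (t : TPt M B) : Pt.map ψ (cell D φ x t) = cell D (ψ.comp φ) (fun a => ψ (x a)) (TPt.map ψ t) := by
  unfold cell
  rw [Pt.map_mul, Pt.map_list_prod, D.i_nat, List.map_map]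
  congr 2
  apply List.map_congr_left
  intro a _
  simp [D.uu_nat]

lemma uu_zero (D : RCell P b R A B₀) (φ : B₀ →ₐ[R] B) (a : idx) : D.uu a φ (0 : B) = 1 := by
  have h := D.uu_add a φ (0 : B) 0
  rw [add_zero] at h
  exact (mul_eq_left.mp h.symm)

lemma cell_zero_one (D : RCell P b R A B₀) (φ : B₀ →ₐ[R] B) :
    cell D φ (fun _ => 0) 1 = 1 := by
  unfold cell
  rw [map_one, mul_one]
  apply List.prod_eq_one
  intro g hg
  obtain ⟨a, _, rfl⟩ := List.mem_map.1 hg
  exact uu_zero D φ a

/-- the universal point of the cell -/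
noncomputable def ucell (D : RCell P b R A B₀) (φ : B₀ →ₐ[R] B) : Pt R A (CellR idx M B) :=
  cell D ((cC idx M R B).comp φ) MvPolynomial.X (tU idx M B)

lemma map_cev_ucell (D : RCell P b R A B₀) (φ : B₀ →ₐ[R] B) (χ : B →ₐ[R] C) (x : idx → C)
    (t : TPt M C) : Pt.map (cev χ x t) (ucell D φ) = cell D (χ.comp φ) x t := by
  rw [ucell, cell_nat, ← AlgHom.comp_assoc, cev_comp_cC, map_cev_tU]
  simp

lemma cell_mem (D : RCell P b R A B₀) (φ : B₀ →ₐ[R] B) (x : idx → B) (t : TPt M B) :
    D.cellIdeal.map (evp φ (cell D φ x t)).toRingHom = ⊤ :=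
  (D.mem_cell_iff φ _).1 ⟨x, t, rfl⟩

/-- **Density of the big cell**, over any base. -/
theorem eq_zero_of_ucell (D : RCell P b R A B₀) [Algebra.Smooth R A] (hdom : GeomDom R A)
    (φ : B₀ →ₐ[R] B) (z : B ⊗[R] A) (hz : evp (cC idx M R B) (ucell D φ) z = 0) : z = 0 := by
  let θ : B₀ ⊗[R] A →ₐ[R] B ⊗[R] A := Algebra.TensorProduct.map φ (AlgHom.id R A)
  have hθ : ∀ {B' : Type u} [CommRing B'] [Algebra R B'] (χ : B →ₐ[R] B') (g : Pt R A B'),
      (evp χ g).comp θ = evp (χ.comp φ) g := by
    intro B' _ _ χ g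
    apply Algebra.TensorProduct.ext'
    intro c f
    simp [θ]
  let I : Ideal (B ⊗[R] A) := D.cellIdeal.map θ.toRingHom
  have hIev : ∀ {B' : Type u} [CommRing B'] [Algebra R B'] (χ : B →ₐ[R] B') (g : Pt R A B'),
      I.map (evp χ g).toRingHom = D.cellIdeal.map (evp (χ.comp φ) g).toRingHom := by
    intro B' _ _ χ g
    rw [Ideal.map_map]
    congr 1
    rw [← hθ χ g]
    rfl
  refine eq_zero_of_torsion (C := B) (S := B ⊗[R] A) ?_ I ?_ z ?_
  · intro p hp
    have e : p.Fiber (B ⊗[R] A) ≃ₐ[B] p.ResidueField ⊗[R] A :=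
      (Algebra.TensorProduct.cancelBaseChange R B B p.ResidueField A)
    have := hdom p.ResidueField
    exact e.toMulEquiv.isDomain _
  · intro p hp
    let κ : B →ₐ[R] p.ResidueField := IsScalarTower.toAlgHom R B p.ResidueField
    have h1 := cell_mem D (κ.comp φ) (fun _ => (0 : p.ResidueField)) 1
    rw [← hIev] at h1
    by_contra hcon
    push Not at hcon
    let ev : p.ResidueField ⊗[B] (B ⊗[R] A) →+* p.ResidueField :=
      (Algebra.TensorProduct.lift (AlgHom.id B p.ResidueField)
        ({ (evp κ (cell D (κ.comp φ) (fun _ => (0 : p.ResidueField)) 1)) with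
            commutes' := fun c => by
              change evp κ _ (c ⊗ₜ[R] (1 : A)) = _
              rw [evp_tmul, map_one, mul_one]; rfl } : B ⊗[R] A →ₐ[B] p.ResidueField)
        (fun _ _ => Commute.all _ _)).toRingHom
    have h2 : I.map (evp κ (cell D (κ.comp φ) (fun _ => (0 : p.ResidueField)) 1)).toRingHom = ⊥ := by
      rw [Ideal.map_eq_bot_iff_le_ker]
      intro f hf
      have h3 := congrArg ev (hcon f hf)
      rw [map_zero] at h3
      rw [RingHom.mem_ker]
      change evp κ _ f = 0
      have h4 : ev ((1 : p.ResidueField) ⊗ₜ[B] f) =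
          evp κ (cell D (κ.comp φ) (fun _ => (0 : p.ResidueField)) 1) f := by
        change (Algebra.TensorProduct.lift _ _ _) ((1 : p.ResidueField) ⊗ₜ[B] f) = _
        rw [Algebra.TensorProduct.lift_tmul, map_one, one_mul]
        rfl
      rw [← h4]
      exact h3
    rw [h2] at h1
    exact bot_ne_top h1
  · intro f hf
    let S := B ⊗[R] A
    let L := Localization.Away f
    let loc : S →ₐ[R] L := IsScalarTower.toAlgHom R S L
    let χ : B →ₐ[R] L := loc.comp Algebra.TensorProduct.includeLeft
    let u : Pt R A L := Pt.mk (loc.comp Algebra.TensorProduct.includeRight)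
    have hloc : evp χ u = loc := by
      apply Algebra.TensorProduct.ext'
      intro c a
      rw [evp_tmul]
      change loc (c ⊗ₜ 1) * loc (1 ⊗ₜ a) = _
      rw [← map_mul, Algebra.TensorProduct.tmul_mul_tmul, mul_one, one_mul]
    have h1 : D.cellIdeal.map (evp (χ.comp φ) u).toRingHom = ⊤ := by
      rw [← hIev, Ideal.eq_top_iff_one]
      have h2 : loc f ∈ I.map (evp χ u).toRingHom := by
        rw [hloc]
        exact Ideal.mem_map_of_mem _ hf
      have h3 : IsUnit (loc f) := IsLocalization.Away.algebraMap_isUnit f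
      exact (Ideal.eq_top_iff_one _).1 (Ideal.eq_top_of_isUnit_mem _ h2 h3)
    obtain ⟨x, t, hxt⟩ := (D.mem_cell_iff (χ.comp φ) u).2 h1
    have h4 : loc z = 0 := by
      have h5 : u = Pt.map (cev χ x t) (ucell D φ) := by
        rw [map_cev_ucell]
        exact hxt
      rw [← hloc, h5]
      have h6 : evp χ (Pt.map (cev χ x t) (ucell D φ)) =
          (cev χ x t).comp (evp (cC idx M R B) (ucell D φ)) := by
        rw [comp_evp, cev_comp_cC]
      rw [h6, AlgHom.comp_apply, hz, map_zero]
    obtain ⟨⟨_, k, rfl⟩, hk⟩ := (IsLocalization.map_eq_zero_iff (Submonoid.powers f) L z).1 h4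
    exact ⟨k, hk⟩

end RCell

end Groth.Agent.Sga3B.MT.Dens709
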