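import Groth.Agent.Sga3B.MT.MemAt
import Groth.Agent.Sga3B.Parab.EtHom
import Groth.Agent.Sga3B.AlgBc2

/-!
# Étale descent of closed subgroups and of maximal tori

`f_j : S_j ⟶ S` a covering, `t_j : T_j ⟶ bc f_j G` closed subgroups which agree on the overlaps
(`MemAt t_i a g → MemAt t_j b g`).  There is a closed subgroup `p : P ⟶ G` with `bc f_j P = T_j`; if
the `f_j` are étale and the `t_j` maximal tori, `p` is a maximal torus.
-/

set_option autoImplicit false

universe u

open CategoryTheory MonoidalCategory CartesianMonoidalCategory MonObj GrpObj AlgebraicGeometry Limits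

namespace Groth.Agent.Sga3B.MT

open Groth.Agent.Sga3B Groth.Agent.Sga3B.BcPts Groth.Agent.Sga3B.Parab

variable {S : Scheme.{u}} {G : Over S} {J : Type u} {S' : J → Scheme.{u}} {f : ∀ j, S' j ⟶ S}
  {T : ∀ j, Over (S' j)}

/-- the condition on points of `G` defined by a family of subschemes `t_j` of `bc f_j G` -/
def FamCond (t : ∀ j, T j ⟶ Red.bc (f j) G) (X : Over S) (g : X ⟶ G) : Prop :=
  ∀ (j : J) (X' : Over S) (h : X' ⟶ X) (a : X' ⟶ Over.mk (f j)), MemAt (t j) a (h ≫ g)

lemma isLocalPt_famCond (t : ∀ j, T j ⟶ Red.bc (f j) G) [∀ j, IsClosedImmersion (t j).left] :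
    EtSub.IsLocalPt (FamCond t) where
  comp {X' X} h g H j X'' h' a := by
    have := H j X'' (h' ≫ h) a
    rwa [Category.assoc] at this
  zariski {X} g 𝒰 H j X' h a := by
    have : Mono (t j) := Sga3C.ClosedSub.mono_of_left (t j)
    let 𝒱 : Scheme.OpenCover.{u} X'.left := 𝒰.pullback₁ h.left
    refine MemAt.of_cover a (h ≫ g) 𝒱 fun i => ?_
    have w : 𝒱.f i ≫ h.left = pullback.snd h.left (𝒰.f i) ≫ 𝒰.f i := pullback.condition
    let r : Over.mk (𝒱.f i ≫ X'.hom) ⟶ Over.mk (𝒰.f i ≫ X.hom) :=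
      Over.homMk (pullback.snd h.left (𝒰.f i)) (by
        change pullback.snd h.left (𝒰.f i) ≫ 𝒰.f i ≫ X.hom = 𝒱.f i ≫ X'.hom
        rw [← Category.assoc, ← w]
        exact (Category.assoc _ _ _).trans (congrArg (𝒱.f i ≫ ·) (Over.w h)))
    have e : r ≫ (Over.homMk (𝒰.f i) : Over.mk (𝒰.f i ≫ X.hom) ⟶ X) ≫ g =
        (Over.homMk (𝒱.f i) : Over.mk (𝒱.f i ≫ X'.hom) ⟶ X') ≫ h ≫ g := by
      rw [← Category.assoc, ← Category.assoc]
      congr 1
      ext1
      exact w.symm
    rw [← e]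
    exact H i j _ r _
  flat {X' X} h g h1 h2 _ _ H j Y y a := by
    let r : Over.mk (pullback.fst y.left h.left ≫ Y.hom) ⟶ Y := Over.homMk (pullback.fst y.left h.left)
    let q : Over.mk (pullback.fst y.left h.left ≫ Y.hom) ⟶ X' :=
      Over.homMk (pullback.snd y.left h.left) (by
        change pullback.snd y.left h.left ≫ X'.hom = pullback.fst y.left h.left ≫ Y.hom
        rw [← Over.w h, ← Category.assoc, ← pullback.condition, Category.assoc, Over.w])
    have e : r ≫ y = q ≫ h := by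
      ext1
      exact pullback.condition
    have : Flat r.left := inferInstanceAs (Flat (pullback.fst y.left h.left))
    have : Surjective r.left := inferInstanceAs (Surjective (pullback.fst y.left h.left))
    refine MemAt.of_flat r (a := a) (g := y ≫ g) ?_
    rw [← Category.assoc, e, Category.assoc]
    exact H j _ q _

/-- compatibility on overlaps -/
def Compat (t : ∀ j, T j ⟶ Red.bc (f j) G) : Prop :=
  ∀ (i j : J) (X : Over S) (a : X ⟶ Over.mk (f i)) (b : X ⟶ Over.mk (f j)) (g : X ⟶ G),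
    MemAt (t i) a g → MemAt (t j) b g

lemma famCond_over {t : ∀ j, T j ⟶ Red.bc (f j) G} (hc : Compat t) (j : J) (X : Over (S' j))
    (g : X ⟶ Red.bc (f j) G) :
    (∃ x : X ⟶ T j, x ≫ t j = g) ↔
      FamCond t ((Over.map (f j)).obj X) ((bcEquiv (f j) X G).symm g) := by
  rw [← MemAt.iff_of_over]
  constructor
  · intro H i X' h a
    exact hc j i X' (h ≫ MemAt.strHom (f j) X) a _ (H.comp h)
  · intro H
    have := H j _ (𝟙 _) (MemAt.strHom (f j) X)
    rwa [Category.id_comp] at this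

/-- **Descent of closed subgroups**. -/
theorem exists_closed_subgroup_of_family [GrpObj G] [∀ j, GrpObj (T j)] (hf : EtHom.IsCov f)
    (t : ∀ j, T j ⟶ Red.bc (f j) G) [∀ j, IsMonHom (t j)] [∀ j, IsClosedImmersion (t j).left]
    (hc : Compat t) :
    ∃ (P : Over S) (_ : GrpObj P) (p : P ⟶ G), IsMonHom p ∧ IsClosedImmersion p.left ∧
      ∀ j, ∃ e : Grp.mk (T j) ≅ Grp.mk (Red.bc (f j) P),
        (RedIso.und e).hom ≫ (Over.pullback (f j)).map p = t j := by
  obtain ⟨P, hP, p, hp, hpc, H⟩ := EtSub.exists_closed_subgroup (isLocalPt_famCond t)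
    (fun X j X' h a => by rw [MonObj.comp_one]; exact MemAt.one a)
    (fun X x y hx hy j X' h a => by rw [MonObj.comp_mul]; exact (hx j X' h a).mul (hy j X' h a))
    (fun X x hx j X' h a => by rw [GrpObj.comp_inv]; exact (hx j X' h a).inv)
    (fun s => by
      obtain ⟨j, hj⟩ := hf.surj s
      exact ⟨S' j, f j, hf.flat j, hf.lfp j, hj, T j, t j, inferInstance,
        famCond_over hc j⟩)
  refine ⟨P, hP, p, hp, hpc, fun j => ?_⟩
  have key : ∀ (X : Over (S' j)) (g : X ⟶ Red.bc (f j) G),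
      (∃ x : X ⟶ T j, x ≫ t j = g) ↔ ∃ x : X ⟶ Red.bc (f j) P, x ≫ (Over.pullback (f j)).map p = g := by
    intro X g
    rw [famCond_over hc, ← H]
    constructor
    · rintro ⟨x, hx⟩
      exact ⟨bcEquiv (f j) X P x, by rw [← bcEquiv_comp, hx, Equiv.apply_symm_apply]⟩
    · rintro ⟨x, hx⟩
      exact ⟨(bcEquiv (f j) X P).symm x, by rw [← bcEquiv_symm_comp, hx]⟩
  have hm : Mono (t j) := Sga3C.ClosedSub.mono_of_left (t j)
  have hmp : Mono p := Sga3C.ClosedSub.mono_of_left p
  have hm' : Mono ((Over.pullback (f j)).map p) := inferInstance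
  obtain ⟨u, hu⟩ := (key (T j) (t j)).1 ⟨𝟙 _, Category.id_comp _⟩
  obtain ⟨v, hv⟩ := (key (Red.bc (f j) P) ((Over.pullback (f j)).map p)).2 ⟨𝟙 _, Category.id_comp _⟩
  have huv : u ≫ v = 𝟙 _ := by rw [← cancel_mono (t j), Category.assoc, hv, hu, Category.id_comp]
  have hvu : v ≫ u = 𝟙 _ := by
    rw [← cancel_mono ((Over.pullback (f j)).map p), Category.assoc, hu, hv, Category.id_comp]
  let e : T j ≅ Red.bc (f j) P := ⟨u, v, huv, hvu⟩
  have hmon : IsMonHom u := Pts.isMonHom_of_points u fun X x y => by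
    rw [← cancel_mono ((Over.pullback (f j)).map p)]
    simp only [Category.assoc, hu, MonObj.mul_comp]
  have : IsMonHom e.hom := hmon
  exact ⟨Grp.mkIso' e, hu⟩

end Groth.Agent.Sga3B.MT
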