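import Groth.Agent.Sga3B.MT.Defs2
import Mathlib.Algebra.MonoidAlgebra.Basic
import Mathlib.Algebra.MonoidAlgebra.MapDomain
import Mathlib.RingTheory.Smooth.Basic
import Mathlib.RingTheory.RingHom.FaithfullyFlat

/-!
# The diagonal infinitesimal automorphisms `d_c`

For a linear form `c : Q → B` on the root lattice, the infinitesimal automorphism `d_c` = conjugation by the point
`1 + ε c` of the adjoint torus `D(Q)`.  Construction: conjugation by the universal point `t` of `T = D(M)` maps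
`G(B)` into `G(B[Q]) ⊆ G(B[M])` because `D(M/Q)` is central; then specialise `q ↦ 1 + ε c(q)`.
-/

set_option autoImplicit false
set_option linter.unusedSectionVars false
universe u

open TensorProduct TrivSqZeroExt
open Groth.Agent.Sga3B.Cell

namespace Groth.Agent.Sga3B.MT.Diag

section MA

variable {R B C E : Type u} [CommRing R] [CommRing B] [Algebra R B] [CommRing C] [Algebra R C]
  [CommRing E] [Algebra R E] {G H : Type} [CommGroup G] [CommGroup H]

open MonoidAlgebra (single)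

lemma hom_ext {f f' : MonoidAlgebra B G →ₐ[R] C} (h : ∀ g b, f (single g b) = f' (single g b)) : f = f' := by
  ext x
  · exact h _ _
  · exact h _ _

/-- constants -/
noncomputable def cs (R B : Type u) (G : Type) [CommRing R] [CommRing B] [Algebra R B] [CommGroup G] :
    B →ₐ[R] MonoidAlgebra B G := MonoidAlgebra.singleOneAlgHom

@[simp] lemma cs_apply (b : B) : cs R B G b = single 1 b := rfl

/-- evaluation -/
noncomputable def ev (φ : B →ₐ[R] C) (χ : G →* C) : MonoidAlgebra B G →ₐ[R] C :=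
  MonoidAlgebra.liftNCAlgHom φ χ (fun _ _ => Commute.all _ _)

@[simp] lemma ev_single (φ : B →ₐ[R] C) (χ : G →* C) (g : G) (b : B) :
    ev φ χ (single g b) = φ b * χ g := by
  simp [ev]

lemma ev_comp_cs (φ : B →ₐ[R] C) (χ : G →* C) : (ev φ χ).comp (cs R B G) = φ := by
  ext b
  simp

/-- functoriality in the group -/
noncomputable def dom (R B : Type u) [CommRing R] [CommRing B] [Algebra R B] (f : G →* H) :
    MonoidAlgebra B G →ₐ[R] MonoidAlgebra B H := MonoidAlgebra.mapDomainAlgHom R B f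

@[simp] lemma dom_single (f : G →* H) (g : G) (b : B) :
    dom R B f (single g b) = single (f g) b := by
  simp [dom]

lemma dom_apply (f : G →* H) (x : MonoidAlgebra B G) : dom R B f x = MonoidAlgebra.mapDomain f x := rfl

lemma dom_injective (f : G →* H) (hf : Function.Injective f) : Function.Injective (dom R B f) :=
  MonoidAlgebra.mapDomain_injective hf

lemma dom_comp_cs (f : G →* H) : (dom R B f).comp (cs R B G) = cs R B H := by
  ext b
  simp

/-- functoriality in the coefficients -/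
noncomputable def rng (G : Type) [CommGroup G] (φ : B →ₐ[R] C) :
    MonoidAlgebra B G →ₐ[R] MonoidAlgebra C G :=
  ev ((cs R C G).comp φ) (MonoidAlgebra.of C G)

@[simp] lemma rng_single (φ : B →ₐ[R] C) (g : G) (b : B) :
    rng G φ (single g b) = single g (φ b) := by
  simp [rng]

lemma rng_comp_cs (φ : B →ₐ[R] C) : (rng G φ).comp (cs R B G) = (cs R C G).comp φ := by
  ext b
  simp

lemma rng_comp_dom (φ : B →ₐ[R] C) (f : G →* H) :
    (rng H φ).comp (dom R B f) = (dom R C f).comp (rng G φ) := by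
  apply hom_ext
  intro g b
  simp

lemma comp_ev (ψ : C →ₐ[R] E) (φ : B →ₐ[R] C) (χ : G →* C) :
    ψ.comp (ev φ χ) = ev (ψ.comp φ) ((ψ : C →* E).comp χ) := by
  apply hom_ext
  intro g b
  simp

lemma ev_comp_rng (ψ : C →ₐ[R] E) (φ : B →ₐ[R] C) (χ : G →* E) :
    (ev ψ χ).comp (rng G φ) = ev (ψ.comp φ) χ := by
  apply hom_ext
  intro g b
  simp

lemma ev_comp_dom (φ : B →ₐ[R] C) (f : G →* H) (χ : H →* C) :
    (ev φ χ).comp (dom R B f) = ev φ (χ.comp f) := by
  apply hom_ext
  intro g b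
  simp

/-- The torus point of `B[G]` attached to a homomorphism `χ : M → G`. -/
noncomputable def tg {M : Type} [AddCommGroup M] (B : Type u) [CommRing B] (χ : Multiplicative M →* G) :
    TPt M (MonoidAlgebra B G) := ((MonoidAlgebra.of B G).comp χ).toHomUnits

@[simp] lemma tg_apply {M : Type} [AddCommGroup M] (χ : Multiplicative M →* G) (m : Multiplicative M) :
    ((tg B χ m : (MonoidAlgebra B G)ˣ) : MonoidAlgebra B G) = single (χ m) 1 := rfl

@[simp] lemma ch_tg {M : Type} [AddCommGroup M] (χ : Multiplicative M →* G) (m : M) :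
    TPt.ch m (tg B χ) = single (χ (Multiplicative.ofAdd m)) (1 : B) := rfl

lemma tg_mul {M : Type} [AddCommGroup M] (χ χ' : Multiplicative M →* G) :
    tg B (χ * χ') = tg B χ * tg B χ' := by
  apply TPt.ext_ch
  intro m
  simp [MonoidAlgebra.single_mul_single]

lemma map_dom_tg {M : Type} [AddCommGroup M] (f : G →* H) (χ : Multiplicative M →* G) :
    TPt.map (dom R B f) (tg B χ) = tg B (f.comp χ) := by
  apply TPt.ext_ch
  intro m
  simp

lemma map_rng_tg {M : Type} [AddCommGroup M] (φ : B →ₐ[R] C) (χ : Multiplicative M →* G) :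
    TPt.map (rng G φ) (tg B χ) = tg C χ := by
  apply TPt.ext_ch
  intro m
  simp

lemma map_ev_tg {M : Type} [AddCommGroup M] (φ : B →ₐ[R] C) (χ : Multiplicative M →* G) (η : G →* C) :
    TPt.map (ev φ η) (tg B χ) = (η.comp χ).toHomUnits := by
  apply TPt.ext_ch
  intro m
  simp [TPt.ch]

end MA

/-! ### supports -/

section Support

variable {M : Type} [AddCommGroup M] (Q : Submodule ℤ M)

/-- the inclusion of the sublattice -/
def jj : Multiplicative Q →* Multiplicative M := AddMonoidHom.toMultiplicative Q.subtype.toAddMonoidHom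

lemma jj_injective : Function.Injective (jj Q) := fun _ _ h => Subtype.ext h

lemma jj_apply (q : Q) : jj Q (Multiplicative.ofAdd q) = Multiplicative.ofAdd (q : M) := rfl

/-- `m ↦ m mod Q` -/
def qq : Multiplicative M →* Multiplicative (M ⧸ Q) := AddMonoidHom.toMultiplicative Q.mkQ.toAddMonoidHom

lemma qq_eq_one_iff (m : Multiplicative M) : qq Q m = 1 ↔ m ∈ Set.range (jj Q) := by
  have h1 : qq Q m = 1 ↔ (Submodule.Quotient.mk m.toAdd : M ⧸ Q) = 0 := Iff.rfl
  rw [h1, Submodule.Quotient.mk_eq_zero]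
  constructor
  · intro h
    exact ⟨Multiplicative.ofAdd ⟨m.toAdd, h⟩, rfl⟩
  · rintro ⟨q, rfl⟩
    exact q.toAdd.2

/-- `m ↦ (m, m mod Q)` -/
def dd : Multiplicative M →* Multiplicative M × Multiplicative (M ⧸ Q) := (MonoidHom.id _).prod (qq Q)

/-- `m ↦ (m, 1)` -/
def ii : Multiplicative M →* Multiplicative M × Multiplicative (M ⧸ Q) := MonoidHom.inl _ _

/-- `m ↦ (1, m mod Q)` -/
def zz : Multiplicative M →* Multiplicative M × Multiplicative (M ⧸ Q) :=
  (MonoidHom.inr _ _).comp (qq Q)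

lemma dd_eq : dd Q = ii Q * zz Q := by
  ext m <;> simp [dd, ii, zz]

lemma dd_injective : Function.Injective (dd Q) := fun _ _ h => congrArg Prod.fst h

lemma ii_injective : Function.Injective (ii Q) := fun _ _ h => congrArg Prod.fst h

variable {R B : Type u} [CommRing R] [CommRing B] [Algebra R B]

lemma mem_range_dom (x : MonoidAlgebra B (Multiplicative M))
    (h : dom R B (dd Q) x = dom R B (ii Q) x) : x ∈ Set.range (dom R B (jj Q)) := by
  classical
  have hsupp : ∀ m ∈ x.coeff.support, m ∈ Set.range (jj Q) := by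
    intro m hm
    rw [← qq_eq_one_iff]
    by_contra hne
    have h1 : (dom R B (dd Q) x).coeff (dd Q m) = x.coeff m :=
      Finsupp.mapDomain_apply (dd_injective Q) x.coeff m
    have h2 : (dom R B (ii Q) x).coeff (dd Q m) = 0 := by
      refine Finsupp.mapDomain_of_notMem_range x.coeff _ ?_
      rintro ⟨n, hn⟩
      exact hne (congrArg Prod.snd hn).symm
    rw [h, h2] at h1
    exact (Finsupp.mem_support_iff.1 hm) h1.symm
  have hx : x = ∑ m ∈ x.coeff.support, MonoidAlgebra.single m (x.coeff m) := by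
    have h3 := Finsupp.sum_single x.coeff
    apply MonoidAlgebra.coeff_injective
    rw [← h3]
    conv_rhs => rw [h3]
    rw [MonoidAlgebra.coeff_sum]
    rfl
  rw [hx]
  have h4 : ∀ m ∈ x.coeff.support, MonoidAlgebra.single m (x.coeff m) ∈
      (dom R B (jj Q)).range := by
    intro m hm
    obtain ⟨q, rfl⟩ := hsupp m hm
    exact ⟨MonoidAlgebra.single q _, dom_single _ _ _⟩
  exact Subalgebra.sum_mem _ h4

end Support

/-! ### conjugation by torus points of group algebras -/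

section Main

variable {idx M : Type} [Fintype idx] [AddCommGroup M] [Module.Free ℤ M] [Module.Finite ℤ M]
variable {P : RootPairing idx ℤ M (Module.Dual ℤ M)} {b : P.Base}
    {R A B₀ : Type u} [CommRing R] [CommRing A] [Algebra R A] [CommRing B₀] [Algebra R B₀]
    [PtGrp R A] (D : RCell P b R A B₀)

/-- The conclusion of `RCell.exists_cover`. -/
def CoverStatement (D : RCell P b R A B₀) : Prop :=
  ∀ {B : Type u} [CommRing B] [Algebra R B] (φ : B₀ →ₐ[R] B) (g : Pt R A B),
    ∃ (B' : Type u) (_ : CommRing B') (_ : Algebra R B') (ψ : B →ₐ[R] B'),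
      ψ.toRingHom.FaithfullyFlat ∧ ∃ c₁ c₂ : Pt R A B', D.IsCell (ψ.comp φ) c₁ ∧
        D.IsCell (ψ.comp φ) c₂ ∧ Pt.map ψ g * c₁ = c₂

variable {B C : Type u} [CommRing B] [Algebra R B] [CommRing C] [Algebra R C]

lemma commute_uu (φ : B₀ →ₐ[R] B) (z : TPt M B) (a : idx) (hz : TPt.ch (P.root a) z = 1) (x : B) :
    Commute (D.i φ z) (D.uu a φ x) := by
  have h := D.rel a φ z x
  rw [hz, one_mul, mul_inv_eq_iff_eq_mul] at h
  exact h

lemma commute_i (φ : B₀ →ₐ[R] B) (z t : TPt M B) : Commute (D.i φ z) (D.i φ t) := by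
  change D.i φ z * D.i φ t = D.i φ t * D.i φ z
  rw [← map_mul, ← map_mul]
  exact congrArg (D.i φ) (mul_comm z t)

lemma commute_cell (φ : B₀ →ₐ[R] B) (z : TPt M B) (hz : ∀ a, TPt.ch (P.root a) z = 1) {g : Pt R A B}
    (hg : D.IsCell φ g) : Commute (D.i φ z) g := by
  obtain ⟨x, t, rfl⟩ := hg
  refine Commute.mul_right (Commute.list_prod_right _ _ ?_) (commute_i D φ z t)
  intro y hy
  obtain ⟨a, -, rfl⟩ := List.mem_map.1 hy
  exact commute_uu D φ z a (hz a) (x a)

/-- Points of `D(M/Q)` are central. -/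
lemma commute_of_cover (hcov : CoverStatement D) (φ : B₀ →ₐ[R] B) (z : TPt M B)
    (hz : ∀ a, TPt.ch (P.root a) z = 1) (g : Pt R A B) : Commute (D.i φ z) g := by
  obtain ⟨B', _, _, ψ, hff, c₁, c₂, h₁, h₂, h⟩ := hcov φ g
  have hz' : ∀ a, TPt.ch (P.root a) (TPt.map ψ z) = 1 := fun a => by
    rw [TPt.ch_map, hz a, _root_.map_one]
  have hg : Pt.map ψ g = c₂ * c₁⁻¹ := by rw [← h, mul_inv_cancel_right]
  apply Pt.map_injective (φ := ψ) hff.injective
  rw [Pt.map_mul, Pt.map_mul, D.i_nat, hg]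
  exact (commute_cell D _ _ hz' h₂).mul_right (commute_cell D _ _ hz' h₁).inv_right

variable {G H : Type} [CommGroup G] [CommGroup H]

/-- conjugation of `g ∈ G(B)` by the torus point of `B[G]` attached to `χ : M → G`. -/
noncomputable def cj (φ : B₀ →ₐ[R] B) (χ : Multiplicative M →* G) (g : Pt R A B) :
    Pt R A (MonoidAlgebra B G) :=
  D.i ((cs R B G).comp φ) (tg B χ) * Pt.map (cs R B G) g * (D.i ((cs R B G).comp φ) (tg B χ))⁻¹

lemma cj_mul (φ : B₀ →ₐ[R] B) (χ : Multiplicative M →* G) (g h : Pt R A B) :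
    cj D φ χ (g * h) = cj D φ χ g * cj D φ χ h := by
  rw [cj, cj, cj, Pt.map_mul]
  group

lemma map_dom_cj (φ : B₀ →ₐ[R] B) (f : G →* H) (χ : Multiplicative M →* G) (g : Pt R A B) :
    Pt.map (dom R B f) (cj D φ χ g) = cj D φ (f.comp χ) g := by
  rw [cj, cj, Pt.map_mul, Pt.map_mul, Pt.map_inv, D.i_nat, map_dom_tg, Pt.map_map, dom_comp_cs,
    ← AlgHom.comp_assoc, dom_comp_cs]

lemma map_rng_cj (φ : B₀ →ₐ[R] B) (ψ : B →ₐ[R] C) (χ : Multiplicative M →* G) (g : Pt R A B) :
    Pt.map (rng G ψ) (cj D φ χ g) = cj D (ψ.comp φ) χ (Pt.map ψ g) := by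
  rw [cj, cj, Pt.map_mul, Pt.map_mul, Pt.map_inv, D.i_nat, map_rng_tg, Pt.map_map, rng_comp_cs,
    ← AlgHom.comp_assoc, rng_comp_cs, Pt.map_map, AlgHom.comp_assoc]

/-- A homomorphism trivial on the roots does not change the conjugation. -/
lemma cj_mul_of_trivial (hcov : CoverStatement D) (φ : B₀ →ₐ[R] B) (χ ζ : Multiplicative M →* G)
    (hζ : ∀ a, ζ (Multiplicative.ofAdd (P.root a)) = 1) (g : Pt R A B) :
    cj D φ (χ * ζ) g = cj D φ χ g := by
  have h1 : Commute (D.i ((cs R B G).comp φ) (tg B ζ)) (Pt.map (cs R B G) g) := by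
    refine commute_of_cover D hcov _ _ (fun a => ?_) _
    rw [ch_tg, hζ]
    rfl
  rw [cj, cj, tg_mul, _root_.map_mul, mul_inv_rev, mul_assoc (D.i _ (tg B χ)), h1.eq]
  group

lemma cj_mem_range (hcov : CoverStatement D) (φ : B₀ →ₐ[R] B) (g : Pt R A B) (f : A) :
    (cj D φ (MonoidHom.id _) g).hom f ∈ (dom R B (jj (P.rootSpan ℤ))).range := by
  refine mem_range_dom (P.rootSpan ℤ) _ ?_
  have h1 := map_dom_cj D φ (dd (P.rootSpan ℤ)) (MonoidHom.id _) g
  have h2 := map_dom_cj D φ (ii (P.rootSpan ℤ)) (MonoidHom.id _) g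
  rw [MonoidHom.comp_id] at h1 h2
  rw [dd_eq, cj_mul_of_trivial D hcov φ _ _ ?_, ← dd_eq] at h1
  · exact congrArg (fun k : Pt R A _ => k.hom f) (h1.trans h2.symm)
  · intro a
    change (MonoidHom.inr _ _) (qq (P.rootSpan ℤ) (Multiplicative.ofAdd (P.root a))) = 1
    have h3 : qq (P.rootSpan ℤ) (Multiplicative.ofAdd (P.root a)) = 1 :=
      (qq_eq_one_iff _ _).2 ⟨Multiplicative.ofAdd (P.rootSpanMem ℤ a), rfl⟩
    rw [h3, _root_.map_one]

/-- The factorisation through `B[Q]`. -/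
lemma exists_kap (hcov : CoverStatement D) (φ : B₀ →ₐ[R] B) (g : Pt R A B) :
    ∃ k : Pt R A (MonoidAlgebra B (Multiplicative (P.rootSpan ℤ))),
      Pt.map (dom R B (jj (P.rootSpan ℤ))) k = cj D φ (MonoidHom.id _) g := by
  have hinj : Function.Injective (dom R B (jj (P.rootSpan ℤ))) := dom_injective _ (jj_injective _)
  let e := AlgEquiv.ofInjective (dom R B (jj (P.rootSpan ℤ))) hinj
  let k₀ := (cj D φ (MonoidHom.id _) g).hom.codRestrict _ (fun f => cj_mem_range D hcov φ g f)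
  refine ⟨Pt.mk (e.symm.toAlgHom.comp k₀), ?_⟩
  apply Pt.ext
  intro f
  have h1 : dom R B (jj (P.rootSpan ℤ)) (e.symm (k₀ f)) = (e (e.symm (k₀ f)) : MonoidAlgebra B _) := rfl
  rw [e.apply_symm_apply] at h1
  exact h1

/-- The action of the adjoint torus: `κ(g) ∈ G(B[Q])`. -/
noncomputable def kap (hcov : CoverStatement D) (φ : B₀ →ₐ[R] B) (g : Pt R A B) :
    Pt R A (MonoidAlgebra B (Multiplicative (P.rootSpan ℤ))) := (exists_kap D hcov φ g).choose

lemma map_kap (hcov : CoverStatement D) (φ : B₀ →ₐ[R] B) (g : Pt R A B) :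
    Pt.map (dom R B (jj (P.rootSpan ℤ))) (kap D hcov φ g) = cj D φ (MonoidHom.id _) g :=
  (exists_kap D hcov φ g).choose_spec

lemma kap_unique (hcov : CoverStatement D) (φ : B₀ →ₐ[R] B) (g : Pt R A B)
    (k : Pt R A (MonoidAlgebra B (Multiplicative (P.rootSpan ℤ))))
    (hk : Pt.map (dom R B (jj (P.rootSpan ℤ))) k = cj D φ (MonoidHom.id _) g) : kap D hcov φ g = k :=
  Pt.map_injective (dom_injective _ (jj_injective _)) ((map_kap D hcov φ g).trans hk.symm)

lemma kap_mul (hcov : CoverStatement D) (φ : B₀ →ₐ[R] B) (g h : Pt R A B) :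
    kap D hcov φ (g * h) = kap D hcov φ g * kap D hcov φ h := by
  apply kap_unique
  rw [Pt.map_mul, map_kap, map_kap, cj_mul]

lemma map_rng_kap (hcov : CoverStatement D) (φ : B₀ →ₐ[R] B) (ψ : B →ₐ[R] C) (g : Pt R A B) :
    Pt.map (rng _ ψ) (kap D hcov φ g) = kap D hcov (ψ.comp φ) (Pt.map ψ g) := by
  symm
  apply kap_unique
  rw [Pt.map_map, ← rng_comp_dom, ← Pt.map_map, map_kap, map_rng_cj]

/-- On the torus. -/
lemma kap_i (hcov : CoverStatement D) (φ : B₀ →ₐ[R] B) (t : TPt M B) :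
    kap D hcov φ (D.i φ t) = Pt.map (cs R B _) (D.i φ t) := by
  apply kap_unique
  rw [Pt.map_map, dom_comp_cs, cj, D.i_nat, (commute_i D _ _ _).eq, mul_inv_cancel_right]

/-- On the root groups. -/
lemma kap_uu (hcov : CoverStatement D) (φ : B₀ →ₐ[R] B) (a : idx) (x : B) :
    kap D hcov φ (D.uu a φ x) = D.uu a ((cs R B _).comp φ)
      (MonoidAlgebra.single (Multiplicative.ofAdd (P.rootSpanMem ℤ a)) x) := by
  apply kap_unique
  rw [D.uu_nat, cj, D.uu_nat, D.rel, ← AlgHom.comp_assoc, dom_comp_cs, ch_tg]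
  congr 1
  rw [dom_single, cs_apply, MonoidAlgebra.single_mul_single, one_mul, mul_one]
  rfl

/-! ### the specialisation -/

/-- `q ↦ 1 + ε c(q)` -/
def ec (c : P.rootSpan ℤ →+ B) : Multiplicative (P.rootSpan ℤ) →* Eps B where
  toFun q := inl 1 + inr (c q.toAdd)
  map_one' := by ext <;> simp
  map_mul' q q' := by
    ext
    · simp
    · simp [add_comm]

@[simp] lemma fst_ec (c : P.rootSpan ℤ →+ B) (q) : (ec c q).fst = 1 := by simp [ec]
@[simp] lemma snd_ec (c : P.rootSpan ℤ →+ B) (q) : (ec c q).snd = c q.toAdd := by simp [ec]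

/-- `θ_c(g)` -/
noncomputable def th (hcov : CoverStatement D) (φ : B₀ →ₐ[R] B) (c : P.rootSpan ℤ →+ B) (g : Pt R A B) :
    Pt R A (Eps B) := Pt.map (ev (eInl R B) (ec c)) (kap D hcov φ g)

lemma th_nat (hcov : CoverStatement D) (φ : B₀ →ₐ[R] B) (c : P.rootSpan ℤ →+ B) (ψ : B →ₐ[R] C)
    (g : Pt R A B) : Pt.map (eMap ψ) (th D hcov φ c g) =
      th D hcov (ψ.comp φ) ((ψ : B →+ C).comp c) (Pt.map ψ g) := by
  unfold th
  rw [← map_rng_kap, Pt.map_map, Pt.map_map, ev_comp_rng, comp_ev, eMap_comp_eInl]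
  congr 2
  ext q <;> simp

lemma th_red (hcov : CoverStatement D) (φ : B₀ →ₐ[R] B) (c : P.rootSpan ℤ →+ B) (g : Pt R A B) :
    Pt.map (eFst R B) (th D hcov φ c g) = g := by
  have h1 : (eFst R B).comp (ev (eInl R B) (ec c)) =
      (ev (AlgHom.id R B) (1 : Multiplicative M →* B)).comp (dom R B (jj (P.rootSpan ℤ))) := by
    rw [comp_ev, ev_comp_dom, eFst_comp_eInl]
    congr 1
    ext q
    simp
  unfold th
  rw [Pt.map_map, h1, ← Pt.map_map, map_kap, cj, Pt.map_mul, Pt.map_mul, Pt.map_inv, D.i_nat,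
    map_ev_tg, Pt.map_map, ev_comp_cs, Pt.map_id]
  have h2 : ((1 : Multiplicative M →* B).comp (MonoidHom.id (Multiplicative M))).toHomUnits =
      (1 : TPt M B) := by
    apply TPt.ext_ch
    intro m
    rfl
  rw [h2, _root_.map_one, one_mul, inv_one, mul_one]

lemma th_mul (hcov : CoverStatement D) (φ : B₀ →ₐ[R] B) (c : P.rootSpan ℤ →+ B) (g h : Pt R A B) :
    th D hcov φ c (g * h) = th D hcov φ c g * th D hcov φ c h := by
  unfold th
  rw [kap_mul, Pt.map_mul]

/-- **Existence of the diagonal infinitesimal automorphism**, from the covering statement. -/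
theorem exists_diag_of_cover (hcov : CoverStatement D) (φ : B₀ →ₐ[R] B) (c : P.rootSpan ℤ →+ B) :
    ∃ x : InfAut R A B, D.IsDiag φ c x := by
  obtain ⟨x, hx⟩ := InfAut.exists_of_family
    (fun B' _ _ (ψ : B →ₐ[R] B') g => th D hcov (ψ.comp φ) ((ψ : B →+ B').comp c) g)
    (fun φ' ψ g => th_nat D hcov _ _ ψ g) (fun φ' g => th_red D hcov _ _ g)
    (fun φ' g h => th_mul D hcov _ _ g h)
  refine ⟨x, ?_, ?_⟩
  · intro B' _ _ ψ t
    rw [hx]
    unfold th
    rw [kap_i, Pt.map_map, ev_comp_cs]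
  · intro a B' _ _ ψ z
    rw [hx]
    unfold th
    rw [kap_uu, D.uu_nat, ← AlgHom.comp_assoc, ev_comp_cs]
    congr 1
    rw [ev_single]
    ext <;> simp [mul_comm]

end Main

end Groth.Agent.Sga3B.MT.Diag
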