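import Mathlib.RingTheory.RingHom.Etale
import Mathlib.RingTheory.Unramified.Finite
import Mathlib.RingTheory.Etale.Basic
import Mathlib.RingTheory.IntegralClosure.IsIntegralClosure.Basic
import Mathlib.FieldTheory.IsAlgClosed.AlgebraicClosure
import Mathlib.RingTheory.Spectrum.Prime.Basic

/-!
# Geometric points of étale algebras over a maximal ideal are algebraic over the residue field
-/

set_option autoImplicit false
universe u

open TensorProduct

namespace Groth.Agent.Sga3B.MT.EtRes904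

/-- the quotient by a prime of an étale algebra lying over a maximal ideal `m` is finite over
`R/m` -/
theorem finite_quotient {R B₀ : Type u} [CommRing R] [CommRing B₀] [Algebra R B₀]
    [Algebra.Etale R B₀] (m : Ideal R) [m.IsMaximal] (q : Ideal B₀) [q.IsPrime]
    [Algebra (R ⧸ m) (B₀ ⧸ q)] [IsScalarTower R (R ⧸ m) (B₀ ⧸ q)] :
    Module.Finite (R ⧸ m) (B₀ ⧸ q) := by
  let _ : Field (R ⧸ m) := Ideal.Quotient.field m
  have h1 : Module.Finite (R ⧸ m) ((R ⧸ m) ⊗[R] B₀) :=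
    Algebra.FormallyUnramified.finite_of_free _ _
  let f : (R ⧸ m) ⊗[R] B₀ →ₐ[R ⧸ m] (B₀ ⧸ q) :=
    Algebra.TensorProduct.lift (Algebra.ofId _ _) (Ideal.Quotient.mkₐ R q)
      (fun _ _ => Commute.all _ _)
  have hf : Function.Surjective f := by
    intro z
    obtain ⟨b, rfl⟩ := Ideal.Quotient.mk_surjective z
    exact ⟨1 ⊗ₜ b, by simp [f]⟩
  exact Module.Finite.of_surjective f.toLinearMap hf

theorem exists_geomPoint {R B₀ : Type u} [CommRing R] [CommRing B₀] [Algebra R B₀]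
    (h : (algebraMap R B₀).Etale) (m : Ideal R) [m.IsMaximal] (q : PrimeSpectrum B₀)
    (hq : q.asIdeal.comap (algebraMap R B₀) = m) :
    ∃ (K : Type u) (_ : Field K) (_ : IsAlgClosed K) (_ : Algebra R K) (κ : B₀ →ₐ[R] K)
      (j : (R ⧸ m) →ₐ[R] K), RingHom.ker κ = q.asIdeal ∧ j.toRingHom.IsIntegral := by
  have : Algebra.Etale R B₀ := RingHom.etale_algebraMap.mp h
  let j₀ : (R ⧸ m) →ₐ[R] (B₀ ⧸ q.asIdeal) :=
    Ideal.Quotient.liftₐ m (Algebra.ofId R (B₀ ⧸ q.asIdeal)) (by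
      intro a ha
      change Ideal.Quotient.mk _ (algebraMap R B₀ a) = 0
      rw [← hq] at ha
      exact Ideal.Quotient.eq_zero_iff_mem.mpr ha)
  let _ : Algebra (R ⧸ m) (B₀ ⧸ q.asIdeal) := j₀.toRingHom.toAlgebra
  have : IsScalarTower R (R ⧸ m) (B₀ ⧸ q.asIdeal) :=
    IsScalarTower.of_algebraMap_eq' j₀.comp_algebraMap.symm
  have hfin : Module.Finite (R ⧸ m) (B₀ ⧸ q.asIdeal) := finite_quotient m q.asIdeal
  have hint : Algebra.IsIntegral (R ⧸ m) (B₀ ⧸ q.asIdeal) := inferInstance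
  have hfield : IsField (B₀ ⧸ q.asIdeal) :=
    isField_of_isIntegral_of_isField' (R := R ⧸ m) (Ideal.Quotient.field m).toIsField
  let _ : Field (B₀ ⧸ q.asIdeal) := hfield.toField
  let K := AlgebraicClosure (B₀ ⧸ q.asIdeal)
  let κ : B₀ →ₐ[R] K := (Algebra.ofId (B₀ ⧸ q.asIdeal) K).restrictScalars R |>.comp
    (Ideal.Quotient.mkₐ R q.asIdeal)
  let j : (R ⧸ m) →ₐ[R] K := ((Algebra.ofId (B₀ ⧸ q.asIdeal) K).restrictScalars R).comp j₀
  refine ⟨K, inferInstance, inferInstance, inferInstance, κ, j, ?_, ?_⟩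
  · ext b
    rw [RingHom.mem_ker]
    change algebraMap (B₀ ⧸ q.asIdeal) K (Ideal.Quotient.mk _ b) = 0 ↔ _
    rw [map_eq_zero, Ideal.Quotient.eq_zero_iff_mem]
  · have h1 : (algebraMap (R ⧸ m) (B₀ ⧸ q.asIdeal)).IsIntegral := hint.isIntegral
    have h2 : (algebraMap (B₀ ⧸ q.asIdeal) K).IsIntegral :=
      (inferInstance : Algebra.IsIntegral (B₀ ⧸ q.asIdeal) K).isIntegral
    exact RingHom.IsIntegral.trans _ _ h1 h2

end Groth.Agent.Sga3B.MT.EtRes904
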