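import Groth.Agent.FlatA.EtaleSections
import Mathlib.RingTheory.RingHom.Smooth
import Mathlib.RingTheory.RingHom.Etale
import Mathlib.RingTheory.Jacobson.Ring
import Mathlib.FieldTheory.IsAlgClosed.Basic
import Mathlib.RingTheory.Spectrum.Prime.Chevalley

/-!
# Smooth algebras have sections étale locally; points of finite type algebras over an algebraically
closed field; open images
-/

set_option autoImplicit false
universe u

open AlgebraicGeometry CategoryTheory TensorProduct

namespace Groth.Agent.Sga3B.MT.EtSec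

/-- A smooth algebra has a section over an étale neighbourhood of a point of its image. -/
theorem exists_etale_section {B C : Type u} [CommRing B] [CommRing C] [Algebra B C]
    [Algebra.Smooth B C] (q : PrimeSpectrum C) :
    ∃ (B₁ : Type u) (_ : CommRing B₁) (_ : Algebra B B₁) (_ : C →ₐ[B] B₁) (q₁ : PrimeSpectrum B₁),
      Algebra.Etale B B₁ ∧ q₁.comap (algebraMap B B₁) = q.comap (algebraMap B C) := by
  let f : Spec (.of C) ⟶ Spec (.of B) := Spec.map (CommRingCat.ofHom (algebraMap B C))
  have hf : Smooth f := by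
    refine HasRingHomProperty.Spec_iff.mpr ?_
    change RingHom.Smooth (algebraMap B C)
    rw [RingHom.smooth_algebraMap]
    infer_instance
  obtain ⟨S', g, s', hg, hs', h, hh⟩ :=
    Groth.Agent.FlatA.EtaleSections.exists_section f (q.comap (algebraMap B C)) ⟨q, rfl⟩
  obtain ⟨_, ⟨U, hU, rfl⟩, hsU, -⟩ := S'.isBasis_affineOpens.exists_subset_of_mem_open
    (Set.mem_univ s') isOpen_univ
  have hU : IsAffineOpen U := hU
  rw [← hU.range_fromSpec] at hsU
  obtain ⟨q₁, hq₁⟩ := hsU
  obtain ⟨ψ, hψ⟩ := Spec.map_surjective (hU.fromSpec ≫ g)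
  obtain ⟨χ, hχ⟩ := Spec.map_surjective (hU.fromSpec ≫ h)
  have hcomp : CommRingCat.ofHom (algebraMap B C) ≫ χ = ψ := by
    apply Spec.map_injective
    rw [Spec.map_comp, hχ, hψ, Category.assoc, ← hh]
  have het : Etale (Spec.map ψ) := by
    rw [hψ]; infer_instance
  have hψe : ψ.hom.Etale := HasRingHomProperty.Spec_iff.mp het
  refine ⟨Γ(S', U), inferInstance, ψ.hom.toAlgebra, ?_⟩
  let := ψ.hom.toAlgebra
  refine ⟨{ χ.hom with commutes' := fun b => ?_ }, q₁, hψe, ?_⟩
  · exact congrArg (fun k : CommRingCat.of B ⟶ Γ(S', U) => k.hom b) hcomp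
  · have h1 : Spec.map ψ q₁ = g (hU.fromSpec q₁) := by rw [hψ]; rfl
    rw [hq₁, hs'] at h1
    exact h1

/-- A finitely generated algebra over an algebraically closed field has a point, if nonzero. -/
theorem exists_point {K E : Type u} [Field K] [IsAlgClosed K] [CommRing E] [Nontrivial E]
    [Algebra K E] [Algebra.FiniteType K E] : Nonempty (E →ₐ[K] K) := by
  obtain ⟨m, hm⟩ := Ideal.exists_maximal E
  let : Field (E ⧸ m) := Ideal.Quotient.field m
  have : Algebra.FiniteType K (E ⧸ m) := inferInstance
  have h1 : Module.Finite K (E ⧸ m) := finite_of_finite_type_of_isJacobsonRing K (E ⧸ m)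
  have h2 : Function.Bijective (algebraMap K (E ⧸ m)) :=
    IsAlgClosed.algebraMap_bijective_of_isIntegral
  exact ⟨(AlgEquiv.ofBijective (Algebra.ofId K (E ⧸ m)) h2).symm.toAlgHom.comp
    (Ideal.Quotient.mkₐ K m)⟩

/-- A nonzero étale algebra over a polynomial ring over an algebraically closed field `K` has a
`K`-point over a `k`-rational point of the affine space, for every infinite subfield `k`. -/
theorem exists_rational_point {k K : Type u} {ι : Type} [Field k] [Infinite k] [Field K]
    [IsAlgClosed K] [Algebra k K] [Finite ι] (E : Type u) [CommRing E] [Nontrivial E]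
    [Algebra (MvPolynomial ι K) E] [Algebra.Etale (MvPolynomial ι K) E] :
    ∃ (z : ι → k) (χ : E →+* K), ∀ p : MvPolynomial ι K,
      χ (algebraMap _ _ p) = MvPolynomial.eval (fun i => algebraMap k K (z i)) p := by
  have hopen : IsOpenMap (PrimeSpectrum.comap (algebraMap (MvPolynomial ι K) E)) :=
    PrimeSpectrum.isOpenMap_comap_of_hasGoingDown_of_finitePresentation
  have hne : (Set.range (PrimeSpectrum.comap (algebraMap (MvPolynomial ι K) E))).Nonempty :=
    Set.range_nonempty _
  obtain ⟨p₀, hp₀⟩ := hne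
  obtain ⟨_, ⟨_, ⟨f, rfl⟩, rfl⟩, hf1, hf2⟩ := PrimeSpectrum.isBasis_basic_opens.exists_subset_of_mem_open
    hp₀ hopen.isOpen_range
  have hf0 : f ≠ 0 := by
    rintro rfl
    simp at hf1
  obtain ⟨z, hz⟩ : ∃ z : ι → k, MvPolynomial.eval (fun i => algebraMap k K (z i)) f ≠ 0 := by
    by_contra hcon
    push_neg at hcon
    apply hf0
    refine MvPolynomial.funext_set (fun _ => Set.range (algebraMap k K))
      (fun _ => Set.infinite_range_of_injective (algebraMap k K).injective) ?_
    intro x hx
    choose z hz using fun i => hx i (Set.mem_univ i)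
    have : x = fun i => algebraMap k K (z i) := funext fun i => (hz i).symm
    rw [this, hcon z, map_zero]
  let ev : MvPolynomial ι K →ₐ[K] K := MvPolynomial.aeval (fun i => algebraMap k K (z i))
  have hev : ∀ p, ev p = MvPolynomial.eval (fun i => algebraMap k K (z i)) p := fun p => by
    simp [ev, MvPolynomial.aeval_eq_eval]
  let Q : PrimeSpectrum (MvPolynomial ι K) := ⟨RingHom.ker ev, RingHom.ker_isPrime _⟩
  have hQ : Q ∈ PrimeSpectrum.basicOpen f := by
    change f ∉ RingHom.ker ev
    rw [RingHom.mem_ker, hev]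
    exact hz
  obtain ⟨q, hq⟩ := hf2 hQ
  let : Algebra K E := ((algebraMap (MvPolynomial ι K) E).comp MvPolynomial.C).toAlgebra
  have : IsScalarTower K (MvPolynomial ι K) E := IsScalarTower.of_algebraMap_eq' rfl
  let J : Ideal E := (RingHom.ker ev).map (algebraMap (MvPolynomial ι K) E)
  have hJ : J ≤ q.asIdeal := by
    rw [Ideal.map_le_iff_le_comap]
    exact (congrArg PrimeSpectrum.asIdeal hq).ge
  have : Nontrivial (E ⧸ J) := Ideal.Quotient.nontrivial_iff.mpr
    (ne_top_of_le_ne_top q.isPrime.ne_top hJ)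
  have : Algebra.FiniteType K E := Algebra.FiniteType.trans (S := MvPolynomial ι K)
    inferInstance inferInstance
  obtain ⟨χ⟩ := exists_point (K := K) (E := E ⧸ J)
  refine ⟨z, χ.toRingHom.comp (Ideal.Quotient.mk J), fun p => ?_⟩
  rw [← hev]
  have h1 : p - MvPolynomial.C (ev p) ∈ RingHom.ker ev := by
    rw [RingHom.mem_ker, map_sub, sub_eq_zero]
    simp [ev]
  have h2 : Ideal.Quotient.mk J (algebraMap _ E (p - MvPolynomial.C (ev p))) = 0 :=
    Ideal.Quotient.eq_zero_iff_mem.mpr (Ideal.mem_map_of_mem _ h1)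
  rw [map_sub, map_sub, sub_eq_zero] at h2
  change χ (Ideal.Quotient.mk J (algebraMap _ E p)) = _
  rw [h2]
  exact χ.commutes (ev p)

end Groth.Agent.Sga3B.MT.EtSec
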