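import Groth.Agent.Sga3B.MT.Defs2
import Mathlib.FieldTheory.Finite.Basic
import Mathlib.LinearAlgebra.LinearIndependent.Lemmas

/-!
# Descent of infinitesimal automorphisms along `k → K`, `k` finite, `K` algebraically closed
-/

set_option autoImplicit false
universe u

open TensorProduct
open Groth.Agent.Sga3B.Cell

namespace Groth.Agent.Sga3B.MT.Fin986

section field

variable {k K : Type u} [Field k] [Fintype k] [Field K]

/-- The elements of `K` fixed by the `#k`-power map come from `k`. -/
lemma exists_of_pow_card (j : k →+* K) {z : K} (hz : z ^ Fintype.card k = z) : ∃ y, j y = z := by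
  classical
  by_contra hcon
  push Not at hcon
  have hq : 1 < Fintype.card k := Fintype.one_lt_card
  have h0 : (Polynomial.X ^ Fintype.card k - Polynomial.X : Polynomial K) ≠ 0 :=
    FiniteField.X_pow_card_sub_X_ne_zero K hq
  have hdeg : (Polynomial.X ^ Fintype.card k - Polynomial.X : Polynomial K).natDegree =
      Fintype.card k := FiniteField.X_pow_card_sub_X_natDegree_eq K hq
  have hroot : ∀ w : K, w ^ Fintype.card k = w →
      w ∈ (Polynomial.X ^ Fintype.card k - Polynomial.X : Polynomial K).roots.toFinset := by
    intro w hw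
    rw [Multiset.mem_toFinset, Polynomial.mem_roots h0, Polynomial.IsRoot.def]
    simp [hw]
  have hsub : insert z (Finset.univ.image j) ⊆
      (Polynomial.X ^ Fintype.card k - Polynomial.X : Polynomial K).roots.toFinset := by
    intro w hw
    rw [Finset.mem_insert, Finset.mem_image] at hw
    rcases hw with rfl | ⟨y, -, rfl⟩
    · exact hroot _ hz
    · apply hroot
      rw [← map_pow, FiniteField.pow_card]
  have h1 := Finset.card_le_card hsub
  have h2 : (insert z (Finset.univ.image j)).card = Fintype.card k + 1 := by
    rw [Finset.card_insert_of_notMem, Finset.card_image_of_injective _ j.injective,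
      Finset.card_univ]
    rw [Finset.mem_image]
    rintro ⟨y, -, hy⟩
    exact hcon y hy
  have h3 := (Multiset.toFinset_card_le
    (Polynomial.X ^ Fintype.card k - Polynomial.X : Polynomial K).roots).trans
    (Polynomial.card_roots' _)
  rw [hdeg] at h3
  omega

end field

variable {R k K A : Type u} [CommRing R] [Field k] [Fintype k] [Field K] [Algebra R k]
  [Algebra R K] [CommRing A] [Algebra R A] [PtGrp R A]

/-- Infinitesimal automorphisms over `K` fixed by Frobenius come from `k`. -/
theorem exists_of_map_eq (j : k →ₐ[R] K) (σ : K →ₐ[R] K) (hσ : ∀ z, σ z = z ^ Fintype.card k)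
    (hspan : ∀ x : InfAut R A K, x ∈ Submodule.span K (Set.range (InfAut.map (A := A) j)))
    (z : InfAut R A K) (hz : InfAut.map σ z = z) : ∃ x : InfAut R A k, InfAut.map j x = z := by
  classical
  obtain ⟨s, hs, hsp, hli⟩ := exists_linearIndependent K (Set.range (InfAut.map (A := A) j))
  have hzs : z ∈ Submodule.span K (Set.range ((↑) : s → InfAut R A K)) := by
    rw [Subtype.range_coe, hsp]
    exact hspan z
  obtain ⟨c, hc⟩ := (Finsupp.mem_span_range_iff_exists_finsupp).mp hzs
  have hσj : σ.comp j = j := by
    ext y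
    rw [AlgHom.comp_apply, hσ, ← map_pow, FiniteField.pow_card]
  have hfix : ∀ i : s, InfAut.map σ (i : InfAut R A K) = i := by
    rintro ⟨i, hi⟩
    obtain ⟨x, rfl⟩ := hs hi
    change InfAut.map σ (InfAut.map j x) = InfAut.map j x
    rw [InfAut.map_map, hσj]
  have h1 : (c.sum fun i a => (σ a) • (i : InfAut R A K)) = c.sum fun i a => a • (i : InfAut R A K) := by
    have h2 := hz
    rw [← hc, Finsupp.sum, map_sum] at h2
    rw [Finsupp.sum, Finsupp.sum, ← h2]
    apply Finset.sum_congr rfl
    intro i _
    rw [InfAut.map_smul, hfix]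
  have h2 : ∀ i : s, i ∈ c.support → σ (c i) = c i := by
    have h3 : (∑ i ∈ c.support, (σ (c i) - c i) • (i : InfAut R A K)) = 0 := by
      simp only [sub_smul, Finset.sum_sub_distrib]
      exact sub_eq_zero.mpr h1
    have h4 := linearIndependent_iff'.mp hli c.support (fun i => σ (c i) - c i) h3
    exact fun i hi => sub_eq_zero.mp (h4 i hi)
  have h5 : ∀ i : s, ∃ y : k, i ∈ c.support → j y = c i := by
    intro i
    by_cases hi : i ∈ c.support
    · obtain ⟨y, hy⟩ := exists_of_pow_card (z := c i) j.toRingHom (by rw [← hσ]; exact h2 i hi)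
      exact ⟨y, fun _ => hy⟩
    · exact ⟨0, fun h => absurd h hi⟩
  choose y hy using h5
  have h6 : ∀ i : s, ∃ x : InfAut R A k, InfAut.map j x = i := fun i => hs i.2
  choose x hx using h6
  refine ⟨∑ i ∈ c.support, y i • x i, ?_⟩
  rw [map_sum, ← hc, Finsupp.sum]
  apply Finset.sum_congr rfl
  intro i hi
  rw [InfAut.map_smul, hx, hy i hi]

end Groth.Agent.Sga3B.MT.Fin986
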