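import Groth.Agent.Sga3B.HaarDef
import Groth.Agent.Sga3B.RG.ConjInj
import Groth.Agent.Sga3B.RG.ChevPts
import Mathlib.FieldTheory.Finite.Basic
import Mathlib.RingTheory.TensorProduct.Free

/-!
# Lang's theorem

Let `k` be a finite field, `A` a commutative Hopf `k`-algebra of finite type (`G = Spec A`), `K` an algebraically
closed extension of `k` such that `K ⊗ A` is a domain, formally smooth over `K` (`G` is smooth and connected).
Every point `h ∈ G(K)` is of the form `g⁻¹ * F(g)`, `F` the Frobenius.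
-/

set_option autoImplicit false

open TensorProduct WithConv

namespace Groth.Agent.Sga3B.MT.Lang

open Groth.Agent.Sga3B.HaarDef

noncomputable section

section image

variable {K : Type*} [Field K] [IsAlgClosed K] {B C : Type*} [CommRing B] [Algebra K B]
  [Algebra.FiniteType K B] [CommRing C] [IsDomain C] [Algebra K C] [Algebra.FiniteType K C]

/-- The image of a dominant morphism contains a nonempty principal open subset. -/
theorem exists_basicOpen_image (φ : B →ₐ[K] C) (hφ : Function.Injective φ) :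
    ∃ f : B, f ≠ 0 ∧ ∀ z : B →ₐ[K] K, z f ≠ 0 → ∃ g : C →ₐ[K] K, g.comp φ = z := by
  obtain ⟨s, hs⟩ := (Algebra.FiniteType.out : (⊤ : Subalgebra K B).FG)
  let b : s → B := fun i => i.1
  obtain ⟨P, hP, hP'⟩ := Groth.Agent.Sga3B.RG.exists_mvPolynomial_image (K := K) (A := C)
    (fun i => φ (b i))
  have hcomp : ∀ Q : MvPolynomial s K, MvPolynomial.aeval (fun i => φ (b i)) Q =
      φ (MvPolynomial.aeval b Q) := by
    intro Q
    have : (MvPolynomial.aeval (fun i => φ (b i)) : MvPolynomial s K →ₐ[K] C) =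
        φ.comp (MvPolynomial.aeval b) := by
      ext i; simp
    rw [this]; rfl
  have hev : ∀ (z : B →ₐ[K] K) (Q : MvPolynomial s K), MvPolynomial.eval (fun i => z (b i)) Q =
      z (MvPolynomial.aeval b Q) := by
    intro z Q
    have : (MvPolynomial.aeval (fun i => z (b i)) : MvPolynomial s K →ₐ[K] K) =
        z.comp (MvPolynomial.aeval b) := by
      ext i; simp
    have h2 := DFunLike.congr_fun this Q
    rw [MvPolynomial.aeval_def, Algebra.algebraMap_self] at h2
    exact h2
  refine ⟨MvPolynomial.aeval b P, ?_, fun z hz => ?_⟩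
  · intro h0
    rw [hcomp, h0, map_zero] at hP
    exact hP rfl
  · obtain ⟨g, hg⟩ := hP' (fun i => z (b i)) (by
      intro Q hQ
      rw [hcomp, ← map_zero φ] at hQ
      rw [hev, hφ hQ, map_zero]) (by rwa [hev])
    refine ⟨g, ?_⟩
    refine AlgHom.ext_of_adjoin_eq_top (s := (s : Set B)) hs ?_
    intro x hx
    exact hg ⟨x, hx⟩

end image

variable {k : Type*} [Field k] {A : Type*} [CommRing A] [HopfAlgebra k A]
variable {K : Type*} [Field K] [Algebra k K]

section points

variable {R : Type*} [CommRing R] [Algebra k R] [Algebra K R] [IsScalarTower k K R]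

/-- The `K`-algebra map out of `K ⊗ A` attached to a point of `Spec A`. -/
def toHom (g : WithConv (A →ₐ[k] R)) : K ⊗[k] A →ₐ[K] R :=
  Algebra.TensorProduct.lift (Algebra.ofId K R) g.ofConv (fun _ _ => Commute.all _ _)

/-- The point attached to a `K`-algebra map out of `K ⊗ A`. -/
def ofHom (x : K ⊗[k] A →ₐ[K] R) : WithConv (A →ₐ[k] R) :=
  toConv ((x.restrictScalars k).comp Algebra.TensorProduct.includeRight)

lemma ofHom_toHom (g : WithConv (A →ₐ[k] R)) : ofHom (K := K) (toHom g) = g := by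
  apply WithConv.ofConv_injective
  ext a
  simp [ofHom, toHom]

lemma toHom_ofHom (x : K ⊗[k] A →ₐ[K] R) : toHom (ofHom x) = x := by
  ext a
  simp [ofHom, toHom]

lemma ofHom_injective : Function.Injective (ofHom : (K ⊗[k] A →ₐ[K] R) → WithConv (A →ₐ[k] R)) :=
  fun x y h => by rw [← toHom_ofHom x, h, toHom_ofHom]

variable (k K) in
/-- The structure map, as a map of `k`-algebras. -/
def str (R : Type*) [CommRing R] [Algebra k R] [Algebra K R] [IsScalarTower k K R] : K →ₐ[k] R :=
  IsScalarTower.toAlgHom k K R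

end points

variable (k A K) in
/-- The universal point. -/
def univ : WithConv (A →ₐ[k] K ⊗[k] A) := toConv Algebra.TensorProduct.includeRight

lemma pushG_univ {R : Type*} [CommRing R] [Algebra k R] [Algebra K R] [IsScalarTower k K R]
    (x : K ⊗[k] A →ₐ[K] R) : pushG (x.restrictScalars k) (univ k A K) = ofHom x := rfl

variable [Fintype k]

variable (k) in
/-- The Frobenius on points. -/
def F (R : Type*) [CommRing R] [Algebra k R] : WithConv (A →ₐ[k] R) →* WithConv (A →ₐ[k] R) :=
  pushG (FiniteField.frobeniusAlgHom k R)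

lemma F_pushG {R S : Type*} [CommRing R] [Algebra k R] [CommRing S] [Algebra k S] (x : R →ₐ[k] S)
    (g : WithConv (A →ₐ[k] R)) : F k S (pushG x g) = pushG x (F k R g) := by
  apply WithConv.ofConv_injective
  ext a
  change (x (g.ofConv a)) ^ _ = x ((g.ofConv a) ^ _)
  rw [map_pow]

/-- The twisted Lang map `g ↦ g⁻¹ * c * F(g)`. -/
def lm (c : WithConv (A →ₐ[k] K)) : WithConv (A →ₐ[k] K ⊗[k] A) :=
  (univ k A K)⁻¹ * pushG (str k K _) c * F k _ (univ k A K)

lemma ofHom_comp {R : Type*} [CommRing R] [Algebra k R] [Algebra K R] [IsScalarTower k K R]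
    (c : WithConv (A →ₐ[k] K)) (x : K ⊗[k] A →ₐ[K] R) :
    ofHom (x.comp (toHom (lm c))) =
      (ofHom x)⁻¹ * pushG (str k K R) c * F k R (ofHom x) := by
  have h1 : ofHom (x.comp (toHom (lm c))) = pushG (x.restrictScalars k) (ofHom (toHom (lm c))) := rfl
  rw [h1, ofHom_toHom, lm, map_mul, map_mul, map_inv, pushG_univ, ← F_pushG, pushG_univ, pushG_comp]
  have h2 : (x.restrictScalars k).comp (str k K (K ⊗[k] A)) = str k K R := by
    ext r
    exact x.commutes r
  rw [h2]

lemma aux_group {G : Type*} [Group G] (c y : G) : (c * y⁻¹)⁻¹ * c = y := by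
  rw [mul_inv_rev, inv_inv, inv_mul_cancel_right]

lemma toHom_lm_injective [Algebra.FiniteType k A] [IsDomain (K ⊗[k] A)] [Algebra.FormallySmooth K (K ⊗[k] A)]
    (c : WithConv (A →ₐ[k] K)) : Function.Injective (toHom (K := K) (lm c)) := by
  have hft : Algebra.FiniteType K (K ⊗[k] A) := inferInstance
  have hN : IsNoetherianRing (K ⊗[k] A) := Algebra.FiniteType.isNoetherianRing K _
  let xc : K ⊗[k] A →ₐ[K] K := toHom c
  let m : Ideal (K ⊗[k] A) := RingHom.ker xc
  have hm : m ≠ ⊤ := RingHom.ker_ne_top _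
  let y : WithConv (A →ₐ[k] (K ⊗[k] A) ⧸ m ^ 2) := ofHom (Ideal.Quotient.mkₐ K (m ^ 2))
  let cR : WithConv (A →ₐ[k] (K ⊗[k] A) ⧸ m ^ 2) := pushG (str k K _) c
  let g : WithConv (A →ₐ[k] (K ⊗[k] A) ⧸ m ^ 2) := cR * y⁻¹
  -- the map to `K`
  have hle : m ^ 2 ≤ m := Ideal.pow_le_self two_ne_zero
  let π : (K ⊗[k] A) ⧸ m ^ 2 →ₐ[K] K := Ideal.Quotient.liftₐ (m ^ 2) xc (fun a ha => hle ha)
  have hπ : ∀ a, π (Ideal.Quotient.mkₐ K (m ^ 2) a) = xc a := fun a => rfl
  have hπy : pushG (π.restrictScalars k) y = c := by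
    have h1 : pushG (π.restrictScalars k) y = ofHom xc := by
      apply WithConv.ofConv_injective
      ext a
      rfl
    rw [h1, ofHom_toHom]
  have hπc : pushG (π.restrictScalars k) cR = c := by
    rw [pushG_comp]
    apply WithConv.ofConv_injective
    ext a
    change π (algebraMap K _ (c.ofConv a)) = c.ofConv a
    rw [AlgHom.commutes]; rfl
  have hπg : pushG (π.restrictScalars k) g = 1 := by
    rw [map_mul, map_inv, hπy, hπc, mul_inv_cancel]
  have hker : ∀ r : (K ⊗[k] A) ⧸ m ^ 2, π r = 0 → r ^ 2 = 0 := by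
    intro r hr
    obtain ⟨a, rfl⟩ := Ideal.Quotient.mk_surjective r
    have ha : a ∈ m := hr
    rw [← map_pow, Ideal.Quotient.eq_zero_iff_mem]
    exact Ideal.pow_mem_pow ha 2
  have hq : 2 ≤ Fintype.card k := Fintype.one_lt_card
  have hFg : F k _ g = 1 := by
    apply WithConv.ofConv_injective
    ext a
    have h1 : π (g.ofConv a) = algebraMap k K (Coalgebra.counit (R := k) a) :=
      DFunLike.congr_fun (congrArg WithConv.ofConv hπg) a
    have h2 : π (g.ofConv a - algebraMap k _ (Coalgebra.counit (R := k) a)) = 0 := by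
      rw [map_sub, h1, IsScalarTower.algebraMap_apply k K ((K ⊗[k] A) ⧸ m ^ 2), AlgHom.commutes]
      simp
    have h3 : (g.ofConv a - algebraMap k _ (Coalgebra.counit (R := k) a)) ^ Fintype.card k = 0 :=
      pow_eq_zero_of_le hq (hker _ h2)
    have h4 : FiniteField.frobeniusAlgHom k _ (g.ofConv a - algebraMap k _ (Coalgebra.counit (R := k) a)) = 0 :=
      h3
    rw [map_sub, AlgHom.commutes, sub_eq_zero] at h4
    exact h4
  refine Groth.Agent.Sga3B.RG.ConjInj.injective_of_section m hm (toHom (lm c)) (toHom g) ?_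
  apply ofHom_injective
  rw [ofHom_comp, ofHom_toHom, hFg, mul_one]
  exact aux_group cR y

/-- **Lang's theorem**. -/
theorem lang [IsAlgClosed K] [Algebra.FiniteType k A] [IsDomain (K ⊗[k] A)]
    [Algebra.FormallySmooth K (K ⊗[k] A)] (h : WithConv (A →ₐ[k] K)) :
    ∃ g : WithConv (A →ₐ[k] K), h = g⁻¹ * pushG (FiniteField.frobeniusAlgHom k K) g := by
  obtain ⟨f₁, h₁, H₁⟩ := exists_basicOpen_image (toHom (K := K) (lm (1 : WithConv (A →ₐ[k] K))))
    (toHom_lm_injective _)
  obtain ⟨f₂, h₂, H₂⟩ := exists_basicOpen_image (toHom (K := K) (lm h)) (toHom_lm_injective _)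
  obtain ⟨z, hz⟩ : ∃ z : K ⊗[k] A →ₐ[K] K, z (f₁ * f₂) ≠ 0 := by
    by_contra hcon
    push Not at hcon
    exact mul_ne_zero h₁ h₂ (Groth.Agent.Books.PointsAC.eq_zero_of_forall_point K _ _ hcon)
  rw [map_mul] at hz
  obtain ⟨g₁, hg₁⟩ := H₁ z (left_ne_zero_of_mul hz)
  obtain ⟨g₂, hg₂⟩ := H₂ z (right_ne_zero_of_mul hz)
  have key := congrArg ofHom (hg₁.trans hg₂.symm)
  rw [ofHom_comp, ofHom_comp, map_one, mul_one] at key
  have hstr : pushG (str k K K) h = h := by
    apply WithConv.ofConv_injective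
    ext a
    rfl
  rw [hstr] at key
  refine ⟨ofHom g₁ * (ofHom g₂)⁻¹, ?_⟩
  change h = _⁻¹ * F k K _
  rw [map_mul, map_inv, mul_inv_rev, inv_inv, mul_assoc, ← mul_assoc (ofHom g₁)⁻¹, key]
  group

end

end Groth.Agent.Sga3B.MT.Lang
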