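import Groth.Agent.Sga3B.MT.Defs2
import Groth.Agent.Sga3B.MT.Lang

/-!
# Lang's theorem for an affine group functor

`Spec A` is an affine group functor over `R` (`PtGrp R A`), `k` a finite field over `R`, `K` an algebraically
closed extension of `k`.  If `K ⊗ A` is a domain, formally smooth of finite type over `K`, every point
of `G(K)` is of the form `g⁻¹ * F(g)`.
-/

set_option autoImplicit false
universe u

open TensorProduct
open Groth.Agent.Sga3B.Cell

namespace Groth.Agent.Sga3B.MT.Lang986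

variable {R k K A : Type u} [CommRing R] [Field k] [Field K] [Algebra R k]
  [Algebra k K] [Algebra R K] [IsScalarTower R k K] [CommRing A] [Algebra R A]

section points

variable {B C : Type u} [CommRing B] [Algebra R B] [Algebra K B] [IsScalarTower R K B]
  [CommRing C] [Algebra R C] [Algebra K C] [IsScalarTower R K C]

/-- The `K`-algebra map out of `K ⊗ A` attached to a point of `Spec A`. -/
def toHom (g : Pt R A B) : K ⊗[R] A →ₐ[K] B :=
  Algebra.TensorProduct.lift (Algebra.ofId K B) g.hom (fun _ _ => Commute.all _ _)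

/-- The point attached to a `K`-algebra map out of `K ⊗ A`. -/
def ofHom (x : K ⊗[R] A →ₐ[K] B) : Pt R A B :=
  Pt.mk ((x.restrictScalars R).comp Algebra.TensorProduct.includeRight)

omit [Algebra k K] [IsScalarTower R k K] [Field k] [Algebra R k] in
lemma ofHom_toHom (g : Pt R A B) : ofHom (K := K) (toHom g) = g := by
  apply Pt.ext
  intro a
  simp [ofHom, toHom]

lemma toHom_ofHom (x : K ⊗[R] A →ₐ[K] B) : toHom (ofHom x) = x := by
  ext a
  simp [ofHom, toHom]

lemma ofHom_injective : Function.Injective (ofHom : (K ⊗[R] A →ₐ[K] B) → Pt R A B) :=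
  fun x y h => by rw [← toHom_ofHom x, h, toHom_ofHom]

variable (R K) in
/-- The structure map. -/
def str (B : Type u) [CommRing B] [Algebra R B] [Algebra K B] [IsScalarTower R K B] : K →ₐ[R] B :=
  IsScalarTower.toAlgHom R K B

lemma map_univ (x : K ⊗[R] A →ₐ[K] B) :
    Pt.map (x.restrictScalars R) (InfAut.univ R A K) = ofHom x := rfl

end points

section frob

variable [Fintype k]

variable (R k) in
/-- The Frobenius of a `k`-algebra. -/
def frob (B : Type u) [CommRing B] [Algebra R B] [Algebra k B] [IsScalarTower R k B] : B →ₐ[R] B :=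
  (FiniteField.frobeniusAlgHom k B).restrictScalars R

lemma frob_apply (B : Type u) [CommRing B] [Algebra R B] [Algebra k B] [IsScalarTower R k B] (x : B) :
    frob R k B x = x ^ Fintype.card k := rfl

variable (R k) in
/-- The Frobenius on points. -/
def F (B : Type u) [CommRing B] [Algebra R B] [Algebra k B] [IsScalarTower R k B]
    (g : Pt R A B) : Pt R A B := Pt.map (frob R k B) g

lemma F_map {B C : Type u} [CommRing B] [Algebra R B] [Algebra k B] [IsScalarTower R k B]
    [CommRing C] [Algebra R C] [Algebra k C] [IsScalarTower R k C] (x : B →ₐ[R] C)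
    (g : Pt R A B) : F R k C (Pt.map x g) = Pt.map x (F R k B g) := by
  apply Pt.ext
  intro a
  change (x (g.hom a)) ^ _ = x ((g.hom a) ^ _)
  rw [map_pow]

variable [PtGrp R A]

variable (k) in
/-- The twisted Lang map `g ↦ g⁻¹ * c * F(g)`. -/
def lm (c : Pt R A K) : Pt R A (K ⊗[R] A) :=
  (InfAut.univ R A K)⁻¹ * Pt.map (str R K _) c * F R k _ (InfAut.univ R A K)

lemma ofHom_comp {B : Type u} [CommRing B] [Algebra R B] [Algebra K B] [IsScalarTower R K B]
    [Algebra k B] [IsScalarTower R k B]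
    (c : Pt R A K) (x : K ⊗[R] A →ₐ[K] B) :
    ofHom (x.comp (toHom (lm k c))) =
      (ofHom x)⁻¹ * Pt.map (str R K B) c * F R k B (ofHom x) := by
  have h1 : ofHom (x.comp (toHom (lm k c))) = Pt.map (x.restrictScalars R) (ofHom (toHom (lm k c))) := rfl
  rw [h1, ofHom_toHom, lm, Pt.map_mul, Pt.map_mul, Pt.map_inv, map_univ, ← F_map, map_univ, Pt.map_map]
  have h2 : (x.restrictScalars R).comp (str R K (K ⊗[R] A)) = str R K B := by
    ext r
    exact x.commutes r
  rw [h2]

end frob

section lang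

variable [Fintype k] [PtGrp R A]

lemma aux_group {G : Type*} [Group G] (c y : G) : (c * y⁻¹)⁻¹ * c = y := by
  rw [mul_inv_rev, inv_inv, inv_mul_cancel_right]

lemma F_mul (B : Type u) [CommRing B] [Algebra R B] [Algebra k B] [IsScalarTower R k B]
    (g h : Pt R A B) : F R k B (g * h) = F R k B g * F R k B h := Pt.map_mul _ _ _

lemma F_inv (B : Type u) [CommRing B] [Algebra R B] [Algebra k B] [IsScalarTower R k B]
    (g : Pt R A B) : F R k B g⁻¹ = (F R k B g)⁻¹ := Pt.map_inv _ _

lemma toHom_lm_injective [Algebra.FiniteType R A] [IsDomain (K ⊗[R] A)]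
    [Algebra.FormallySmooth K (K ⊗[R] A)]
    (c : Pt R A K) : Function.Injective (toHom (K := K) (lm k c)) := by
  have hft : Algebra.FiniteType K (K ⊗[R] A) := inferInstance
  have hN : IsNoetherianRing (K ⊗[R] A) := Algebra.FiniteType.isNoetherianRing K _
  let xc : K ⊗[R] A →ₐ[K] K := toHom c
  let m : Ideal (K ⊗[R] A) := RingHom.ker xc
  have hm : m ≠ ⊤ := RingHom.ker_ne_top _
  let y : Pt R A ((K ⊗[R] A) ⧸ m ^ 2) := ofHom (Ideal.Quotient.mkₐ K (m ^ 2))
  let cR : Pt R A ((K ⊗[R] A) ⧸ m ^ 2) := Pt.map (str R K _) c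
  let g : Pt R A ((K ⊗[R] A) ⧸ m ^ 2) := cR * y⁻¹
  -- the map to `K`
  have hle : m ^ 2 ≤ m := Ideal.pow_le_self two_ne_zero
  let π : (K ⊗[R] A) ⧸ m ^ 2 →ₐ[K] K := Ideal.Quotient.liftₐ (m ^ 2) xc (fun a ha => hle ha)
  have hπ : ∀ a, π (Ideal.Quotient.mkₐ K (m ^ 2) a) = xc a := fun a => rfl
  have hπy : Pt.map (π.restrictScalars R) y = c := by
    have h1 : Pt.map (π.restrictScalars R) y = ofHom xc := by
      apply Pt.ext
      intro a
      rfl
    rw [h1, ofHom_toHom]
  have hπc : Pt.map (π.restrictScalars R) cR = c := by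
    apply Pt.ext
    intro a
    change π (algebraMap K _ (c.hom a)) = c.hom a
    rw [AlgHom.commutes]; rfl
  have hπg : Pt.map (π.restrictScalars R) g = 1 := by
    rw [Pt.map_mul, Pt.map_inv, hπy, hπc, mul_inv_cancel]
  have hker : ∀ r : (K ⊗[R] A) ⧸ m ^ 2, π r = 0 → r ^ 2 = 0 := by
    intro r hr
    obtain ⟨a, rfl⟩ := Ideal.Quotient.mk_surjective r
    have ha : a ∈ m := hr
    rw [← map_pow, Ideal.Quotient.eq_zero_iff_mem]
    exact Ideal.pow_mem_pow ha 2
  have hq : 2 ≤ Fintype.card k := Fintype.one_lt_card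
  have hone : ∀ a, (1 : Pt R A ((K ⊗[R] A) ⧸ m ^ 2)).hom a =
      algebraMap R _ ((1 : Pt R A R).hom a) := by
    intro a
    have h := congrArg (fun z : Pt R A ((K ⊗[R] A) ⧸ m ^ 2) => z.hom a)
      (Pt.map_one (R := R) (A := A) (Algebra.ofId R ((K ⊗[R] A) ⧸ m ^ 2)))
    exact h.symm
  have honeK : ∀ a, (1 : Pt R A K).hom a = algebraMap R K ((1 : Pt R A R).hom a) := by
    intro a
    have h := congrArg (fun z : Pt R A K => z.hom a)
      (Pt.map_one (R := R) (A := A) (Algebra.ofId R K))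
    exact h.symm
  have hFg : F R k _ g = 1 := by
    apply Pt.ext
    intro a
    have h1 : π (g.hom a) = algebraMap R K ((1 : Pt R A R).hom a) := by
      rw [← honeK]
      exact congrArg (fun z : Pt R A K => z.hom a) hπg
    have h2 : π (g.hom a - algebraMap R _ ((1 : Pt R A R).hom a)) = 0 := by
      rw [map_sub, h1, IsScalarTower.algebraMap_apply R K ((K ⊗[R] A) ⧸ m ^ 2), AlgHom.commutes]
      simp
    have h3 : (g.hom a - algebraMap R _ ((1 : Pt R A R).hom a)) ^ Fintype.card k = 0 :=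
      pow_eq_zero_of_le hq (hker _ h2)
    have h4 : frob R k _ (g.hom a - algebraMap R _ ((1 : Pt R A R).hom a)) = 0 := h3
    rw [map_sub, AlgHom.commutes, sub_eq_zero] at h4
    rw [hone]
    exact h4
  refine Groth.Agent.Sga3B.RG.ConjInj.injective_of_section m hm (toHom (lm k c)) (toHom g) ?_
  apply ofHom_injective
  rw [ofHom_comp, ofHom_toHom, hFg, mul_one]
  exact aux_group cR y

/-- **Lang's theorem**. -/
theorem lang [IsAlgClosed K] [Algebra.FiniteType R A] [IsDomain (K ⊗[R] A)]
    [Algebra.FormallySmooth K (K ⊗[R] A)] (h : Pt R A K) :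
    ∃ g : Pt R A K, h = g⁻¹ * Pt.map (frob R k K) g := by
  obtain ⟨f₁, h₁, H₁⟩ := Lang.exists_basicOpen_image (toHom (K := K) (lm k (1 : Pt R A K)))
    (toHom_lm_injective _)
  obtain ⟨f₂, h₂, H₂⟩ := Lang.exists_basicOpen_image (toHom (K := K) (lm k h)) (toHom_lm_injective _)
  obtain ⟨z, hz⟩ : ∃ z : K ⊗[R] A →ₐ[K] K, z (f₁ * f₂) ≠ 0 := by
    by_contra hcon
    push Not at hcon
    exact mul_ne_zero h₁ h₂ (Groth.Agent.Books.PointsAC.eq_zero_of_forall_point K _ _ hcon)
  rw [map_mul] at hz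
  obtain ⟨g₁, hg₁⟩ := H₁ z (left_ne_zero_of_mul hz)
  obtain ⟨g₂, hg₂⟩ := H₂ z (right_ne_zero_of_mul hz)
  have key := congrArg ofHom (hg₁.trans hg₂.symm)
  rw [ofHom_comp, ofHom_comp, Pt.map_one, mul_one] at key
  have hstr : Pt.map (str R K K) h = h := by
    apply Pt.ext
    intro a
    rfl
  rw [hstr] at key
  refine ⟨ofHom g₁ * (ofHom g₂)⁻¹, ?_⟩
  change h = _⁻¹ * F R k K _
  rw [F_mul, F_inv, mul_inv_rev, inv_inv, mul_assoc, ← mul_assoc (ofHom g₁)⁻¹, key]
  group

end lang

/-- Lang's theorem, form without instances between `k` and `K`. -/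
theorem exists_lang {R k K A : Type u} [CommRing R] [Field k] [Fintype k] [Field K] [IsAlgClosed K]
    [Algebra R k] [Algebra R K] [CommRing A] [Algebra R A] [PtGrp R A] [Algebra.FiniteType R A]
    [Algebra.FormallySmooth R A] (hdom : GeomDom R A) (j : k →ₐ[R] K)
    (σ : K →ₐ[R] K) (hσ : ∀ z, σ z = z ^ Fintype.card k) (h : Pt R A K) :
    ∃ g : Pt R A K, h = g⁻¹ * Pt.map σ g := by
  let _ : Algebra k K := j.toRingHom.toAlgebra
  have : IsScalarTower R k K := IsScalarTower.of_algebraMap_eq (fun r => (j.commutes r).symm)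
  have := hdom K
  obtain ⟨g, hg⟩ := lang (R := R) (k := k) h
  refine ⟨g, ?_⟩
  have : σ = frob R k K := by
    ext z
    rw [hσ, frob_apply]
  rw [this]
  exact hg

/-- The Frobenius of `K` as a map of `R`-algebras. -/
theorem exists_frob {R k K : Type u} [CommRing R] [Field k] [Fintype k] [Field K]
    [Algebra R k] [Algebra R K] (j : k →ₐ[R] K) :
    ∃ σ : K →ₐ[R] K, ∀ z, σ z = z ^ Fintype.card k := by
  let _ : Algebra k K := j.toRingHom.toAlgebra
  have : IsScalarTower R k K := IsScalarTower.of_algebraMap_eq (fun r => (j.commutes r).symm)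
  exact ⟨frob R k K, fun z => rfl⟩

end Groth.Agent.Sga3B.MT.Lang986
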