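import Groth.Agent.Sga3B.MT.Defs2
import Groth.Agent.Sga3B.MT.AdRoot

/-!
# The Weyl group and the diagonal infinitesimal automorphisms
-/

set_option autoImplicit false
set_option linter.unusedSectionVars false
universe u

open TensorProduct TrivSqZeroExt

namespace Groth.Agent.Sga3B.MT

open Groth.Agent.Sga3B.Cell Groth.Agent.Sga3B.MT.Cox

variable {idx M : Type} [Fintype idx] [AddCommGroup M] [Module.Free ℤ M] [Module.Finite ℤ M]
variable {P : RootPairing idx ℤ M (Module.Dual ℤ M)} {b : P.Base}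
    {R A B₀ : Type u} [CommRing R] [CommRing A] [Algebra R A] [CommRing B₀] [Algebra R B₀]
    [PtGrp R A]

namespace RCell

variable (D : RCell P b R A B₀) {B C : Type u} [CommRing B] [Algebra R B] [CommRing C] [Algebra R C]
  (φ : B₀ →ₐ[R] B)

lemma uu_zero_w (a : idx) : D.uu a φ 0 = 1 := by
  have h := D.uu_add a φ 0 0
  rw [add_zero] at h
  exact (mul_eq_left.mp h.symm)

lemma uu_neg_w (a : idx) (x : B) : D.uu a φ (-x) = (D.uu a φ x)⁻¹ := by
  rw [eq_inv_iff_mul_eq_one, ← D.uu_add, neg_add_cancel, D.uu_zero_w]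

/-- a point of a root group as a point of the big cell -/
lemma uu_eq_cell (a : idx) (x : B) [DecidableEq idx] :
    D.uu a φ x = ((allList b).map (fun c => D.uu c φ ((Pi.single a x : idx → B) c))).prod * D.i φ 1 := by
  have h : ∀ l : List idx, l.Nodup → ((l.map (fun c => D.uu c φ ((Pi.single a x : idx → B) c))).prod =
      if a ∈ l then D.uu a φ x else 1) := by
    intro l
    induction l with
    | nil => intro _; simp
    | cons c l ih =>
      intro hl
      rw [List.nodup_cons] at hl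
      rw [List.map_cons, List.prod_cons, ih hl.2]
      by_cases hc : a = c
      · subst hc
        rw [if_neg hl.1, if_pos (List.mem_cons_self ..), Pi.single_eq_same, mul_one]
      · rw [Pi.single_eq_of_ne (Ne.symm hc), D.uu_zero_w, one_mul]
        have : a ∈ c :: l ↔ a ∈ l := by
          rw [List.mem_cons]; tauto
        simp only [this]
  rw [h _ (allList_nodup b), if_pos (mem_allList b a), map_one, mul_one]

lemma uu_inj_w (a : idx) : Function.Injective (D.uu a φ) := by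
  classical
  intro x y h
  rw [D.uu_eq_cell φ a x, D.uu_eq_cell φ a y] at h
  have h1 := congrFun (D.cell_inj φ _ _ _ _ h).1 a
  rwa [Pi.single_eq_same, Pi.single_eq_same] at h1

/-- `n_a = u_a(1) u_{-a}(-1) u_a(1)` -/
def nn (a : idx) : Pt R A B := D.uu a φ 1 * D.uu (P.reflectionPerm a a) φ (-1) * D.uu a φ 1

lemma nn_nat (ψ : B →ₐ[R] C) (a : idx) : Pt.map ψ (D.nn φ a) = D.nn (ψ.comp φ) a := by
  rw [nn, Pt.map_mul, Pt.map_mul, D.uu_nat, D.uu_nat, map_one, map_neg, map_one]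
  rfl

/-- the reflection on torus points -/
def srf (P : RootPairing idx ℤ M (Module.Dual ℤ M)) (a : idx) (t : TPt M B) : TPt M B :=
  t * (TPt.cow (P.coroot a) (t (Multiplicative.ofAdd (P.root a))))⁻¹

lemma ch_neg_root (a : idx) (t : TPt M B) :
    TPt.ch (P.root (P.reflectionPerm a a)) t = (((t (Multiplicative.ofAdd (P.root a)))⁻¹ : Bˣ) : B) := by
  rw [P.root_reflectionPerm, P.reflection_apply_self, TPt.ch, ofAdd_neg, map_inv]

lemma uu_nn_aux (a : idx) (ha : a ∈ b.support) (s : Bˣ) :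
    D.nn φ a * (D.uu a φ (-(s : B)) * D.uu (P.reflectionPerm a a) φ ((s⁻¹ : Bˣ) : B) *
      D.uu a φ (-(s : B))) = D.i φ (TPt.cow (P.coroot a) s⁻¹) := by
  have h1 := D.rank1 a ha φ (1 - (s : B)) ((s⁻¹ : Bˣ) : B) s⁻¹ (by
    rw [sub_mul, one_mul, Units.mul_inv]; ring)
  rw [inv_inv, Units.mul_inv] at h1
  have h2 : D.uu a φ 1 * D.uu a φ (-(s : B)) = D.uu a φ (1 - s) := by
    rw [← D.uu_add, sub_eq_add_neg]
  have h3 : D.uu (P.reflectionPerm a a) φ (-1) * D.uu (P.reflectionPerm a a) φ 1 = 1 := by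
    rw [← D.uu_add, neg_add_cancel, D.uu_zero_w]
  have h4 : D.uu a φ ((s : B) * (1 - s)) * D.uu a φ (-(s : B)) = D.uu a φ (-((s : B) * s)) := by
    rw [← D.uu_add]; congr 1; ring
  have h5 := D.rel a φ (TPt.cow (P.coroot a) s) 1
  have h6 : TPt.ch (P.root a) (TPt.cow (P.coroot a) s) = (s : B) * s := by
    rw [TPt.ch_cow]
    have h7 : (P.coroot a) (P.root a) = 2 := by
      have h8 := P.root_coroot_two a
      rw [D.pairing_eq] at h8
      exact h8
    rw [h7, zpow_ofNat, pow_two, Units.val_mul]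
  rw [h6, mul_one] at h5
  have h7 : TPt.cow (P.coroot a) s⁻¹ = (TPt.cow (P.coroot a) s)⁻¹ := by
    ext m
    simp [TPt.cow]
  have h8 : D.uu a φ 1 = D.i φ (TPt.cow (P.coroot a) s⁻¹) * D.uu a φ ((s : B) * s) *
      (D.i φ (TPt.cow (P.coroot a) s⁻¹))⁻¹ := by
    have h9 : D.i φ (TPt.cow (P.coroot a) s)⁻¹ = (D.i φ (TPt.cow (P.coroot a) s))⁻¹ :=
      map_inv (D.i φ) _
    rw [h7, h9, ← h5]; group
  calc D.nn φ a * (D.uu a φ (-(s : B)) * D.uu (P.reflectionPerm a a) φ ((s⁻¹ : Bˣ) : B) *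
      D.uu a φ (-(s : B)))
      = D.uu a φ 1 * D.uu (P.reflectionPerm a a) φ (-1) * ((D.uu a φ 1 * D.uu a φ (-(s : B))) *
        D.uu (P.reflectionPerm a a) φ ((s⁻¹ : Bˣ) : B)) * D.uu a φ (-(s : B)) := by
          rw [nn]; group
    _ = D.uu a φ 1 * (D.uu (P.reflectionPerm a a) φ (-1) * D.uu (P.reflectionPerm a a) φ 1) *
        D.i φ (TPt.cow (P.coroot a) s⁻¹) * (D.uu a φ ((s : B) * (1 - s)) * D.uu a φ (-(s : B))) := by
          rw [h2, h1]; group
    _ = D.uu a φ 1 * D.i φ (TPt.cow (P.coroot a) s⁻¹) * D.uu a φ (-((s : B) * s)) := by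
          rw [h3, h4, mul_one]
    _ = D.i φ (TPt.cow (P.coroot a) s⁻¹) := by
          rw [h8, inv_mul_cancel_right, mul_assoc, ← D.uu_add, add_neg_cancel, D.uu_zero_w, mul_one]

lemma nn_i (a : idx) (ha : a ∈ b.support) (t : TPt M B) :
    D.nn φ a * D.i φ t * (D.nn φ a)⁻¹ = D.i φ (srf P a t) := by
  set s : Bˣ := t (Multiplicative.ofAdd (P.root a)) with hs
  have h1 : D.i φ t * (D.nn φ a)⁻¹ * (D.i φ t)⁻¹ =
      D.uu a φ (-(s : B)) * D.uu (P.reflectionPerm a a) φ ((s⁻¹ : Bˣ) : B) * D.uu a φ (-(s : B)) := by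
    have h2 : (D.nn φ a)⁻¹ = D.uu a φ (-1) * D.uu (P.reflectionPerm a a) φ 1 * D.uu a φ (-1) := by
      rw [nn, mul_inv_rev, mul_inv_rev, ← D.uu_neg_w, ← D.uu_neg_w, neg_neg, mul_assoc]
    have h3 := D.rel a φ t (-1)
    have h4 := D.rel (P.reflectionPerm a a) φ t 1
    have h5 : TPt.ch (P.root a) t = (s : B) := rfl
    rw [ch_neg_root, ← hs, mul_one] at h4
    rw [h5, mul_neg, mul_one] at h3
    rw [h2, ← h3, ← h4]
    group
  have h2 := D.uu_nn_aux φ a ha s
  rw [← h1] at h2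
  have h3 : TPt.cow (P.coroot a) s⁻¹ = (TPt.cow (P.coroot a) s)⁻¹ := by
    ext m
    simp [TPt.cow]
  rw [srf, ← hs, ← h3, mul_comm t, map_mul, ← h2]
  group

lemma nn_i_inv (a : idx) (ha : a ∈ b.support) (t : TPt M B) :
    (D.nn φ a)⁻¹ * D.i φ t * D.nn φ a = D.i φ (srf P a t) := by
  have h1 : srf P a (srf P a t) = t := by
    have h7 : (P.coroot a) (P.root a) = 2 := by
      have h8 := P.root_coroot_two a
      rw [D.pairing_eq] at h8
      exact h8
    have h2 : (srf P a t) (Multiplicative.ofAdd (P.root a)) = (t (Multiplicative.ofAdd (P.root a)))⁻¹ := by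
      rw [srf, MonoidHom.mul_apply, MonoidHom.inv_apply]
      change _ * ((t (Multiplicative.ofAdd (P.root a))) ^ (P.coroot a (P.root a)))⁻¹ = _
      rw [h7]
      group
    have h3 : TPt.cow (P.coroot a) (t (Multiplicative.ofAdd (P.root a)))⁻¹ =
        (TPt.cow (P.coroot a) (t (Multiplicative.ofAdd (P.root a))))⁻¹ := by
      ext m
      simp [TPt.cow]
    have h4 : ∀ x y : TPt M B, x * y⁻¹ * y⁻¹⁻¹ = x := fun x y => by
      ext m
      simp
    rw [srf, h2, h3]
    exact h4 _ _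
  have h2 := D.nn_i φ a ha (srf P a t)
  rw [h1] at h2
  rw [← h2]
  group

/-- The diagonal infinitesimal automorphisms under a simple reflection. -/
lemma IsDiag.nn {D : RCell P b R A B₀} {φ : B₀ →ₐ[R] B} {c : P.rootSpan ℤ →+ B} {y : InfAut R A B}
    (h : D.IsDiag φ c y) {a : idx} (ha : a ∈ b.support) :
    D.IsDiag φ (c.comp (act (RootPairing.Equiv.reflection P a)).toAddMonoidHom)
      (InfAut.Ad (D.nn φ a) y) := by
  constructor
  · intro B' _ _ ψ t
    rw [InfAut.app_Ad, D.nn_nat, D.nn_i_inv _ a ha, h.1]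
    have h1 : InfAut.inlPt ψ (D.nn φ a) = Pt.map (eInl R B') (D.nn (ψ.comp φ) a) := by
      rw [InfAut.inlPt, ← D.nn_nat φ ψ]; rfl
    rw [h1, ← Pt.map_inv, ← Pt.map_mul, ← Pt.map_mul, ← D.nn_i_inv _ a ha]
    congr 1
    group
  · intro e B' _ _ ψ z
    obtain ⟨r, hr⟩ := D.conj a ha (P.reflectionPerm a e)
    have hr' : ∀ {B'' : Type u} [CommRing B''] [Algebra R B''] (φ' : B₀ →ₐ[R] B'') (x : B''),
        D.nn φ' a * D.uu (P.reflectionPerm a e) φ' x * (D.nn φ' a)⁻¹ = D.uu e φ' (φ' r * x) := by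
      intro B'' _ _ φ' x
      have h2 := hr φ' x
      rw [P.reflectionPerm_self] at h2
      exact h2
    have hu : ∀ x : B', (ψ.comp φ) r * ((ψ.comp φ) ((r⁻¹ : B₀ˣ) : B₀) * x) = x := by
      intro x
      rw [← mul_assoc, ← map_mul, Units.mul_inv, map_one, one_mul]
    have h3 : (D.nn (ψ.comp φ) a)⁻¹ * D.uu e (ψ.comp φ) z * D.nn (ψ.comp φ) a =
        D.uu (P.reflectionPerm a e) (ψ.comp φ) ((ψ.comp φ) ((r⁻¹ : B₀ˣ) : B₀) * z) := by
      have h4 := hr' (ψ.comp φ) ((ψ.comp φ) ((r⁻¹ : B₀ˣ) : B₀) * z)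
      rw [hu] at h4
      rw [← h4]
      group
    rw [InfAut.app_Ad, D.nn_nat, h3, h.2]
    have h1 : InfAut.inlPt ψ (D.nn φ a) = D.nn ((eInl R B').comp (ψ.comp φ)) a := by
      rw [InfAut.inlPt, D.nn_nat]; rfl
    rw [h1, hr']
    congr 1
    have h5 : ((eInl R B').comp (ψ.comp φ)) (r : B₀) = inl ((ψ.comp φ) (r : B₀)) := rfl
    have h6 : (c.comp (act (RootPairing.Equiv.reflection P a)).toAddMonoidHom) (P.rootSpanMem ℤ e) =
        c (P.rootSpanMem ℤ (P.reflectionPerm a e)) := by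
      change c (act (RootPairing.Equiv.reflection P a) (P.rootSpanMem ℤ e)) = _
      rw [act_root]
      rfl
    rw [h5, h6, mul_add]
    ext
    · simp only [TrivSqZeroExt.fst_add, TrivSqZeroExt.fst_mul, TrivSqZeroExt.fst_inl, TrivSqZeroExt.fst_inr,
        mul_zero, add_zero]
      exact hu z
    · simp only [TrivSqZeroExt.snd_add, TrivSqZeroExt.snd_mul, TrivSqZeroExt.snd_inl, TrivSqZeroExt.snd_inr,
        TrivSqZeroExt.fst_inl, TrivSqZeroExt.fst_inr, smul_zero, smul_eq_mul,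
        zero_add, add_zero, mul_zero]
      rw [mul_left_comm, hu z]

variable (b) in
/-- The diagonal infinitesimal automorphisms under the Weyl group. -/
lemma exists_weyl [P.IsReduced] {w : P.Aut} (hw : w ∈ P.weylGroup) : ∃ n : Pt R A B,
    ∀ (c : P.rootSpan ℤ →+ B) (y : InfAut R A B), D.IsDiag φ c y →
      D.IsDiag φ (c.comp (act w).toAddMonoidHom) (InfAut.Ad n y) := by
  rw [← Groth.Agent.Sga3A.Weyl.closure_simple b] at hw
  induction hw using Subgroup.closure_induction'' with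
  | mem x hx =>
    obtain ⟨a, ha, rfl⟩ := hx
    exact ⟨D.nn φ a, fun c y h => h.nn ha⟩
  | inv_mem x hx =>
    obtain ⟨a, ha, rfl⟩ := hx
    refine ⟨D.nn φ a, fun c y h => ?_⟩
    have h1 : (RootPairing.Equiv.reflection P a)⁻¹ = RootPairing.Equiv.reflection P a :=
      RootPairing.Equiv.reflection_inv P a
    rw [h1]
    exact h.nn ha
  | one =>
    refine ⟨1, fun c y h => ?_⟩
    have h1 : c.comp (act (1 : P.Aut)).toAddMonoidHom = c := by
      ext v
      change c (act (1 : P.Aut) v) = c v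
      rw [NormB.act_one]
    rw [h1, InfAut.Ad_one]
    exact h
  | mul x y _ _ hx hy =>
    obtain ⟨n, hn⟩ := hx
    obtain ⟨n', hn'⟩ := hy
    refine ⟨n' * n, fun c z h => ?_⟩
    have h1 := hn' _ _ (hn c z h)
    have h2 : (c.comp (act x).toAddMonoidHom).comp (act y).toAddMonoidHom =
        c.comp (act (x * y)).toAddMonoidHom := by
      ext v
      change c (act x (act y v)) = c (act (x * y) v)
      rw [NormB.act_mul]
    rw [h2, ← InfAut.Ad_mul] at h1
    exact h1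

end RCell

end Groth.Agent.Sga3B.MT
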