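import Groth.Agent.Sga3B.MT.Common729
import Groth.Agent.Sga3B.MT.DiagFin
import Groth.Agent.Sga3B.MT.WeylDiag
import Groth.Agent.Sga3B.MT.FinDesc986
import Groth.Agent.Sga3B.MT.FinLang986
import Groth.Agent.Sga3B.PinComb829

/-!
# Rational regular elements over a finite field

`exists_isReg_of_finite`: for `R → k → K`, `k` finite, `K` algebraically closed, some `x ∈ Lie Aut G (k)`
becomes regular over `K`.  Input: the comparison of the split data `D` and its Frobenius twist `D.bc σ`.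
-/

set_option autoImplicit false
set_option linter.unusedSectionVars false
universe u

open TensorProduct
open Groth.Agent.Sga3B.Cell

namespace Groth.Agent.Sga3B.MT.FinAsm729

open Groth.Agent.Sga3B.MT.Cox Groth.Agent.Sga3B.MT.Common729

variable {idx M : Type} [Fintype idx] [AddCommGroup M] [Module.Free ℤ M] [Module.Finite ℤ M]
variable {P : RootPairing idx ℤ M (Module.Dual ℤ M)} {b : P.Base}

section uniq

variable {R A B₀ : Type u} [CommRing R] [CommRing A] [Algebra R A] [CommRing B₀] [Algebra R B₀]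
    [PtGrp R A]

/-- uniqueness of `d_c` -/
theorem isDiag_unique (D : RCell P b R A B₀) [Algebra.Smooth R A] (hdom : GeomDom R A)
    {B : Type u} [CommRing B] [Algebra R B] {φ : B₀ →ₐ[R] B} {c : P.rootSpan ℤ →+ B}
    {y y' : InfAut R A B} (h : D.IsDiag φ c y) (h' : D.IsDiag φ c y') : y = y' := by
  apply D.ext_infAut hdom φ
  · intro B' _ _ ψ t
    rw [h.1, h'.1]
  · intro a B' _ _ ψ z
    rw [h.2, h'.2]

end uniq

variable {R K A : Type u} [CommRing R] [Field K] [Algebra R K] [CommRing A] [Algebra R A] [PtGrp R A]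

/-- the conclusion of the comparison theorem (F4) for a pair of split data -/
def Compare (D D' : RCell P b R A K) : Prop :=
  ∃ (g : Pt R A K) (θ : P.rootSpan ℤ ≃ₗ[ℤ] P.rootSpan ℤ),
    (∀ i, ∃ j, θ (P.rootSpanMem ℤ i) = P.rootSpanMem ℤ j) ∧
    ∀ (c : P.rootSpan ℤ →+ K) (x : InfAut R A K), D'.IsDiag (AlgHom.id R K) c x →
      D.IsDiag (AlgHom.id R K) (c.comp θ.toLinearMap.toAddMonoidHom) (InfAut.Ad g x)

/-- **Rational regular elements over a finite field**, from the comparison of `D` with its Frobenius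
twist. -/
theorem exists_isReg_of_finite [IsAlgClosed K] {k : Type u} [Field k] [Finite k] [Algebra R k]
    [Algebra.Smooth R A] (hdom : GeomDom R A) (j : k →ₐ[R] K) (D : RCell P b R A K)
    (hcmp : ∀ σ : K →ₐ[R] K, Compare D (D.bc σ))
    (hspan : ∀ x : InfAut R A K, x ∈ Submodule.span K (Set.range (InfAut.map (A := A) j))) :
    ∃ x : InfAut R A k, D.IsReg (AlgHom.id R K) (InfAut.map j x) := by
  have := Fintype.ofFinite k
  have hred : P.IsReduced := Groth.Agent.Sga3B.PinComb.isReduced b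
  obtain ⟨σ, hσ⟩ := Lang986.exists_frob (R := R) j
  obtain ⟨g, θ, hθ, hg⟩ := hcmp σ
  let _ : Algebra k K := j.toRingHom.toAlgebra
  obtain ⟨w, hw, y, hy1, hy2⟩ := AdRoot.exists_y b θ hθ k K
  obtain ⟨x₀, hx₀⟩ := D.exists_diag hdom (AlgHom.id R K) y
  have hx1 : (D.bc σ).IsDiag (AlgHom.id R K) ((σ : K →+ K).comp y) (InfAut.map σ x₀) :=
    hx₀.map σ (fun _ => rfl)
  obtain ⟨n, hn⟩ := RCell.exists_weyl b (D.bc σ) (AlgHom.id R K) hw
  have hx2 := hg _ _ (hn _ _ hx1)
  have hc : (((σ : K →+ K).comp y).comp (act w).toAddMonoidHom).comp θ.toLinearMap.toAddMonoidHom =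
      y := by
    ext v
    change σ (y (act w (θ v))) = y v
    rw [hσ, ← Nat.card_eq_fintype_card, hy1]
  rw [hc] at hx2
  have hx3 : InfAut.Ad (g * n) (InfAut.map σ x₀) = x₀ := by
    rw [InfAut.Ad_mul]
    exact isDiag_unique D hdom hx2 hx₀
  obtain ⟨h, hh⟩ := Lang986.exists_lang hdom j σ hσ (g * n)
  have hfix : InfAut.map σ (InfAut.Ad h x₀) = InfAut.Ad h x₀ := by
    rw [InfAut.map_Ad]
    rw [hh, InfAut.Ad_mul] at hx3
    rw [← InfAut.Ad_Ad_inv h (InfAut.Ad (Pt.map σ h) (InfAut.map σ x₀)), hx3]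
  obtain ⟨x, hx⟩ := Fin986.exists_of_map_eq j σ hσ hspan _ hfix
  exact ⟨x, by rw [hx]; exact ⟨h, y, x₀, hx₀, fun a => (hy2 a).isUnit, rfl⟩⟩

end Groth.Agent.Sga3B.MT.FinAsm729
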