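import Groth.Agent.Sga3B.MT.Fix
import Groth.Agent.Sga3B.MT.Closed423
import Groth.Agent.Sga3B.MT.Common729

/-!
# The tori of two split cell data over an algebraically closed field are conjugate
-/

set_option autoImplicit false
set_option linter.unusedSectionVars false
universe u

open TensorProduct TrivSqZeroExt
open Groth.Agent.Sga3B.Cell

namespace Groth.Agent.Sga3B.MT.Conj986

section tor

variable {idx M : Type} [Fintype idx] [AddCommGroup M] [Module.Free ℤ M] [Module.Finite ℤ M]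
variable {P : RootPairing idx ℤ M (Module.Dual ℤ M)} {b : P.Base}
    {R A B₀ : Type u} [CommRing R] [CommRing A] [Algebra R A] [CommRing B₀] [Algebra R B₀]
    [PtGrp R A]
variable {B C : Type u} [CommRing B] [Algebra R B] [CommRing C] [Algebra R C]

/-- the torus acts trivially on the diagonal infinitesimal automorphisms -/
lemma Ad_i {D : RCell P b R A B₀} {φ : B₀ →ₐ[R] B} {c : P.rootSpan ℤ →+ B} {x : InfAut R A B}
    (hx : D.IsDiag φ c x) (t : TPt M B) : InfAut.Ad (D.i φ t) x = x := by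
  apply InfAut.ext_app
  intro B' _ _ ψ h
  have h1 : x.app ψ (Pt.map ψ (D.i φ t)) = InfAut.inlPt ψ (D.i φ t) := by
    rw [D.i_nat, hx.1, ← D.i_nat]
    rfl
  rw [InfAut.app_Ad, map_mul, map_mul, map_inv, h1]
  group

/-- two tori with a common regular element: the comparison map -/
theorem exists_tor (D D' : RCell P b R A B₀) {φ : B₀ →ₐ[R] B} {c c' : P.rootSpan ℤ →+ B}
    {x x' : InfAut R A B} (hx : D.IsDiag φ c x) (hreg : ∀ a, IsUnit (c (P.rootSpanMem ℤ a)))
    (hx' : D'.IsDiag φ c' x') (g : Pt R A B) (hg : InfAut.Ad g x' = x) :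
    ∃ s : TPt M (MonoidAlgebra B (Multiplicative M)),
      ∀ {C : Type u} [CommRing C] [Algebra R C] (ψ : B →ₐ[R] C) (t : TPt M C),
        Pt.map ψ g * D'.i (ψ.comp φ) t * (Pt.map ψ g)⁻¹ =
          D.i (ψ.comp φ) (TPt.map (evTo ψ t) s) := by
  let ι := cT R M B
  let τ : Pt R A (MonoidAlgebra B (Multiplicative M)) := Pt.map ι g * D'.tU φ * (Pt.map ι g)⁻¹
  have key : ∀ {C : Type u} [CommRing C] [Algebra R C] (ψ : B →ₐ[R] C) (t : TPt M C),
      Pt.map (evTo ψ t) τ = Pt.map ψ g * D'.i (ψ.comp φ) t * (Pt.map ψ g)⁻¹ := by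
    intro C _ _ ψ t
    have h1 : Pt.map (evTo ψ t) (Pt.map ι g) = Pt.map ψ g := by
      rw [Pt.map_map, evTo_comp_cT]
    rw [Pt.map_mul, Pt.map_mul, Pt.map_inv, h1, D'.map_evTo_tU]
  obtain ⟨s, hs⟩ := D.mem_torus_of_fixes' hx hreg ι (fun z => rfl) (evTo (AlgHom.id R B) 1)
    (fun n z => by rw [evTo_single]; simp) τ (by
      rw [key]
      have : D'.i ((AlgHom.id R B).comp φ) (1 : TPt M B) = 1 := map_one _
      rw [this, mul_one, mul_inv_cancel]) (by
      have h1 : InfAut.map ι x = InfAut.Ad (Pt.map ι g) (InfAut.map ι x') := by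
        rw [← hg, InfAut.map_Ad]
      rw [h1, ← InfAut.Ad_mul, inv_mul_cancel_right, InfAut.Ad_mul]
      congr 1
      exact Ad_i (hx'.fix_map ι) (uT M B))
  refine ⟨s, fun {C} _ _ ψ t => ?_⟩
  rw [← key, hs, D.i_nat]
  have h2 : (evTo ψ t).comp (ι.comp φ) = ψ.comp φ := by
    rw [← AlgHom.comp_assoc]
    congr 1
    exact evTo_comp_cT ψ t
  rw [h2]

end tor

section conj

variable {idx M : Type} [Fintype idx] [AddCommGroup M] [Module.Free ℤ M] [Module.Finite ℤ M]
variable {P : RootPairing idx ℤ M (Module.Dual ℤ M)} {b : P.Base}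
    {R K A : Type u} [CommRing R] [Field K] [IsAlgClosed K]
    [Algebra R K] [CommRing A] [Algebra R A] [PtGrp R A]

/-- The tori of two split cell data over an algebraically closed field are conjugate. -/
theorem exists_conj [Algebra.FinitePresentation R A] (D D' : RCell P b R A K)
    (hdiag : ∀ {B : Type u} [CommRing B] [Algebra R B] (φ : K →ₐ[R] B) (c : P.rootSpan ℤ →+ B),
      ∃ y : InfAut R A B, D.IsDiag φ c y)
    (huniq : ∀ {B : Type u} [CommRing B] [Algebra R B] (φ : K →ₐ[R] B) (c : P.rootSpan ℤ →+ B)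
      (y y' : InfAut R A B), D.IsDiag φ c y → D.IsDiag φ c y' → y = y')
    (hdiag' : ∀ {B : Type u} [CommRing B] [Algebra R B] (φ : K →ₐ[R] B) (c : P.rootSpan ℤ →+ B),
      ∃ y : InfAut R A B, D'.IsDiag φ c y)
    (huniq' : ∀ {B : Type u} [CommRing B] [Algebra R B] (φ : K →ₐ[R] B) (c : P.rootSpan ℤ →+ B)
      (y y' : InfAut R A B), D'.IsDiag φ c y → D'.IsDiag φ c y' → y = y')
    (hz : Common729.ZeroLocus D) (hl : Common729.RegLift D) (hl' : Common729.RegLift D') :
    ∃ g₀ : Pt R A K, ∀ {B : Type u} [CommRing B] [Algebra R B] (φ : K →ₐ[R] B) (t : TPt M B),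
      ∃ t' : TPt M B, D'.i φ t = Pt.map φ g₀ * D.i φ t' * (Pt.map φ g₀)⁻¹ := by
  obtain ⟨x, ⟨g, c, y, hy, hc, hxy⟩, ⟨g', c', y', hy', -, hxy'⟩⟩ :=
    Common729.exists_common D D' hdiag huniq hdiag' huniq' hz hl hl'
  obtain ⟨s, hs⟩ := exists_tor D D' hy hc hy' (g⁻¹ * g') (by
    rw [InfAut.Ad_mul, ← hxy', hxy, InfAut.Ad_inv_Ad])
  refine ⟨g'⁻¹ * g, fun {B} _ _ φ t => ⟨TPt.map (evTo φ t) s, ?_⟩⟩
  have h := hs φ t
  rw [Pt.map_mul, Pt.map_inv] at h
  rw [Pt.map_mul, Pt.map_inv]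
  change _ * D'.i φ t * _ = D.i φ _ at h
  rw [← h]
  group

end conj

end Groth.Agent.Sga3B.MT.Conj986
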