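import Groth.Agent.Sga3B.CellBase
import Groth.Agent.Sga3B.HaarDef
import Mathlib.RingTheory.HopfAlgebra.Basic
import Mathlib.RingTheory.HopfAlgebra.Convolution

/-!
# The Hopf algebra attached to a group structure on points
-/

set_option autoImplicit false
universe u

open TensorProduct WithConv

namespace Groth.Agent.Sga3B.MT.PtHopf

open Groth.Agent.Sga3B.Cell

variable (R A : Type u) [CommRing R] [CommRing A] [Algebra R A] [PtGrp R A]

/-- first universal point -/
def pL : Pt R A (A ⊗[R] A) := Pt.mk Algebra.TensorProduct.includeLeft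

/-- second universal point -/
def pR : Pt R A (A ⊗[R] A) := Pt.mk Algebra.TensorProduct.includeRight

/-- comultiplication -/
def cm : A →ₐ[R] A ⊗[R] A := (pL R A * pR R A).hom

/-- counit -/
def cu : A →ₐ[R] R := (1 : Pt R A R).hom

/-- antipode -/
def ap : A →ₐ[R] A := ((Pt.mk (AlgHom.id R A))⁻¹ : Pt R A A).hom

variable {R A} {B : Type u} [CommRing B] [Algebra R B]

lemma comp_cm (f : A ⊗[R] A →ₐ[R] B) :
    Pt.mk (f.comp (cm R A)) = Pt.mk (f.comp Algebra.TensorProduct.includeLeft) *
      Pt.mk (f.comp Algebra.TensorProduct.includeRight) := by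
  have h : Pt.mk (f.comp (cm R A)) = Pt.map f (pL R A * pR R A) := rfl
  rw [h, Pt.map_mul]
  rfl

lemma comp_cu (f : R →ₐ[R] B) : Pt.mk (f.comp (cu R A)) = 1 := by
  have h : Pt.mk (f.comp (cu R A)) = Pt.map f (1 : Pt R A R) := rfl
  rw [h, Pt.map_one]

lemma comp_ap (f : A →ₐ[R] B) : Pt.mk (f.comp (ap R A)) = (Pt.mk f)⁻¹ := by
  have h : Pt.mk (f.comp (ap R A)) = Pt.map f ((Pt.mk (AlgHom.id R A))⁻¹ : Pt R A A) := rfl
  rw [h, Pt.map_inv]
  rfl

variable (R A)

/-- The Hopf algebra structure. -/
noncomputable abbrev bialg : Bialgebra R A :=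
  Bialgebra.ofAlgHom (cm R A) (cu R A)
    (by
      have h : ∀ f g : A →ₐ[R] A ⊗[R] (A ⊗[R] A), Pt.mk f = Pt.mk g → f = g := fun _ _ h => h
      apply h
      rw [← AlgHom.comp_assoc, comp_cm, comp_cm]
      have h1 : ((Algebra.TensorProduct.assoc R R R A A A).toAlgHom.comp
          (Algebra.TensorProduct.map (cm R A) (AlgHom.id R A))).comp Algebra.TensorProduct.includeLeft =
          ((Algebra.TensorProduct.assoc R R R A A A).toAlgHom.comp
            Algebra.TensorProduct.includeLeft).comp (cm R A) := by
        ext a; simp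
      have h2 : (Algebra.TensorProduct.map (AlgHom.id R A) (cm R A)).comp
          Algebra.TensorProduct.includeRight = (Algebra.TensorProduct.includeRight).comp (cm R A) := by
        ext a; simp
      rw [h1, h2, comp_cm, comp_cm, mul_assoc]
      congr 1
      · congr 1
        ext a; simp; rfl
      · congr 1
        congr 1
        ext a; simp; rfl)
    (by
      have h : ∀ f g : A →ₐ[R] R ⊗[R] A, Pt.mk f = Pt.mk g → f = g := fun _ _ h => h
      apply h
      rw [comp_cm]
      have h1 : (Algebra.TensorProduct.map (cu R A) (AlgHom.id R A)).comp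
          Algebra.TensorProduct.includeLeft =
          (Algebra.TensorProduct.includeLeft : R →ₐ[R] R ⊗[R] A).comp (cu R A) := by
        ext a; simp
      rw [h1, comp_cu, one_mul]
      congr 1
      ext a; simp)
    (by
      have h : ∀ f g : A →ₐ[R] A ⊗[R] R, Pt.mk f = Pt.mk g → f = g := fun _ _ h => h
      apply h
      rw [comp_cm]
      have h1 : (Algebra.TensorProduct.map (AlgHom.id R A) (cu R A)).comp
          Algebra.TensorProduct.includeRight =
          (Algebra.TensorProduct.includeRight : R →ₐ[R] A ⊗[R] R).comp (cu R A) := by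
        ext a; simp
      rw [h1, comp_cu, mul_one]
      congr 1
      ext a; simp)

/-- The Hopf algebra structure. -/
@[reducible] noncomputable def hopf : HopfAlgebra R A :=
  letI := bialg R A
  HopfAlgebra.ofAlgHom (ap R A)
    (by
      have h : ∀ f g : A →ₐ[R] A, Pt.mk f = Pt.mk g → f = g := fun _ _ h => h
      apply h
      change Pt.mk ((Algebra.TensorProduct.lift (ap R A) (AlgHom.id R A) fun _ _ => Commute.all _ _).comp
        (cm R A)) = Pt.mk ((Algebra.ofId R A).comp (cu R A))
      rw [comp_cm, comp_cu]
      have h1 : (Algebra.TensorProduct.lift (ap R A) (AlgHom.id R A) fun _ _ => Commute.all _ _).comp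
          Algebra.TensorProduct.includeLeft = (AlgHom.id R A).comp (ap R A) := by
        ext a; simp
      have h2 : (Algebra.TensorProduct.lift (ap R A) (AlgHom.id R A) fun _ _ => Commute.all _ _).comp
          Algebra.TensorProduct.includeRight = AlgHom.id R A := by
        ext a; simp
      rw [h1, h2, comp_ap, inv_mul_cancel])
    (by
      have h : ∀ f g : A →ₐ[R] A, Pt.mk f = Pt.mk g → f = g := fun _ _ h => h
      apply h
      change Pt.mk ((Algebra.TensorProduct.lift (AlgHom.id R A) (ap R A) fun _ _ => Commute.all _ _).comp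
        (cm R A)) = Pt.mk ((Algebra.ofId R A).comp (cu R A))
      rw [comp_cm, comp_cu]
      have h1 : (Algebra.TensorProduct.lift (AlgHom.id R A) (ap R A) fun _ _ => Commute.all _ _).comp
          Algebra.TensorProduct.includeLeft = AlgHom.id R A := by
        ext a; simp
      have h2 : (Algebra.TensorProduct.lift (AlgHom.id R A) (ap R A) fun _ _ => Commute.all _ _).comp
          Algebra.TensorProduct.includeRight = (AlgHom.id R A).comp (ap R A) := by
        ext a; simp
      rw [h1, h2, comp_ap, mul_inv_cancel])

/-- Points in both languages. -/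
noncomputable def toPt (B : Type u) [CommRing B] [Algebra R B] :
    letI := hopf R A
    WithConv (A →ₐ[R] B) ≃* Pt R A B :=
  letI := hopf R A
  { toFun := fun f => Pt.mk f.ofConv
    invFun := fun g => toConv g.hom
    left_inv := fun f => rfl
    right_inv := fun g => rfl
    map_mul' := fun f g => by
      have h1 : (f * g).ofConv = (Algebra.TensorProduct.lift f.ofConv g.ofConv
          (fun _ _ => Commute.all _ _)).comp (cm R A) := by
        ext a
        exact AlgHom.convMul_apply f g a
      rw [h1, comp_cm]
      congr 1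
      · congr 1
        ext a; simp
      · congr 1
        ext a; simp }

end Groth.Agent.Sga3B.MT.PtHopf
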