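import Groth.Agent.Sga3B.MT.Twist
import Groth.Agent.Sga3B.MT.PtHopf
import Groth.Agent.Sga3B.MT.Lang
import Mathlib.RingTheory.TensorProduct.Free

/-!
# Regular infinitesimal automorphisms over a finite field
-/

set_option autoImplicit false
set_option linter.unusedSectionVars false
universe u

open TensorProduct TrivSqZeroExt

namespace Groth.Agent.Sga3B.MT

open Groth.Agent.Sga3B.Cell Groth.Agent.Sga3B.MT.Cox
open scoped Groth.Agent.Sga3B.HaarDef

/-- **Lang's theorem** for points. -/
theorem lang_pt {k K A : Type u} [Field k] [Fintype k] [Field K] [IsAlgClosed K] [Algebra k K]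
    [CommRing A] [Algebra k A] [PtGrp k A] [Algebra.FiniteType k A] [IsDomain (K ⊗[k] A)]
    [Algebra.FormallySmooth K (K ⊗[k] A)] (u : Pt k A K) :
    ∃ h : Pt k A K, u = h⁻¹ * Pt.map (FiniteField.frobeniusAlgHom k K) h := by
  let _ := PtHopf.hopf k A
  obtain ⟨g, hg⟩ := Lang.lang ((PtHopf.toPt k A K).symm u)
  refine ⟨PtHopf.toPt k A K g, ?_⟩
  have h1 := congrArg (PtHopf.toPt k A K) hg
  rw [MulEquiv.apply_symm_apply] at h1
  rw [h1, ← map_inv]
  exact map_mul (PtHopf.toPt k A K) _ _

section fixed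

variable {k : Type u} [Field k] {A : Type u} [CommRing A] [Algebra k A]
variable {K : Type u} [Field K] [Algebra k K]

lemma exists_of_sg (φ : K →ₐ[k] K) (hφ : ∀ c, φ c = c → c ∈ Set.range (algebraMap k K))
    (b : K ⊗[k] A) (hb : Algebra.TensorProduct.map φ (AlgHom.id k A) b = b) : ∃ a : A, 1 ⊗ₜ a = b := by
  let e := Module.Basis.ofVectorSpace k A
  let e' := Algebra.TensorProduct.basis K e
  have h1 : ∀ (b : K ⊗[k] A) i, e'.repr (Algebra.TensorProduct.map φ (AlgHom.id k A) b) i =
      φ (e'.repr b i) := by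
    intro b i
    induction b with
    | zero => simp
    | add x y hx hy => rw [map_add, map_add, map_add, Finsupp.add_apply, Finsupp.add_apply, map_add, hx, hy]
    | tmul c a => simp [e']
  have h2 : ∀ i, e'.repr b i ∈ Set.range (algebraMap k K) := by
    intro i
    apply hφ
    rw [← h1, hb]
  choose d hd using h2
  refine ⟨∑ i ∈ (e'.repr b).support, d i • e i, ?_⟩
  rw [tmul_sum]
  conv_rhs => rw [← e'.linearCombination_repr b, Finsupp.linearCombination_apply, Finsupp.sum]
  refine Finset.sum_congr rfl fun i _ => ?_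
  rw [← hd i]
  simp [e']

variable (k A K) in
/-- `k ⊗ A → K ⊗ A` -/
noncomputable def jj : k ⊗[k] A →ₐ[k] K ⊗[k] A :=
  Algebra.TensorProduct.map (Algebra.ofId k K) (AlgHom.id k A)

lemma jj_injective : Function.Injective (jj k A K) := by
  have h : ∀ z, jj k A K z = ((Algebra.linearMap k K).rTensor A) z := by
    intro z
    induction z with
    | zero => simp
    | add x y hx hy => rw [map_add, map_add, hx, hy]
    | tmul c a => rfl
  intro x y hxy
  rw [h, h] at hxy
  exact Module.Flat.rTensor_preserves_injective_linearMap (M := A) (Algebra.linearMap k K)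
    (algebraMap k K).injective hxy

lemma jj_one_tmul (a : A) : jj k A K (1 ⊗ₜ a) = 1 ⊗ₜ a := by
  simp [jj]

variable [PtGrp k A]

/-- Descent of infinitesimal automorphisms fixed by `φ`. -/
theorem InfAut.exists_descend (φ : K →ₐ[k] K) (hφ : ∀ c, φ c = c → c ∈ Set.range (algebraMap k K))
    (x : InfAut k A K) (hx : InfAut.map φ x = x) :
    ∃ x₀ : InfAut k A k, InfAut.map (Algebra.ofId k K) x₀ = x := by
  have h1 : ∀ f : A, ∃ a : A, 1 ⊗ₜ a = x.1 f := by
    intro f
    apply exists_of_sg φ hφ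
    rw [← InfAut.map_val, hx]
  choose d₀ hd₀ using h1
  have hj : ∀ f, jj k A K (1 ⊗ₜ d₀ f) = x.1 f := fun f => by rw [jj_one_tmul, hd₀]
  let d : A →ₗ[k] k ⊗[k] A :=
    { toFun := fun f => 1 ⊗ₜ d₀ f
      map_add' := fun f f' => by
        apply jj_injective (K := K)
        rw [map_add, hj, hj, hj, map_add]
      map_smul' := fun c f => by
        apply jj_injective (K := K)
        rw [_root_.map_smul (jj k A K), hj, hj, _root_.map_smul x.1]
        rfl }
  have hd : ∀ f, jj k A K (d f) = x.1 f := hj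
  obtain ⟨hvf, hg⟩ := x.2
  have hVF : IsVF d := by
    intro f f'
    apply jj_injective (K := K)
    rw [hd, hvf, map_add, map_mul, map_mul, hd, hd, jj_one_tmul, jj_one_tmul]
  have key : ∀ (B' : Type u) [CommRing B'] [Algebra k B'] (φ' : k →ₐ[k] B') (g : Pt k A B'),
      Pt.map (eMap (Algebra.TensorProduct.includeRight : B' →ₐ[k] K ⊗[k] B')) (vpt d hVF φ' g) =
        x.app (Algebra.TensorProduct.includeLeft : K →ₐ[k] K ⊗[k] B')
          (Pt.map (Algebra.TensorProduct.includeRight : B' →ₐ[k] K ⊗[k] B') g) := by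
    intro B' _ _ φ' g
    apply Pt.ext
    intro f
    ext
    · simp
    · rw [InfAut.snd_app, Pt.map_hom_apply, snd_eMap, snd_vpt, ← hd]
      have h2 : (Algebra.TensorProduct.includeRight : B' →ₐ[k] K ⊗[k] B').comp (evp φ' g) =
          (evp (Algebra.TensorProduct.includeLeft : K →ₐ[k] K ⊗[k] B')
            (Pt.map (Algebra.TensorProduct.includeRight : B' →ₐ[k] K ⊗[k] B') g)).comp (jj k A K) := by
        apply Algebra.TensorProduct.ext
        · exact Subsingleton.elim _ _
        · ext a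
          simp [jj]
      exact DFunLike.congr_fun h2 (d f)
  have hgrp : IsGrpVF d hVF := by
    intro B' _ _ φ' g h
    have hinj : Function.Injective (Algebra.TensorProduct.includeRight : B' →ₐ[k] K ⊗[k] B') :=
      Algebra.TensorProduct.includeRight_injective (algebraMap k K).injective
    apply Pt.map_injective (eMap_injective hinj)
    rw [key, Pt.map_mul, Pt.map_mul, key, key, map_mul]
  let x₀ : InfAut k A k := ⟨d, hVF, hgrp⟩
  refine ⟨x₀, ?_⟩
  apply Subtype.ext
  apply LinearMap.ext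
  intro f
  have h2 := InfAut.map_val (Algebra.ofId k K) x₀ f
  exact h2.trans (hd f)

end fixed

lemma mem_range_of_frobenius {k K : Type u} [Field k] [Fintype k] [Field K] [Algebra k K] (c : K)
    (h : FiniteField.frobeniusAlgHom k K c = c) : c ∈ Set.range (algebraMap k K) := by
  classical
  rw [FiniteField.frobeniusAlgHom_apply] at h
  let p : Polynomial K := Polynomial.X ^ Fintype.card k - Polynomial.X
  have hp : p ≠ 0 := FiniteField.X_pow_card_sub_X_ne_zero K Fintype.one_lt_card
  have hdeg : p.natDegree = Fintype.card k :=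
    FiniteField.X_pow_card_sub_X_natDegree_eq K Fintype.one_lt_card
  let s : Finset K := Finset.univ.image (algebraMap k K)
  have hs : s.card = Fintype.card k := by
    rw [Finset.card_image_of_injective _ (algebraMap k K).injective]
    rfl
  have hsub : s ⊆ p.roots.toFinset := by
    intro z hz
    obtain ⟨a, -, rfl⟩ := Finset.mem_image.1 hz
    rw [Multiset.mem_toFinset, Polynomial.mem_roots hp, Polynomial.IsRoot.def]
    simp only [p, Polynomial.eval_sub, Polynomial.eval_pow, Polynomial.eval_X]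
    rw [← map_pow, FiniteField.pow_card, sub_self]
  have heq : s = p.roots.toFinset := by
    apply Finset.eq_of_subset_of_card_le hsub
    rw [hs, ← hdeg]
    exact (Multiset.toFinset_card_le _).trans (Polynomial.card_roots' p)
  have hc : c ∈ s := by
    rw [heq, Multiset.mem_toFinset, Polynomial.mem_roots hp, Polynomial.IsRoot.def]
    simp only [p, Polynomial.eval_sub, Polynomial.eval_pow, Polynomial.eval_X]
    rw [h, sub_self]
  obtain ⟨a, -, ha⟩ := Finset.mem_image.1 hc
  exact ⟨a, ha⟩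

variable {idx M : Type} [Fintype idx] [AddCommGroup M] [Module.Free ℤ M] [Module.Finite ℤ M]
variable {P : RootPairing idx ℤ M (Module.Dual ℤ M)} {b : P.Base}

/-- **Existence of regular elements over a finite field.** -/
theorem RCell.exists_isReg_of_finite {k K A : Type u} [Field k] [Finite k] [Field K] [IsAlgClosed K]
    [Algebra k K] [CommRing A] [Algebra k A] [PtGrp k A] [Algebra.FiniteType k A] [IsDomain (K ⊗[k] A)]
    [Algebra.FormallySmooth K (K ⊗[k] A)] [P.IsReduced] (D : RCell P b k A K)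
    (hdiag : ∀ c : P.rootSpan ℤ →+ K, ∃ x : InfAut k A K, D.IsDiag (AlgHom.id k K) c x)
    (huniq : ∀ (c : P.rootSpan ℤ →+ K) (x y : InfAut k A K), D.IsDiag (AlgHom.id k K) c x →
      D.IsDiag (AlgHom.id k K) c y → x = y)
    (hconj : ∀ σ : K →ₐ[k] K, ∃ g₀ : Pt k A K, ∀ {B : Type u} [CommRing B] [Algebra k B]
      (φ : K →ₐ[k] B) (t : TPt M B), ∃ t' : TPt M B,
        D.i (φ.comp σ) t = Pt.map φ g₀ * D.i φ t' * (Pt.map φ g₀)⁻¹) :
    ∃ x : InfAut k A k, D.IsReg (AlgHom.id k K) (InfAut.map (Algebra.ofId k K) x) := by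
  have := Fintype.ofFinite k
  let σ : K →ₐ[k] K := FiniteField.frobeniusAlgHom k K
  obtain ⟨g₀, hg₀⟩ := hconj σ
  obtain ⟨θ, hθ⟩ := D.exists_theta σ g₀ (fun φ t => hg₀ φ t)
  let θQ : P.rootSpan ℤ ≃ₗ[ℤ] P.rootSpan ℤ := LinearEquiv.ofBijective (thQ hθ) hθ.thQ_bijective
  obtain ⟨w, hw, y, hy, hy'⟩ := AdRoot.exists_y b θQ (fun i => by
    obtain ⟨a, -, h1, -⟩ := hθ.exists_root' i
    exact ⟨a, hθ.thQ_root i a h1⟩) k K
  obtain ⟨d, hd⟩ := hdiag y
  obtain ⟨n, hn⟩ := D.exists_weyl b (AlgHom.id k K) hw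
  have h1 := hθ.isDiag (hn y d hd)
  have h2 : ((σ : K →+ K).comp ((y.comp (act w).toAddMonoidHom).comp (thQ hθ).toAddMonoidHom)) = y := by
    ext v
    change σ (y (act w (thQ hθ v))) = y v
    have h3 := hy v
    rw [Nat.card_eq_fintype_card] at h3
    exact h3
  rw [h2] at h1
  have h3 := huniq y _ _ h1 hd
  rw [InfAut.map_Ad, ← InfAut.Ad_mul] at h3
  have h4 : InfAut.map σ d = InfAut.Ad (g₀⁻¹ * Pt.map σ n)⁻¹ d := by
    conv_rhs => rw [← h3]
    rw [InfAut.Ad_inv_Ad]
  obtain ⟨h, hh⟩ := lang_pt (g₀⁻¹ * Pt.map σ n)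
  have h5 : InfAut.map σ (InfAut.Ad h d) = InfAut.Ad h d := by
    rw [InfAut.map_Ad, h4, ← InfAut.Ad_mul]
    congr 1
    rw [hh, mul_inv_rev, inv_inv]
    exact mul_inv_cancel_left _ _
  obtain ⟨x, hx⟩ := InfAut.exists_descend σ mem_range_of_frobenius _ h5
  refine ⟨x, h, y, d, hd, ?_, hx⟩
  intro a
  exact isUnit_iff_ne_zero.2 (hy' a)

end Groth.Agent.Sga3B.MT
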