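import Groth.Agent.Sga3B.MT.Twist
import Groth.Agent.Sga3B.MT.DiagFin
import Groth.Agent.Sga3B.MT.FinDesc986
import Groth.Agent.Sga3B.MT.FinLang986
import Groth.Agent.Sga3B.MT.FinConj986
import Groth.Agent.Sga3B.MT.InfBc
import Groth.Agent.Sga3B.MT.SmoothInf
import Groth.Agent.Sga3B.PinComb829

/-!
# Rational regular elements over a finite field, relative form

For `R → k → K`, `k` finite, `K` algebraically closed, some `x ∈ Lie Aut G (k)` becomes regular over `K`
(assembly of helper907, `FinReg`, in relative form).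
-/

set_option autoImplicit false
set_option linter.unusedSectionVars false
universe u

open TensorProduct
open Groth.Agent.Sga3B.Cell

namespace Groth.Agent.Sga3B.MT.FinRel729

open Groth.Agent.Sga3B.MT.Cox Groth.Agent.Sga3B.MT.RCell

variable {idx M : Type} [Fintype idx] [AddCommGroup M] [Module.Free ℤ M] [Module.Finite ℤ M]
variable {P : RootPairing idx ℤ M (Module.Dual ℤ M)} {b : P.Base}
variable {R k K A : Type u} [CommRing R] [Field k] [Finite k] [Field K] [IsAlgClosed K]
  [Algebra R k] [Algebra R K] [CommRing A] [Algebra R A] [PtGrp R A]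

/-- **Rational regular elements over a finite field**, from the conjugacy of the torus and its Frobenius
twist. -/
theorem exists_isReg_of_conj [Algebra.Smooth R A] (hdom : GeomDom R A) (j : k →ₐ[R] K)
    (D : RCell P b R A K)
    (hconj : ∀ σ : K →ₐ[R] K, ∃ g₀ : Pt R A K, ∀ {B : Type u} [CommRing B] [Algebra R B]
      (φ : K →ₐ[R] B) (t : TPt M B), ∃ t' : TPt M B,
        D.i (φ.comp σ) t = Pt.map φ g₀ * D.i φ t' * (Pt.map φ g₀)⁻¹)
    (hspan : ∀ x : InfAut R A K, x ∈ Submodule.span K (Set.range (InfAut.map (A := A) j))) :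
    ∃ x : InfAut R A k, D.IsReg (AlgHom.id R K) (InfAut.map j x) := by
  have := Fintype.ofFinite k
  have hred : P.IsReduced := Groth.Agent.Sga3B.PinComb.isReduced b
  obtain ⟨σ, hσ⟩ := Lang986.exists_frob (R := R) j
  obtain ⟨g₀, hg₀⟩ := hconj σ
  obtain ⟨θ, hθ⟩ := D.exists_theta σ g₀ (fun φ t => hg₀ φ t)
  let θQ : P.rootSpan ℤ ≃ₗ[ℤ] P.rootSpan ℤ := LinearEquiv.ofBijective (thQ hθ) hθ.thQ_bijective
  let _ : Algebra k K := j.toRingHom.toAlgebra
  obtain ⟨w, hw, y, hy, hy'⟩ := AdRoot.exists_y b θQ (fun i => by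
    obtain ⟨a, -, h1, -⟩ := hθ.exists_root' i
    exact ⟨a, hθ.thQ_root i a h1⟩) k K
  obtain ⟨d, hd⟩ := D.exists_diag hdom (AlgHom.id R K) y
  obtain ⟨n, hn⟩ := D.exists_weyl b (AlgHom.id R K) hw
  have h1 := hθ.isDiag (hn y d hd)
  have h2 : ((σ : K →+ K).comp ((y.comp (act w).toAddMonoidHom).comp (thQ hθ).toAddMonoidHom)) = y := by
    ext v
    change σ (y (act w (thQ hθ v))) = y v
    have h3 := hy v
    rw [Nat.card_eq_fintype_card] at h3
    rw [hσ]
    exact h3
  rw [h2] at h1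
  have h3 : InfAut.Ad g₀⁻¹ (InfAut.map σ (InfAut.Ad n d)) = d := by
    apply D.ext_infAut hdom (AlgHom.id R K)
    · intro B' _ _ ψ t
      rw [h1.1, hd.1]
    · intro a B' _ _ ψ z
      rw [h1.2, hd.2]
  rw [InfAut.map_Ad, ← InfAut.Ad_mul] at h3
  have h4 : InfAut.map σ d = InfAut.Ad (g₀⁻¹ * Pt.map σ n)⁻¹ d := by
    conv_rhs => rw [← h3]
    rw [InfAut.Ad_inv_Ad]
  obtain ⟨h, hh⟩ := Lang986.exists_lang hdom j σ hσ (g₀⁻¹ * Pt.map σ n)
  have h5 : InfAut.map σ (InfAut.Ad h d) = InfAut.Ad h d := by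
    rw [InfAut.map_Ad, h4, ← InfAut.Ad_mul]
    congr 1
    rw [hh, mul_inv_rev, inv_inv]
    exact mul_inv_cancel_left _ _
  obtain ⟨x, hx⟩ := Fin986.exists_of_map_eq j σ hσ hspan _ h5
  refine ⟨x, h, y, d, hd, ?_, hx⟩
  intro a
  exact isUnit_iff_ne_zero.2 (hy' a)

/-- flatness of a homomorphism out of a field -/
theorem flat_of_field {k K : Type u} [Field k] [CommRing K] (j : k →+* K) : j.Flat := by
  let _ : Algebra k K := j.toAlgebra
  change Module.Flat k K
  infer_instance

/-- **Rational regular elements over a finite field.** -/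
theorem exists_isReg_of_finite [Algebra.Smooth R A] (hdom : GeomDom R A) (j : k →ₐ[R] K)
    (D : RCell P b R A K) (hz : Common729.ZeroLocus D) (hl : Common729.RegLift D) :
    ∃ x : InfAut R A k, D.IsReg (AlgHom.id R K) (InfAut.map j x) := by
  refine exists_isReg_of_conj hdom j D (fun σ => ?_)
    (fun x => InfAut.mem_span_of_flat j (flat_of_field j.toRingHom) x)
  have huniq : ∀ (E : RCell P b R A K) {B : Type u} [CommRing B] [Algebra R B] (φ : K →ₐ[R] B)
      (c : P.rootSpan ℤ →+ B) (y y' : InfAut R A B), E.IsDiag φ c y → E.IsDiag φ c y' → y = y' := by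
    intro E B _ _ φ c y y' h h'
    apply E.ext_infAut hdom φ
    · intro B' _ _ ψ t
      rw [h.1, h'.1]
    · intro a B' _ _ ψ z
      rw [h.2, h'.2]
  exact Conj986.exists_conj D (D.bc σ) (fun φ c => D.exists_diag hdom φ c) (huniq D)
    (fun φ c => (D.bc σ).exists_diag hdom φ c) (huniq (D.bc σ)) hz hl
    (fun φ ψ h1 h2 ξ g₀ c₀ y₀ h3 h4 h5 => hl (φ.comp σ) ψ h1 h2 ξ g₀ c₀ y₀ h3 h4 h5)

omit [Finite k] in
/-- **Rational regular elements over any field.** -/
theorem exists_isReg [Algebra.Smooth R A] (hdom : GeomDom R A) (j : k →ₐ[R] K)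
    (D : RCell P b R A K) (hz : Common729.ZeroLocus D) (hl : Common729.RegLift D) :
    ∃ x : InfAut R A k, D.IsReg (AlgHom.id R K) (InfAut.map j x) := by
  rcases finite_or_infinite k with hk | hk
  · exact exists_isReg_of_finite hdom j D hz hl
  · refine D.exists_isReg_rel j (fun φ c => D.exists_diag hdom φ c) ?_ hz hl
      (fun x => InfAut.mem_span_of_flat j (flat_of_field j.toRingHom) x)
    intro B _ _ φ c y y' h h'
    apply D.ext_infAut hdom φ
    · intro B' _ _ ψ t
      rw [h.1, h'.1]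
    · intro a B' _ _ ψ z
      rw [h.2, h'.2]

end Groth.Agent.Sga3B.MT.FinRel729
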