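import Groth.Agent.Sga3B.MT.Curve
import Mathlib.RingTheory.Bialgebra.GroupLike
import Mathlib.RingTheory.HopfAlgebra.GroupLike
import Mathlib.RingTheory.Bialgebra.MonoidAlgebra

/-!
# Twisting split cell data by an endomorphism of the base field

`D : RCell P b R A K`, `σ : K → K` an `R`-algebra map, `g₀ ∈ G(K)` conjugating the twisted torus into the
torus.
-/

set_option autoImplicit false
set_option linter.unusedSectionVars false
universe u

open TensorProduct TrivSqZeroExt Polynomial Coalgebra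

namespace Groth.Agent.Sga3B.MT

open Groth.Agent.Sga3B.Cell Groth.Agent.Sga3B.MT.Cox

namespace RCell

section torusPt

variable {R : Type u} [CommRing R] {K : Type u} [Field K] [Algebra R K] {M : Type} [AddCommGroup M]

/-- evaluation `K[M] → B` over `φ : K → B` at a torus point -/
noncomputable def me {B : Type u} [CommRing B] [Algebra R B] (φ : K →ₐ[R] B) (t : TPt M B) :
    MonoidAlgebra K (Multiplicative M) →ₐ[R] B :=
  MonoidAlgebra.liftNCAlgHom φ ((Units.coeHom B).comp t) (fun _ _ => Commute.all _ _)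

lemma me_single {B : Type u} [CommRing B] [Algebra R B] (φ : K →ₐ[R] B) (t : TPt M B)
    (m : Multiplicative M) (c : K) : me φ t (MonoidAlgebra.single m c) = φ c * (t m : B) := by
  change MonoidAlgebra.liftNC _ _ _ = _
  rw [MonoidAlgebra.liftNC_single]
  rfl

variable (M R K) in
/-- constants -/
noncomputable def kM : K →ₐ[R] MonoidAlgebra K (Multiplicative M) :=
  MonoidAlgebra.singleOneAlgHom (R := R) (A := K) (M := Multiplicative M)

variable (K M) in
/-- the universal torus point -/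
noncomputable def mU : TPt M (MonoidAlgebra K (Multiplicative M)) where
  toFun m :=
    { val := MonoidAlgebra.single m 1
      inv := MonoidAlgebra.single m⁻¹ 1
      val_inv := by
        rw [MonoidAlgebra.single_mul_single, mul_inv_cancel, one_mul]; rfl
      inv_val := by
        rw [MonoidAlgebra.single_mul_single, inv_mul_cancel, one_mul]; rfl }
  map_one' := by ext1; rfl
  map_mul' m n := by
    ext1
    change MonoidAlgebra.single (m * n) (1 : K) = MonoidAlgebra.single m 1 * MonoidAlgebra.single n 1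
    rw [MonoidAlgebra.single_mul_single, one_mul]

lemma me_comp_kM {B : Type u} [CommRing B] [Algebra R B] (φ : K →ₐ[R] B) (t : TPt M B) :
    (me φ t).comp (kM R K M) = φ := by
  ext c
  change me φ t (MonoidAlgebra.single 1 c) = φ c
  rw [me_single, map_one, Units.val_one, mul_one]

lemma map_me_mU {B : Type u} [CommRing B] [Algebra R B] (φ : K →ₐ[R] B) (t : TPt M B) :
    TPt.map (me φ t) (mU K M) = t := by
  apply TPt.ext_ch
  intro m
  rw [TPt.ch_map]
  change me φ t (MonoidAlgebra.single (Multiplicative.ofAdd m) 1) = _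
  rw [me_single, map_one, one_mul]
  rfl

lemma eq_me {B : Type u} [CommRing B] [Algebra R B] (f : MonoidAlgebra K (Multiplicative M) →ₐ[R] B)
    (φ : K →ₐ[R] B) (t : TPt M B) (h1 : ∀ c, f (MonoidAlgebra.single 1 c) = φ c)
    (h2 : ∀ m, f (MonoidAlgebra.single m 1) = (t m : B)) : me φ t = f := by
  refine AlgHom.ext fun x => ?_
  induction x using MonoidAlgebra.induction_linear with
  | zero => simp
  | add x y hx hy => rw [map_add, map_add, hx, hy]
  | single m c =>
    rw [me_single, ← h1, ← h2, ← map_mul, MonoidAlgebra.single_mul_single, one_mul, mul_one]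

lemma me_mul {B : Type u} [CommRing B] [Algebra R B] (φ : K →ₐ[R] B) (s t : TPt M B)
    (f : MonoidAlgebra K (Multiplicative M) →ₐ[R] B) (h1 : ∀ c, f (MonoidAlgebra.single 1 c) = φ c)
    (h2 : ∀ m, f (MonoidAlgebra.single m 1) = (s m : B) * (t m : B)) : me φ (s * t) = f :=
  eq_me f φ (s * t) h1 (fun m => by rw [h2]; rfl)

end torusPt

end RCell

variable {idx M : Type} [Fintype idx] [AddCommGroup M] [Module.Free ℤ M] [Module.Finite ℤ M]
variable {P : RootPairing idx ℤ M (Module.Dual ℤ M)} {b : P.Base}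
    {R A : Type u} [CommRing R] [CommRing A] [Algebra R A] [PtGrp R A]

namespace RCell

section theta

variable {K : Type u} [Field K] [Algebra R K] (D : RCell P b R A K)

/-- `D.i (φ ∘ σ) t = g₀ D.i φ (t ∘ θ) g₀⁻¹`. -/
def TwConj (σ : K →ₐ[R] K) (g₀ : Pt R A K) (θ : M →+ M) : Prop :=
  ∀ {B : Type u} [CommRing B] [Algebra R B] (φ : K →ₐ[R] B) (t : TPt M B),
    D.i (φ.comp σ) t = Pt.map φ g₀ * D.i φ (t.comp (AddMonoidHom.toMultiplicative θ)) * (Pt.map φ g₀)⁻¹

local notation "E" => MonoidAlgebra K (Multiplicative M)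

theorem exists_theta (σ : K →ₐ[R] K) (g₀ : Pt R A K)
    (h : ∀ {B : Type u} [CommRing B] [Algebra R B] (φ : K →ₐ[R] B) (t : TPt M B), ∃ t' : TPt M B,
      D.i (φ.comp σ) t = Pt.map φ g₀ * D.i φ t' * (Pt.map φ g₀)⁻¹) :
    ∃ θ : M →+ M, D.TwConj σ g₀ θ := by
  obtain ⟨u, hu⟩ := h (kM R K M) (mU K M)
  have hF : ∀ {B : Type u} [CommRing B] [Algebra R B] (φ : K →ₐ[R] B) (t : TPt M B),
      D.i (φ.comp σ) t = Pt.map φ g₀ * D.i φ (TPt.map (me φ t) u) * (Pt.map φ g₀)⁻¹ := by
    intro B _ _ φ t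
    have h1 := congrArg (Pt.map (me φ t)) hu
    rw [Pt.map_mul, Pt.map_mul, Pt.map_inv, D.i_nat, D.i_nat, Pt.map_map, ← AlgHom.comp_assoc, me_comp_kM,
      map_me_mU] at h1
    exact h1
  have hmul : ∀ {B : Type u} [CommRing B] [Algebra R B] (φ : K →ₐ[R] B) (s t : TPt M B),
      TPt.map (me φ (s * t)) u = TPt.map (me φ s) u * TPt.map (me φ t) u := by
    intro B _ _ φ s t
    apply D.i_inj φ
    have h1 := hF φ (s * t)
    rw [map_mul, hF φ s, hF φ t] at h1
    have h2 : ∀ g x y z : Pt R A B, g * x * g⁻¹ * (g * y * g⁻¹) = g * z * g⁻¹ → z = x * y := by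
      intro g x y z h
      have h3 : g⁻¹ * (g * x * g⁻¹ * (g * y * g⁻¹)) * g = g⁻¹ * (g * z * g⁻¹) * g := by rw [h]
      have h4 : g⁻¹ * (g * x * g⁻¹ * (g * y * g⁻¹)) * g = x * y := by group
      have h5 : g⁻¹ * (g * z * g⁻¹) * g = z := by group
      rw [h4, h5] at h3
      exact h3.symm
    rw [map_mul]
    exact h2 _ _ _ _ h1
  have hone : TPt.map (me (AlgHom.id R K) 1) u = 1 := by
    apply D.i_inj (AlgHom.id R K)
    have h1 := hF (AlgHom.id R K) 1
    rw [map_one] at h1
    rw [map_one]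
    have h2 : ∀ g x : Pt R A K, 1 = g * x * g⁻¹ → x = 1 := by
      intro g x h
      have h3 : g⁻¹ * 1 * g = g⁻¹ * (g * x * g⁻¹) * g := by rw [← h]
      have h4 : g⁻¹ * (g * x * g⁻¹) * g = x := by group
      rw [h4, mul_one, inv_mul_cancel] at h3
      exact h3.symm
    exact h2 _ _ h1
  have hgl : ∀ m : M, IsGroupLikeElem K (TPt.ch m u) := by
    intro m
    constructor
    · have e : me (AlgHom.id R K) (1 : TPt M K) = (Bialgebra.counitAlgHom K E).restrictScalars R := by
        apply eq_me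
        · intro c
          change counit (R := K) (MonoidAlgebra.single (1 : Multiplicative M) c) = c
          simp
        · intro g
          change counit (R := K) (MonoidAlgebra.single g (1 : K)) = 1
          simp
      have h1 := congrArg (TPt.ch m) hone
      rw [TPt.ch_map, TPt.ch_one, e] at h1
      exact h1
    · let φ : K →ₐ[R] E ⊗[K] E := (Algebra.ofId K (E ⊗[K] E)).restrictScalars R
      let iL : E →ₐ[R] E ⊗[K] E := (Algebra.TensorProduct.includeLeft (R := K) (S := K) (A := E) (B := E)).restrictScalars R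
      let iR : E →ₐ[R] E ⊗[K] E := (Algebra.TensorProduct.includeRight (R := K) (A := E) (B := E)).restrictScalars R
      let cm : E →ₐ[R] E ⊗[K] E := (Bialgebra.comulAlgHom K E).restrictScalars R
      have hφ : ∀ f : E →ₐ[K] E ⊗[K] E, ∀ c : K, f (MonoidAlgebra.single 1 c) = algebraMap K _ c :=
        fun f c => f.commutes c
      have e1 : me φ (TPt.map iL (mU K M)) = iL := by
        apply eq_me
        · exact hφ Algebra.TensorProduct.includeLeft
        · intro g; rfl
      have e2 : me φ (TPt.map iR (mU K M)) = iR := by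
        apply eq_me
        · exact hφ Algebra.TensorProduct.includeRight
        · intro g; rfl
      have e3 := me_mul φ (TPt.map iL (mU K M)) (TPt.map iR (mU K M)) cm (by
        exact hφ (Bialgebra.comulAlgHom K E)) (by
          intro g
          change comul (R := K) (MonoidAlgebra.single g (1 : K)) =
            (MonoidAlgebra.single g (1 : K) ⊗ₜ[K] (1 : E)) * ((1 : E) ⊗ₜ[K] MonoidAlgebra.single g (1 : K))
          rw [Algebra.TensorProduct.tmul_mul_tmul, one_mul, mul_one]
          simp)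
      have h1 := congrArg (TPt.ch m) (hmul φ (TPt.map iL (mU K M)) (TPt.map iR (mU K M)))
      rw [e1, e2, e3, TPt.ch_mul, TPt.ch_map, TPt.ch_map, TPt.ch_map] at h1
      change comul (R := K) (TPt.ch m u) = (TPt.ch m u ⊗ₜ[K] (1 : E)) * ((1 : E) ⊗ₜ[K] TPt.ch m u) at h1
      rw [Algebra.TensorProduct.tmul_mul_tmul, one_mul, mul_one] at h1
      exact h1
  have hex : ∀ m : M, ∃ g : M, MonoidAlgebra.single (Multiplicative.ofAdd g) (1 : K) = TPt.ch m u := by
    intro m
    obtain ⟨g, hg⟩ := MonoidAlgebra.isGroupLikeElem_iff_mem_range_single_one.1 (hgl m)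
    exact ⟨g.toAdd, hg⟩
  choose ψ hψ using hex
  have hinj : ∀ g h : M, MonoidAlgebra.single (Multiplicative.ofAdd g) (1 : K) =
      MonoidAlgebra.single (Multiplicative.ofAdd h) (1 : K) → g = h := by
    intro g h e
    by_contra hne
    have h5 := congrArg (fun z : MonoidAlgebra K (Multiplicative M) => z.coeff
      (Multiplicative.ofAdd g)) e
    simp only [MonoidAlgebra.coeff_single] at h5
    rw [Finsupp.single_eq_same, Finsupp.single_eq_of_ne] at h5
    · exact one_ne_zero h5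
    · intro h6
      exact hne (congrArg Multiplicative.toAdd h6)
  let Ψ : M →+ M := AddMonoidHom.mk' ψ (by
    intro a b
    apply hinj
    rw [hψ, TPt.ch_add, ← hψ, ← hψ, MonoidAlgebra.single_mul_single, one_mul, ofAdd_add])
  refine ⟨Ψ, ?_⟩
  intro B _ _ φ t
  rw [hF]
  congr 3
  apply TPt.ext_ch
  intro m
  rw [TPt.ch_map, ← hψ, me_single, map_one, one_mul]
  rfl

variable {D} {σ : K →ₐ[R] K} {g₀ : Pt R A K} {θ : M →+ M} (hθ : D.TwConj σ g₀ θ)
include hθ

lemma TwConj.comp_injective {B : Type u} [CommRing B] [Algebra R B] (φ : K →ₐ[R] B) {s t : TPt M B}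
    (h : s.comp (AddMonoidHom.toMultiplicative θ) = t.comp (AddMonoidHom.toMultiplicative θ)) : s = t := by
  apply D.i_inj (φ.comp σ)
  rw [hθ, hθ, h]

lemma TwConj.surjective : Function.Surjective θ := by
  have h1 : AddMonoidHom.range θ = ⊤ := by
    rw [eq_top_iff]
    intro m _
    let q : M →+ M ⧸ AddMonoidHom.range θ := QuotientAddGroup.mk' _
    let t : TPt M (MonoidAlgebra K (Multiplicative (M ⧸ AddMonoidHom.range θ))) :=
      (mU K (M ⧸ AddMonoidHom.range θ)).comp (AddMonoidHom.toMultiplicative q)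
    have h2 : t = 1 := by
      apply hθ.comp_injective (kM R K (M ⧸ AddMonoidHom.range θ))
      apply TPt.ext_ch
      intro m'
      change MonoidAlgebra.single (Multiplicative.ofAdd (q (θ m'))) (1 : K) = 1
      have h3 : q (θ m') = 0 := by
        rw [← AddMonoidHom.mem_ker, QuotientAddGroup.ker_mk']
        exact ⟨m', rfl⟩
      rw [h3]
      rfl
    have h3 : TPt.ch m t = 1 := by rw [h2]; exact TPt.ch_one m
    change MonoidAlgebra.single (Multiplicative.ofAdd (q m)) (1 : K) = 1 at h3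
    have h4 : q m = 0 := by
      by_contra hne
      have h5 := congrArg (fun z : MonoidAlgebra K (Multiplicative (M ⧸ AddMonoidHom.range θ)) =>
        z.coeff (Multiplicative.ofAdd (q m))) h3
      have h6 : (1 : MonoidAlgebra K (Multiplicative (M ⧸ AddMonoidHom.range θ))) =
        MonoidAlgebra.single 1 1 := rfl
      rw [h6] at h5
      simp only [MonoidAlgebra.coeff_single] at h5
      rw [Finsupp.single_eq_same, Finsupp.single_eq_of_ne] at h5
      · exact one_ne_zero h5
      · intro h7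
        exact hne (congrArg Multiplicative.toAdd h7)
    rw [← AddMonoidHom.mem_ker, QuotientAddGroup.ker_mk'] at h4
    exact h4
  rw [← AddMonoidHom.range_eq_top]
  exact h1

lemma TwConj.injective : Function.Injective θ :=
  OrzechProperty.injective_of_surjective_endomorphism (R := ℤ) θ.toIntLinearMap hθ.surjective

end theta

section closed

variable {K : Type u} [Field K] [Algebra R K] (D : RCell P b R A K)

/-- the twisted and conjugated root subgroup -/
def twCurve (σ : K →ₐ[R] K) (g₀ : Pt R A K) (a : idx) : Curve R A K where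
  V φ x := (Pt.map φ g₀)⁻¹ * D.uu a (φ.comp σ) x * Pt.map φ g₀
  nat φ ψ x := by
    rw [Pt.map_mul, Pt.map_mul, Pt.map_inv, D.uu_nat]
    rfl
  zero φ := by
    rw [D.uu_zero_w, mul_one, inv_mul_cancel]
  inj φ x y h := by
    apply D.uu_inj_w (φ.comp σ) a
    exact mul_left_cancel (mul_right_cancel h)

lemma twCurve_V (σ : K →ₐ[R] K) (g₀ : Pt R A K) (a : idx) {B : Type u} [CommRing B] [Algebra R B]
    (φ : K →ₐ[R] B) (x : B) :
    (D.twCurve σ g₀ a).V φ x = (Pt.map φ g₀)⁻¹ * D.uu a (φ.comp σ) x * Pt.map φ g₀ := rfl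

variable {D} {σ : K →ₐ[R] K} {g₀ : Pt R A K} {θ : M →+ M} (hθ : D.TwConj σ g₀ θ)
include hθ

lemma TwConj.exists_comp {B : Type u} [CommRing B] [Algebra R B] (t : TPt M B) :
    ∃ s : TPt M B, s.comp (AddMonoidHom.toMultiplicative θ) = t := by
  let e : M ≃+ M := AddEquiv.ofBijective θ ⟨hθ.injective, hθ.surjective⟩
  refine ⟨t.comp (AddMonoidHom.toMultiplicative e.symm.toAddMonoidHom), ?_⟩
  apply MonoidHom.ext
  intro m
  change t (Multiplicative.ofAdd (e.symm (e m.toAdd))) = t m
  rw [AddEquiv.symm_apply_apply]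
  rfl

lemma TwConj.i_eq {B : Type u} [CommRing B] [Algebra R B] (φ : K →ₐ[R] B) (s : TPt M B) :
    D.i φ (s.comp (AddMonoidHom.toMultiplicative θ)) =
      (Pt.map φ g₀)⁻¹ * D.i (φ.comp σ) s * Pt.map φ g₀ := by
  rw [hθ φ s]
  group

lemma TwConj.twCurve_eq {a : idx} {m : M} (hm : θ m = P.root a) : (D.twCurve σ g₀ a).Eq D m := by
  intro B _ _ φ t x
  obtain ⟨s, rfl⟩ := hθ.exists_comp t
  have h1 : TPt.ch m (s.comp (AddMonoidHom.toMultiplicative θ)) = TPt.ch (P.root a) s := by
    rw [← hm]; rfl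
  rw [h1, hθ.i_eq, twCurve_V, twCurve_V, ← D.rel]
  group

variable [IsAlgClosed K] [P.IsReduced]

lemma TwConj.exists_root (a : idx) : ∃ (a' : idx) (r : K), θ (P.root a') = P.root a ∧ r ≠ 0 ∧
    ∀ {B : Type u} [CommRing B] [Algebra R B] (φ : K →ₐ[R] B) (x : B),
      (Pt.map φ g₀)⁻¹ * D.uu a (φ.comp σ) x * Pt.map φ g₀ = D.uu a' φ (φ r * x) := by
  obtain ⟨m, hm⟩ := hθ.surjective (P.root a)
  have hm0 : m ≠ 0 := by
    rintro rfl
    rw [map_zero] at hm
    exact P.ne_zero a hm.symm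
  obtain ⟨a', r, h1, h2, h3⟩ := (D.twCurve σ g₀ a).exists_eq_uu hm0 (hθ.twCurve_eq hm)
  exact ⟨a', r, by rw [h1, hm], h2, h3⟩

lemma TwConj.exists_root' (a' : idx) : ∃ (a : idx) (r : K), θ (P.root a') = P.root a ∧ r ≠ 0 ∧
    ∀ {B : Type u} [CommRing B] [Algebra R B] (φ : K →ₐ[R] B) (x : B),
      (Pt.map φ g₀)⁻¹ * D.uu a (φ.comp σ) x * Pt.map φ g₀ = D.uu a' φ (φ r * x) := by
  classical
  choose f r h1 h2 h3 using fun a => hθ.exists_root a
  have hinj : Function.Injective f := by
    intro a c h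
    apply P.root.injective
    rw [← h1 a, ← h1 c, h]
  obtain ⟨a, rfl⟩ := (Finite.injective_iff_surjective.1 hinj) a'
  exact ⟨a, r a, h1 a, h2 a, fun φ x => h3 a φ x⟩

lemma TwConj.mem_rootSpan {v : M} (hv : v ∈ P.rootSpan ℤ) : θ v ∈ P.rootSpan ℤ := by
  refine Submodule.span_induction (p := fun v _ => θ v ∈ P.rootSpan ℤ) ?_ ?_ ?_ ?_ hv
  · rintro _ ⟨i, rfl⟩
    obtain ⟨a, -, h1, -⟩ := hθ.exists_root' i
    rw [h1]
    exact Submodule.subset_span ⟨a, rfl⟩
  · rw [map_zero]; exact zero_mem _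
  · intro x y _ _ hx hy
    rw [map_add]; exact add_mem hx hy
  · intro a x _ hx
    rw [map_zsmul]; exact Submodule.smul_mem _ _ hx

omit hθ in
/-- the restriction of `θ` to the root lattice -/
def thQ (hθ : D.TwConj σ g₀ θ) : P.rootSpan ℤ →ₗ[ℤ] P.rootSpan ℤ where
  toFun v := ⟨θ v, hθ.mem_rootSpan v.2⟩
  map_add' x y := Subtype.ext (map_add θ _ _)
  map_smul' a x := Subtype.ext (map_zsmul θ _ _)

lemma TwConj.thQ_root (a' a : idx) (h : θ (P.root a') = P.root a) :
    thQ hθ (P.rootSpanMem ℤ a') = P.rootSpanMem ℤ a := Subtype.ext h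

lemma TwConj.thQ_bijective : Function.Bijective (thQ hθ) := by
  constructor
  · intro x y h
    exact Subtype.ext (hθ.injective (congrArg Subtype.val h))
  · rw [← LinearMap.range_eq_top, eq_top_iff]
    rintro ⟨v, hv⟩ -
    refine Submodule.span_induction (p := fun v hv => (⟨v, hv⟩ : P.rootSpan ℤ) ∈ LinearMap.range (thQ hθ))
      ?_ ?_ ?_ ?_ hv
    · rintro _ ⟨i, rfl⟩
      obtain ⟨a, -, h1, -⟩ := hθ.exists_root i
      exact ⟨P.rootSpanMem ℤ a, Subtype.ext h1⟩
    · exact zero_mem _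
    · intro x y hx hy hx' hy'
      exact add_mem hx' hy'
    · intro a x hx hx'
      exact Submodule.smul_mem _ a hx'

/-- Diagonal infinitesimal automorphisms under twisting. -/
lemma TwConj.isDiag {c : P.rootSpan ℤ →+ K} {y : InfAut R A K} (h : D.IsDiag (AlgHom.id R K) c y) :
    D.IsDiag (AlgHom.id R K) ((σ : K →+ K).comp (c.comp (thQ hθ).toAddMonoidHom))
      (InfAut.Ad g₀⁻¹ (InfAut.map σ y)) := by
  have hid : ∀ {B : Type u} [CommRing B] [Algebra R B] (ψ : K →ₐ[R] B), ψ.comp (AlgHom.id R K) = ψ :=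
    fun ψ => rfl
  have hinv : ∀ {B : Type u} [CommRing B] [Algebra R B] (ψ : K →ₐ[R] B),
      InfAut.inlPt ψ g₀⁻¹ = (Pt.map ((eInl R B).comp ψ) g₀)⁻¹ := by
    intro B _ _ ψ
    rw [InfAut.inlPt, Pt.map_inv]
  constructor
  · intro B' _ _ ψ t
    obtain ⟨s, rfl⟩ := hθ.exists_comp t
    rw [InfAut.app_Ad, InfAut.app_map, hinv, hid, Pt.map_inv, inv_inv, hθ.i_eq]
    have h1 : Pt.map ψ g₀ * ((Pt.map ψ g₀)⁻¹ * D.i (ψ.comp σ) s * Pt.map ψ g₀) * (Pt.map ψ g₀)⁻¹ =
        D.i (ψ.comp σ) s := by group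
    have h2 := h.1 (ψ.comp σ) s
    rw [hid] at h2
    rw [h1, h2, inv_inv, Pt.map_mul, Pt.map_mul, Pt.map_inv]
    rfl
  · intro a' B' _ _ ψ z
    obtain ⟨a, r, h1, h2, h3⟩ := hθ.exists_root' a'
    have h4 : D.uu a' ψ z = (Pt.map ψ g₀)⁻¹ * D.uu a (ψ.comp σ) (ψ r⁻¹ * z) * Pt.map ψ g₀ := by
      rw [h3, ← mul_assoc, ← map_mul, mul_inv_cancel₀ h2, map_one, one_mul]
    have h5 : Pt.map ψ g₀ * D.uu a' ψ z * (Pt.map ψ g₀)⁻¹ = D.uu a (ψ.comp σ) (ψ r⁻¹ * z) := by
      rw [h4]; group
    have h6 := h.2 a (ψ.comp σ) (ψ r⁻¹ * z)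
    rw [hid] at h6
    rw [InfAut.app_Ad, InfAut.app_map, hinv, hid, Pt.map_inv, inv_inv, h5, h6, inv_inv]
    have h7 : (eInl R B').comp (ψ.comp σ) = ((eInl R B').comp ψ).comp σ := rfl
    rw [h7, h3]
    congr 1
    have h8 : ((σ : K →+ K).comp (c.comp (thQ hθ).toAddMonoidHom)) (P.rootSpanMem ℤ a') =
        σ (c (P.rootSpanMem ℤ a)) := by
      rw [← hθ.thQ_root a' a h1]; rfl
    rw [h8]
    have h9 : ((eInl R B').comp ψ) r = inl (ψ r) := rfl
    have h10 : ∀ w : B', ψ r * (ψ r⁻¹ * w) = w := fun w => by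
      rw [← mul_assoc, ← map_mul, mul_inv_cancel₀ h2, map_one, one_mul]
    rw [h9, mul_add]
    ext
    · simp only [TrivSqZeroExt.fst_add, TrivSqZeroExt.fst_mul, TrivSqZeroExt.fst_inl, TrivSqZeroExt.fst_inr,
        mul_zero, add_zero]
      exact h10 z
    · simp only [TrivSqZeroExt.snd_add, TrivSqZeroExt.snd_mul, TrivSqZeroExt.snd_inl, TrivSqZeroExt.snd_inr,
        TrivSqZeroExt.fst_inl, TrivSqZeroExt.fst_inr, smul_zero, smul_eq_mul,
        zero_add, add_zero, mul_zero]
      rw [mul_left_comm, h10 z]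
      rfl

end closed

end RCell

end Groth.Agent.Sga3B.MT
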