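import Groth.Agent.Sga3B.MT.FinAsm729
import Groth.Agent.Sga3B.MT.FinConj986
import Groth.Agent.Sga3B.MT.Twist

/-!
# Rational regular elements over a finite field: final form
-/

set_option autoImplicit false
set_option linter.unusedSectionVars false
universe u

open TensorProduct TrivSqZeroExt
open Groth.Agent.Sga3B.Cell

namespace Groth.Agent.Sga3B.MT.FinRel986

open Groth.Agent.Sga3B.MT.Common729 Groth.Agent.Sga3B.MT.FinAsm729

variable {idx M : Type} [Fintype idx] [AddCommGroup M] [Module.Free ℤ M] [Module.Finite ℤ M]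
variable {P : RootPairing idx ℤ M (Module.Dual ℤ M)} {b : P.Base}
variable {R K A : Type u} [CommRing R] [Field K] [IsAlgClosed K] [Algebra R K] [CommRing A]
  [Algebra R A] [PtGrp R A]

/-- Diagonal infinitesimal automorphisms under comparison. -/
lemma isDiag_of_twConj [P.IsReduced] {D : RCell P b R A K} {σ : K →ₐ[R] K} {g₀ : Pt R A K}
    {θ : M →+ M} (hθ : D.TwConj σ g₀ θ) {c : P.rootSpan ℤ →+ K} {y : InfAut R A K}
    (h : (D.bc σ).IsDiag (AlgHom.id R K) c y) :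
    D.IsDiag (AlgHom.id R K) (c.comp (RCell.thQ hθ).toAddMonoidHom) (InfAut.Ad g₀⁻¹ y) := by
  have hid : ∀ {B : Type u} [CommRing B] [Algebra R B] (ψ : K →ₐ[R] B), ψ.comp (AlgHom.id R K) = ψ :=
    fun ψ => rfl
  have hinv : ∀ {B : Type u} [CommRing B] [Algebra R B] (ψ : K →ₐ[R] B),
      InfAut.inlPt ψ g₀⁻¹ = (Pt.map ((eInl R B).comp ψ) g₀)⁻¹ := by
    intro B _ _ ψ
    rw [InfAut.inlPt, Pt.map_inv]
  constructor
  · intro B' _ _ ψ t
    obtain ⟨s, rfl⟩ := hθ.exists_comp t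
    rw [InfAut.app_Ad, hinv, hid, Pt.map_inv, inv_inv, hθ.i_eq]
    have h1 : Pt.map ψ g₀ * ((Pt.map ψ g₀)⁻¹ * D.i (ψ.comp σ) s * Pt.map ψ g₀) * (Pt.map ψ g₀)⁻¹ =
        D.i (ψ.comp σ) s := by group
    have h2 : y.app ψ (D.i (ψ.comp σ) s) = Pt.map (eInl R B') (D.i (ψ.comp σ) s) := h.1 ψ s
    rw [h1, h2, inv_inv, Pt.map_mul, Pt.map_mul, Pt.map_inv]
    rfl
  · intro a' B' _ _ ψ z
    obtain ⟨a, r, h1, h2, h3⟩ := hθ.exists_root' a'
    have h4 : D.uu a' ψ z = (Pt.map ψ g₀)⁻¹ * D.uu a (ψ.comp σ) (ψ r⁻¹ * z) * Pt.map ψ g₀ := by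
      rw [h3, ← mul_assoc, ← map_mul, mul_inv_cancel₀ h2, map_one, one_mul]
    have h5 : Pt.map ψ g₀ * D.uu a' ψ z * (Pt.map ψ g₀)⁻¹ = D.uu a (ψ.comp σ) (ψ r⁻¹ * z) := by
      rw [h4]; group
    have h6 : y.app ψ (D.uu a (ψ.comp σ) (ψ r⁻¹ * z)) =
        D.uu a ((eInl R B').comp (ψ.comp σ)) (inl (ψ r⁻¹ * z) +
          inr (ψ (c (P.rootSpanMem ℤ a)) * (ψ r⁻¹ * z))) := h.2 a ψ (ψ r⁻¹ * z)
    rw [InfAut.app_Ad, hinv, hid, Pt.map_inv, inv_inv, h5, h6, inv_inv]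
    have h7 : (eInl R B').comp (ψ.comp σ) = ((eInl R B').comp ψ).comp σ := rfl
    rw [h7, h3]
    congr 1
    have h8 : (c.comp (RCell.thQ hθ).toAddMonoidHom) (P.rootSpanMem ℤ a') =
        c (P.rootSpanMem ℤ a) := by
      rw [← hθ.thQ_root a' a h1]; rfl
    rw [h8]
    have h9 : ((eInl R B').comp ψ) r = inl (ψ r) := rfl
    have h10 : ∀ w : B', ψ r * (ψ r⁻¹ * w) = w := fun w => by
      rw [← mul_assoc, ← map_mul, mul_inv_cancel₀ h2, map_one, one_mul]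
    rw [h9, mul_add]
    ext
    · simp only [TrivSqZeroExt.fst_add, TrivSqZeroExt.fst_mul, TrivSqZeroExt.fst_inl, TrivSqZeroExt.fst_inr,
        mul_zero, add_zero]
      exact h10 z
    · simp only [TrivSqZeroExt.snd_add, TrivSqZeroExt.snd_mul, TrivSqZeroExt.snd_inl, TrivSqZeroExt.snd_inr,
        TrivSqZeroExt.fst_inl, TrivSqZeroExt.fst_inr, smul_zero, smul_eq_mul,
        zero_add, add_zero, mul_zero]
      rw [mul_left_comm, h10 z]

/-- The comparison of a split cell datum with its twists. -/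
theorem compare_bc [Algebra.Smooth R A] (hdom : GeomDom R A) (D : RCell P b R A K)
    (hz : ZeroLocus D) (hl : RegLift D) (σ : K →ₐ[R] K) : Compare D (D.bc σ) := by
  have hred : P.IsReduced := Groth.Agent.Sga3B.PinComb.isReduced b
  have hl' : RegLift (D.bc σ) := by
    intro B C _ _ _ _ φ ψ h1 h2 ξ g₀ c₀ y₀ h3 h4 h5
    exact hl (φ.comp σ) ψ h1 h2 ξ g₀ c₀ y₀ h3 h4 h5
  obtain ⟨g₀, hg₀⟩ := Conj986.exists_conj D (D.bc σ) (fun φ c => D.exists_diag hdom φ c)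
    (fun φ c y y' h h' => isDiag_unique D hdom h h') (fun φ c => (D.bc σ).exists_diag hdom φ c)
    (fun φ c y y' h h' => isDiag_unique (D.bc σ) hdom h h') hz hl hl'
  obtain ⟨θ, hθ⟩ := D.exists_theta σ g₀ (fun φ t => hg₀ φ t)
  refine ⟨g₀⁻¹, LinearEquiv.ofBijective (RCell.thQ hθ) hθ.thQ_bijective, fun i => ?_,
    fun c x hx => isDiag_of_twConj hθ hx⟩
  obtain ⟨a, -, h1, -⟩ := hθ.exists_root' i
  exact ⟨a, hθ.thQ_root i a h1⟩

/-- **Rational regular elements over a finite field.** -/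
theorem exists_isReg_of_finite {k : Type u} [Field k] [Finite k] [Algebra R k]
    [Algebra.Smooth R A] (hdom : GeomDom R A) (j : k →ₐ[R] K) (D : RCell P b R A K)
    (hz : ZeroLocus D) (hl : RegLift D)
    (hspan : ∀ x : InfAut R A K, x ∈ Submodule.span K (Set.range (InfAut.map (A := A) j))) :
    ∃ x : InfAut R A k, D.IsReg (AlgHom.id R K) (InfAut.map j x) :=
  FinAsm729.exists_isReg_of_finite hdom j D (fun σ => compare_bc hdom D hz hl σ) hspan

end Groth.Agent.Sga3B.MT.FinRel986
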