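import Groth.Agent.Sga3B.MT.Defs2
import Mathlib.Algebra.MonoidAlgebra.NoZeroDivisors
import Mathlib.RingTheory.Localization.FractionRing
import Mathlib.LinearAlgebra.FreeModule.Basic

/-!
# Points fixing a regular diagonal infinitesimal automorphism lie in the torus

* `RCell.eq_i_of_fixes`: a point of the big cell fixing `d_c` (`c_a` units) lies in the torus, over any
  ring.
* `RCell.mem_torus_of_fixes'`: the same for a point over `B[N]` (`N` free abelian) whose specialisation
  at the unit section is `1`; it need not be assumed to lie in the big cell.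
-/

set_option autoImplicit false
set_option linter.unusedSectionVars false
universe u

open TensorProduct TrivSqZeroExt
open Groth.Agent.Sga3B.Cell

namespace Groth.Agent.Sga3B.MT

section eps

variable {R B C : Type u} [CommRing R] [CommRing B] [Algebra R B] [CommRing C] [Algebra R C]

/-- an ideal of `B[ε]` which is the unit ideal modulo `ε` is the unit ideal -/
lemma fix_eq_top_of_map_eFst {I : Ideal (Eps B)} (h : I.map (eFst R B).toRingHom = ⊤) : I = ⊤ := by
  have h1 : (1 : B) ∈ I.map (eFst R B).toRingHom := by rw [h]; trivial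
  rw [Ideal.mem_map_iff_of_surjective _ (fun b => ⟨inl b, rfl⟩)] at h1
  obtain ⟨z, hz, hz1⟩ := h1
  refine Ideal.eq_top_of_isUnit_mem I hz ?_
  rw [TrivSqZeroExt.isUnit_iff_isUnit_fst]
  change IsUnit ((eFst R B).toRingHom z)
  rw [hz1]
  exact isUnit_one

lemma fix_eq_zero_of_single_mul {M : Type} [AddCommGroup M] {m : M} (hm : m ≠ 0) {z : B}
    (h : MonoidAlgebra.single (Multiplicative.ofAdd m) (1 : B) *
      algebraMap B (MonoidAlgebra B (Multiplicative M)) z = algebraMap B _ z) : z = 0 := by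
  rw [MonoidAlgebra.coe_algebraMap] at h
  simp only [Function.comp_apply, Algebra.algebraMap_self, RingHom.id_apply,
    MonoidAlgebra.single_mul_single, mul_one, one_mul] at h
  have h1 := congrArg (fun w : MonoidAlgebra B (Multiplicative M) => w.coeff (Multiplicative.ofAdd m)) h
  simp only [MonoidAlgebra.coeff_single] at h1
  rwa [Finsupp.single_eq_same, Finsupp.single_eq_of_ne
    (fun h0 => hm (Multiplicative.ofAdd.injective (h0.trans ofAdd_zero.symm)))] at h1

end eps

variable {idx M : Type} [Fintype idx] [AddCommGroup M] [Module.Free ℤ M] [Module.Finite ℤ M]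
variable {P : RootPairing idx ℤ M (Module.Dual ℤ M)} {b : P.Base}
    {R A B₀ : Type u} [CommRing R] [CommRing A] [Algebra R A] [CommRing B₀] [Algebra R B₀]
    [PtGrp R A]

lemma fix_tpt_eq_one_of_eq_mul {N : Type} [AddCommGroup N] {S : Type u} [CommRing S] {s t : TPt N S}
    (h : t = s * t) : s = 1 := by
  have h1 : (1 : TPt N S) * t = s * t := (one_mul t).trans h
  exact (mul_right_cancel h1).symm

namespace RCell

variable (D : RCell P b R A B₀) {B C : Type u} [CommRing B] [Algebra R B] [CommRing C] [Algebra R C]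

lemma fix_i_mul_prod (φ : B₀ →ₐ[R] B) (L : List idx) (x : idx → B) (t : TPt M B) :
    D.i φ t * (L.map (fun a => D.uu a φ (x a))).prod =
      (L.map (fun a => D.uu a φ (TPt.ch (P.root a) t * x a))).prod * D.i φ t := by
  induction L with
  | nil => simp
  | cons a L ih =>
    simp only [List.map_cons, List.prod_cons]
    rw [← mul_assoc, mul_assoc (D.uu a φ _), ← ih, ← mul_assoc, ← D.rel]
    group

lemma fix_i_mul (φ : B₀ →ₐ[R] B) (s t : TPt M B) : D.i φ (s * t) = D.i φ s * D.i φ t := map_mul _ _ _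

lemma fix_i_inv (φ : B₀ →ₐ[R] B) (t : TPt M B) : D.i φ t⁻¹ = (D.i φ t)⁻¹ := map_inv (D.i φ) t

lemma fix_uu_zero (a : idx) (φ : B₀ →ₐ[R] B) : D.uu a φ 0 = 1 := by
  have h := D.uu_add a φ 0 0
  rw [add_zero] at h
  exact mul_eq_left.mp h.symm

lemma fix_prod_uu_zero (φ : B₀ →ₐ[R] B) (L : List idx) :
    (L.map (fun a => D.uu a φ (0 : B))).prod = 1 := by
  apply List.prod_eq_one
  intro y hy
  obtain ⟨a, _, rfl⟩ := List.mem_map.mp hy
  exact D.fix_uu_zero a φ

lemma fix_cell_nat (φ : B₀ →ₐ[R] B) (ψ : B →ₐ[R] C) (L : List idx) (x : idx → B) (t : TPt M B) :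
    Pt.map ψ ((L.map (fun a => D.uu a φ (x a))).prod * D.i φ t) =
      (L.map (fun a => D.uu a (ψ.comp φ) (ψ (x a)))).prod * D.i (ψ.comp φ) (TPt.map ψ t) := by
  rw [Pt.map_mul, Pt.map_list_prod, D.i_nat, List.map_map]
  congr 2
  apply List.map_congr_left
  intro a _
  simp [D.uu_nat]

lemma fix_isCell_one (φ : B₀ →ₐ[R] B) : D.IsCell φ (1 : Pt R A B) :=
  ⟨fun _ => 0, 1, by rw [D.fix_prod_uu_zero, map_one, mul_one]⟩

lemma fix_isCell_i (φ : B₀ →ₐ[R] B) (t : TPt M B) : D.IsCell φ (D.i φ t) :=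
  ⟨fun _ => 0, t, by rw [D.fix_prod_uu_zero, one_mul]⟩

lemma IsCell.fix_map {D : RCell P b R A B₀} {φ : B₀ →ₐ[R] B} {g : Pt R A B} (h : D.IsCell φ g)
    (ψ : B →ₐ[R] C) : D.IsCell (ψ.comp φ) (Pt.map ψ g) := by
  obtain ⟨x, t, rfl⟩ := h
  exact ⟨_, _, D.fix_cell_nat φ ψ _ x t⟩

/-- the cell ideal of a point and base change -/
lemma fix_map_cellIdeal (φ : B₀ →ₐ[R] B) (g : Pt R A B) (ψ : B →ₐ[R] C) :
    D.cellIdeal.map (evp (ψ.comp φ) (Pt.map ψ g)).toRingHom =
      (D.cellIdeal.map (evp φ g).toRingHom).map ψ.toRingHom := by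
  rw [Ideal.map_map]
  congr 1
  rw [← comp_evp]
  rfl

/-- base change of diagonal infinitesimal automorphisms -/
lemma IsDiag.fix_map {D : RCell P b R A B₀} {φ₀ : B₀ →ₐ[R] B} {c : P.rootSpan ℤ →+ B}
    {x : InfAut R A B} (h : D.IsDiag φ₀ c x) (ψ : B →ₐ[R] C) :
    D.IsDiag (ψ.comp φ₀) ((ψ.toRingHom.toAddMonoidHom).comp c) (InfAut.map ψ x) := by
  refine ⟨fun {B'} _ _ χ t => ?_, fun a {B'} _ _ χ z => ?_⟩
  · rw [InfAut.app_map]
    exact h.1 (χ.comp ψ) t
  · rw [InfAut.app_map]
    exact h.2 a (χ.comp ψ) z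

/-- **A point of the big cell fixing a regular `d_c` lies in the torus**, over any ring. -/
theorem eq_i_of_fixes (φ₀ : B₀ →ₐ[R] B) {c : P.rootSpan ℤ →+ B} {x : InfAut R A B}
    (hx : D.IsDiag φ₀ c x) (hreg : ∀ a, IsUnit (c (P.rootSpanMem ℤ a))) {g : Pt R A B}
    (hg : D.IsCell φ₀ g) (hfix : InfAut.Ad g x = x) : ∃ t : TPt M B, g = D.i φ₀ t := by
  obtain ⟨y, t, hgy⟩ := hg
  -- the infinitesimal difference
  set z : Pt R A (Eps B) := x.app (AlgHom.id R B) g * (Pt.map (eInl R B) g)⁻¹ with hzdef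
  have hz1 : Pt.map (eFst R B) z = 1 := by
    rw [hzdef, Pt.map_mul, Pt.map_inv, InfAut.map_eFst_app, Pt.map_map, eFst_comp_eInl, Pt.map_id,
      mul_inv_cancel]
  -- `z` is in the cell
  obtain ⟨w, tz, hz⟩ : D.IsCell ((eInl R B).comp φ₀) z := by
    rw [D.isCell_iff]
    apply fix_eq_top_of_map_eFst (R := R)
    have h1 := D.fix_map_cellIdeal ((eInl R B).comp φ₀) z (eFst R B)
    rw [← h1, hz1]
    exact (D.isCell_iff _ _).mp (D.fix_isCell_one _)
  -- `z` commutes with the torus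
  have hroot0 : ∀ a, P.root a ≠ 0 := fun a => P.ne_zero a
  have hw : ∀ a, w a = 0 := by
    let B' : Type u := MonoidAlgebra B (Multiplicative M)
    let ψ : B →ₐ[R] B' := IsScalarTower.toAlgHom R B B'
    let s : TPt M B' := MonoidHom.toHomUnits (MonoidAlgebra.of B (Multiplicative M))
    have hs : ∀ m, TPt.ch m s = MonoidAlgebra.single (Multiplicative.ofAdd m) (1 : B) := fun m => rfl
    have h1 := congrArg (fun v : InfAut R A B => v.app ψ (D.i (ψ.comp φ₀) s)) hfix
    rw [InfAut.app_Ad, hx.1, map_mul, map_mul, map_inv, hx.1] at h1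
    have h2 : Pt.map (eMap ψ) z = x.app ψ (Pt.map ψ g) * (InfAut.inlPt ψ g)⁻¹ := by
      rw [hzdef, Pt.map_mul, Pt.map_inv, InfAut.app_nat, Pt.map_map, eMap_comp_eInl]
      rfl
    have h3 : Pt.map (eInl R B') (D.i (ψ.comp φ₀) s) * Pt.map (eMap ψ) z =
        Pt.map (eMap ψ) z * Pt.map (eInl R B') (D.i (ψ.comp φ₀) s) := by
      rw [h2]
      set Z := x.app ψ (Pt.map ψ g)
      set G := InfAut.inlPt ψ g
      set T := Pt.map (eInl R B') (D.i (ψ.comp φ₀) s)
      calc T * (Z * G⁻¹) = (Z * G⁻¹) * (G * (Z⁻¹ * T * Z) * G⁻¹) := by group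
        _ = _ := by rw [h1]
    rw [hz, D.fix_cell_nat, D.i_nat] at h3
    have e : (eMap ψ).comp ((eInl R B).comp φ₀) = (eInl R B').comp (ψ.comp φ₀) := by
      rw [← AlgHom.comp_assoc, eMap_comp_eInl]; rfl
    rw [e, ← mul_assoc, D.fix_i_mul_prod, mul_assoc, mul_assoc, ← D.fix_i_mul, ← D.fix_i_mul] at h3
    have h5 := (D.cell_inj _ _ _ _ _ h3).1
    intro a
    have h6 := congrFun h5 a
    have h7 : TPt.ch (P.root a) (TPt.map (eInl R B') s) =
        inl (MonoidAlgebra.single (Multiplicative.ofAdd (P.root a)) (1 : B)) := rfl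
    simp only [h7] at h6
    have h8 : MonoidAlgebra.single (Multiplicative.ofAdd (P.root a)) (1 : B) * ψ (w a).fst =
        ψ (w a).fst := by simpa using congrArg fst h6
    have h9 : MonoidAlgebra.single (Multiplicative.ofAdd (P.root a)) (1 : B) * ψ (w a).snd =
        ψ (w a).snd := by simpa using congrArg snd h6
    exact TrivSqZeroExt.ext (fix_eq_zero_of_single_mul (hroot0 a) h8)
      (fix_eq_zero_of_single_mul (hroot0 a) h9)
  have hz' : z = D.i ((eInl R B).comp φ₀) tz := by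
    rw [hz]
    have : (fun a => D.uu a ((eInl R B).comp φ₀) (w a)) =
        fun a => D.uu a ((eInl R B).comp φ₀) 0 := by
      funext a; rw [hw a]
    rw [this, D.fix_prod_uu_zero, one_mul]
  -- compare the coordinates of `x.app g = z g`
  have h1 : x.app (AlgHom.id R B) g = D.i ((eInl R B).comp φ₀) tz * Pt.map (eInl R B) g := by
    rw [← hz', hzdef]; group
  have h2 : x.app (AlgHom.id R B) g =
      ((allList b).map (fun a => D.uu a ((eInl R B).comp φ₀)
        (inl (y a) + inr (c (P.rootSpanMem ℤ a) * y a)))).prod *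
        D.i ((eInl R B).comp φ₀) (TPt.map (eInl R B) t) := by
    rw [hgy, map_mul, map_list_prod, List.map_map]
    congr 1
    · congr 1
      apply List.map_congr_left
      intro a _
      exact hx.2 a (AlgHom.id R B) (y a)
    · rw [← D.i_nat]
      exact hx.1 (AlgHom.id R B) t
  rw [h2, hgy, D.fix_cell_nat, ← mul_assoc, D.fix_i_mul_prod, mul_assoc, ← D.fix_i_mul] at h1
  obtain ⟨h3, h4⟩ := D.cell_inj _ _ _ _ _ h1
  have h5 : tz = 1 := fix_tpt_eq_one_of_eq_mul h4
  have hy : ∀ a, y a = 0 := by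
    intro a
    have h6 := congrFun h3 a
    simp only [h5, TPt.ch_one, one_mul, eInl_apply] at h6
    have h7 := congrArg snd h6
    simp only [snd_add, snd_inl, snd_inr, zero_add] at h7
    exact (hreg a).mul_right_eq_zero.mp h7
  refine ⟨t, ?_⟩
  rw [hgy]
  have : (fun a => D.uu a φ₀ (y a)) = fun a => D.uu a φ₀ 0 := by
    funext a; rw [hy a]
  rw [this, D.fix_prod_uu_zero, one_mul]

/-- the group algebra of a free abelian group over a field is a domain -/
lemma fix_isDomain_groupAlgebra (K : Type u) [Field K] (N : Type) [AddCommGroup N] [Module.Free ℤ N] :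
    IsDomain (MonoidAlgebra K (Multiplicative N)) := by
  have h : UniqueSums N :=
    (AddEquiv.uniqueSums_iff (Module.Free.chooseBasis ℤ N).repr.toAddEquiv).mpr inferInstance
  infer_instance

/-- a point over a domain `E ⊇ K` which specialises to `1` at a point of `E` is generically in the
cell. -/
lemma fix_isCell_generic {K E F : Type u} [Field K] [CommRing E] [Field F] [Algebra R K] [Algebra R E]
    [Algebra R F] (φ : B₀ →ₐ[R] E) (q : E →ₐ[R] K) (j : E →ₐ[R] F) (hj : Function.Injective j)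
    {g : Pt R A E} (hg : Pt.map q g = 1) : D.IsCell (j.comp φ) (Pt.map j g) := by
  rw [D.isCell_iff, D.fix_map_cellIdeal φ g j]
  have h1 : D.cellIdeal.map (evp φ g).toRingHom ≠ ⊥ := by
    intro h0
    have h2 := D.fix_map_cellIdeal φ g q
    rw [h0, Ideal.map_bot, hg, (D.isCell_iff _ _).mp (D.fix_isCell_one _)] at h2
    exact top_ne_bot h2
  rcases Ideal.eq_bot_or_top ((D.cellIdeal.map (evp φ g).toRingHom).map j.toRingHom) with h3 | h3
  · exact absurd ((Ideal.map_eq_bot_iff_of_injective hj).mp h3) h1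
  · exact h3

/-- **A family of points over `D(N)` (`N` free abelian) fixing a regular `d_c`, equal to `1` at the
unit section, lies in the torus.** -/
theorem mem_torus_of_fixes' {φ : B₀ →ₐ[R] B} {c : P.rootSpan ℤ →+ B}
    {x : InfAut R A B} (hx : D.IsDiag φ c x) (hreg : ∀ a, IsUnit (c (P.rootSpanMem ℤ a)))
    {N : Type} [AddCommGroup N] [Module.Free ℤ N]
    (ι : B →ₐ[R] MonoidAlgebra B (Multiplicative N)) (hι : ∀ z, ι z = algebraMap _ _ z)
    (π : MonoidAlgebra B (Multiplicative N) →ₐ[R] B) (hπ : ∀ n z, π (MonoidAlgebra.single n z) = z)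
    (τ : Pt R A (MonoidAlgebra B (Multiplicative N))) (h1 : Pt.map π τ = 1)
    (hτ : InfAut.Ad τ (InfAut.map ι x) = InfAut.map ι x) :
    ∃ t : TPt M (MonoidAlgebra B (Multiplicative N)), τ = D.i (ι.comp φ) t := by
  -- it suffices to be in the cell
  refine D.eq_i_of_fixes (ι.comp φ) (hx.fix_map ι) (fun a => (hreg a).map ι.toRingHom) ?_ hτ
  rw [D.isCell_iff]
  by_contra hne
  obtain ⟨m, hm, hle⟩ := Ideal.exists_le_maximal _ hne
  let BN : Type u := MonoidAlgebra B (Multiplicative N)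
  let K : Type u := BN ⧸ m
  let _ : Field K := Ideal.Quotient.field m
  let s : BN →ₐ[R] K := Ideal.Quotient.mkₐ R m
  let β : B →ₐ[R] K := s.comp ι
  let KN : Type u := MonoidAlgebra K (Multiplicative N)
  have hKN : IsDomain KN := fix_isDomain_groupAlgebra K N
  -- base change of group algebras and the factorisation of `s`
  let βN : BN →ₐ[R] KN := MonoidAlgebra.mapAlgHom (Multiplicative N) β
  have hβN : ∀ n z, βN (MonoidAlgebra.single n z) = MonoidAlgebra.single n (β z) :=
    fun n z => MonoidAlgebra.mapAlgHom_single _ _ _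
  let ŝ : KN →ₐ[R] K := AlgHom.restrictScalars R (MonoidAlgebra.lift K K (Multiplicative N)
    ((s : BN →* K).comp (MonoidAlgebra.of B (Multiplicative N))))
  let πK : KN →ₐ[R] K := AlgHom.restrictScalars R (MonoidAlgebra.lift K K (Multiplicative N) 1)
  let ιK : K →ₐ[R] KN := IsScalarTower.toAlgHom R K KN
  have hs1 : ∀ n z, ŝ (MonoidAlgebra.single n z) = z * s (MonoidAlgebra.single n 1) :=
    fun n z => (MonoidAlgebra.lift_single _ _ _).trans (smul_eq_mul _ _)
  have hπ1 : ∀ n z, πK (MonoidAlgebra.single n z) = z :=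
    fun n z => (MonoidAlgebra.lift_single _ _ _).trans ((smul_eq_mul _ _).trans (mul_one z))
  have hι1 : ∀ z, ιK z = MonoidAlgebra.single 1 z := fun z => rfl
  have hι2 : ∀ z, ι z = MonoidAlgebra.single 1 z := fun z => hι z
  have hext : ∀ {E : Type u} [CommRing E] [Algebra R E] (f g : BN →ₐ[R] E),
      (∀ n z, f (MonoidAlgebra.single n z) = g (MonoidAlgebra.single n z)) → f = g := by
    intro E _ _ f g h
    apply AlgHom.ext
    intro z
    induction z using MonoidAlgebra.induction_linear with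
    | zero => rw [map_zero, map_zero]
    | add x y hx hy => rw [map_add, map_add, hx, hy]
    | single n z => exact h n z
  have e1 : ŝ.comp βN = s := by
    refine hext _ _ fun n z => ?_
    rw [AlgHom.comp_apply, hβN, hs1]
    change s (ι z) * _ = _
    rw [← map_mul, hι2, MonoidAlgebra.single_mul_single, one_mul, mul_one]
  have e2 : πK.comp βN = β.comp π := by
    refine hext _ _ fun n z => ?_
    rw [AlgHom.comp_apply, hβN, hπ1]
    exact (congrArg β (hπ n z)).symm
  have e3 : βN.comp ι = ιK.comp β := by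
    apply AlgHom.ext
    intro z
    rw [AlgHom.comp_apply, AlgHom.comp_apply, hι2, hβN, hι1]
  have e4 : ŝ.comp ιK = AlgHom.id R K := by
    apply AlgHom.ext
    intro z
    rw [AlgHom.comp_apply, hι1, hs1, ← MonoidAlgebra.one_def, map_one, mul_one]
    rfl
  let τK : Pt R A KN := Pt.map βN τ
  let g₀ : Pt R A K := Pt.map s τ
  have hτK1 : Pt.map πK τK = 1 := by
    rw [Pt.map_map, e2, ← Pt.map_map, h1, Pt.map_one]
  have hτK2 : Pt.map ŝ τK = g₀ := by
    rw [Pt.map_map, e1]
  let xK : InfAut R A K := InfAut.map β x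
  have hf1 : InfAut.Ad τK (InfAut.map ιK xK) = InfAut.map ιK xK := by
    have h2 := congrArg (InfAut.map βN) hτ
    rwa [InfAut.map_Ad, InfAut.map_map, e3, ← InfAut.map_map] at h2
  have hf2 : InfAut.Ad g₀ xK = xK := by
    have h2 := congrArg (InfAut.map ŝ) hf1
    rwa [InfAut.map_Ad, InfAut.map_map, e4, InfAut.map_id, hτK2] at h2
  have hf3 : InfAut.Ad (Pt.map ιK g₀) (InfAut.map ιK xK) = InfAut.map ιK xK := by
    rw [← InfAut.map_Ad, hf2]
  let τ' : Pt R A KN := (Pt.map ιK g₀)⁻¹ * τK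
  have hτ' : Pt.map ŝ τ' = 1 := by
    rw [Pt.map_mul, Pt.map_inv, Pt.map_map, e4, Pt.map_id, hτK2, inv_mul_cancel]
  have hf4 : InfAut.Ad τ' (InfAut.map ιK xK) = InfAut.map ιK xK := by
    rw [InfAut.Ad_mul, hf1]
    nth_rw 1 [← hf3]
    rw [InfAut.Ad_inv_Ad]
  let F : Type u := FractionRing KN
  let j : KN →ₐ[R] F := IsScalarTower.toAlgHom R KN F
  have hj : Function.Injective j := IsFractionRing.injective KN F
  let φN : B₀ →ₐ[R] KN := ιK.comp (β.comp φ)
  have hdiag := ((hx.fix_map β).fix_map ιK).fix_map j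
  have hreg' : ∀ a, IsUnit ((j.toRingHom.toAddMonoidHom.comp (ιK.toRingHom.toAddMonoidHom.comp
      (β.toRingHom.toAddMonoidHom.comp c))) (P.rootSpanMem ℤ a)) :=
    fun a => (((hreg a).map β.toRingHom).map ιK.toRingHom).map j.toRingHom
  obtain ⟨t₁, ht₁⟩ := D.eq_i_of_fixes (j.comp φN) hdiag hreg'
    (D.fix_isCell_generic φN πK j hj hτK1) (by rw [← InfAut.map_Ad]; exact congrArg _ hf1)
  obtain ⟨t₂, ht₂⟩ := D.eq_i_of_fixes (j.comp φN) hdiag hreg'
    (D.fix_isCell_generic φN ŝ j hj hτ') (by rw [← InfAut.map_Ad]; exact congrArg _ hf4)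
  have h5 : Pt.map (j.comp ιK) g₀ = D.i (j.comp φN) (t₁ * t₂⁻¹) := by
    rw [D.fix_i_mul, D.fix_i_inv, ← ht₁, ← ht₂, ← Pt.map_inv, ← Pt.map_mul, ← Pt.map_map]
    congr 1
    change _ = τK * ((Pt.map ιK g₀)⁻¹ * τK)⁻¹
    group
  have h6 : D.cellIdeal.map (evp ((j.comp ιK).comp (β.comp φ)) (Pt.map (j.comp ιK) g₀)).toRingHom =
      ⊤ := by
    rw [← D.isCell_iff, h5]
    exact D.fix_isCell_i _ _
  rw [D.fix_map_cellIdeal (β.comp φ) g₀ (j.comp ιK)] at h6
  have h7 : D.cellIdeal.map (evp (β.comp φ) g₀).toRingHom = ⊥ := by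
    have h8 := D.fix_map_cellIdeal (ι.comp φ) τ s
    refine h8.trans (le_bot_iff.mp ((Ideal.map_mono hle).trans ?_))
    rw [Ideal.map_le_iff_le_comap]
    intro z hz
    exact Ideal.Quotient.eq_zero_iff_mem.mpr hz
  rw [h7, Ideal.map_bot] at h6
  exact bot_ne_top h6

/-- the form with the standing hypotheses of the project -/
theorem mem_torus_of_fixes [Algebra.Smooth R A] (_hdom : GeomDom R A)
    (φ : B₀ →ₐ[R] B) (c : P.rootSpan ℤ →+ B)
    (x : InfAut R A B) (hx : D.IsDiag φ c x) (hreg : ∀ a, IsUnit (c (P.rootSpanMem ℤ a)))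
    {N : Type} [AddCommGroup N] [Module.Free ℤ N]
    (ι : B →ₐ[R] MonoidAlgebra B (Multiplicative N)) (hι : ∀ z, ι z = algebraMap _ _ z)
    (π : MonoidAlgebra B (Multiplicative N) →ₐ[R] B) (hπ : ∀ n z, π (MonoidAlgebra.single n z) = z)
    (τ : Pt R A (MonoidAlgebra B (Multiplicative N))) (h1 : Pt.map π τ = 1)
    (hτ : InfAut.Ad τ (InfAut.map ι x) = InfAut.map ι x) :
    ∃ t : TPt M (MonoidAlgebra B (Multiplicative N)), τ = D.i (ι.comp φ) t :=
  D.mem_torus_of_fixes' hx hreg ι hι π hπ τ h1 hτ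

end RCell

end Groth.Agent.Sga3B.MT
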