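import Groth.Agent.Sga3B.MT.FromPin

/-!
# Base change of the coordinate ring from a natural identification of points (Yoneda)
-/

set_option autoImplicit false
universe u

open TensorProduct
open Groth.Agent.Sga3B.Cell

namespace Groth.Agent.Sga3B.MT

variable {R B₀ A A₀ : Type u} [CommRing R] [CommRing B₀] [Algebra R B₀] [CommRing A] [Algebra R A]
  [CommRing A₀] [Algebra B₀ A₀] [PtGrp R A] [PtGrp B₀ A₀]

/-- A natural identification of the `B₀`-points of `Spec A₀` with the `R`-points of `Spec A`. -/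
structure NatPt (R B₀ A A₀ : Type u) [CommRing R] [CommRing B₀] [Algebra R B₀] [CommRing A]
    [Algebra R A] [CommRing A₀] [Algebra B₀ A₀] [PtGrp R A] [PtGrp B₀ A₀] where
  /-- the identification of points -/
  ρ : ∀ {B : Type u} [CommRing B] [Algebra R B] (φ : B₀ →ₐ[R] B), Pt B₀ A₀ (Via φ) ≃* Pt R A B
  nat : ∀ {B C : Type u} [CommRing B] [Algebra R B] [CommRing C] [Algebra R C] (φ : B₀ →ₐ[R] B)
    (ψ : B →ₐ[R] C) (g : Pt B₀ A₀ (Via φ)),
    Pt.map ψ (ρ φ g) = ρ (ψ.comp φ) (Pt.map (viaMap φ ψ) g)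

namespace NatPt

variable (N : NatPt R B₀ A A₀)
include N

/-- Yoneda: the identification of points comes from an isomorphism of coordinate rings. -/
theorem exists_equiv : ∃ (e : B₀ ⊗[R] A ≃ₐ[B₀] A₀), ∀ {B : Type u} [CommRing B] [Algebra R B]
    (φ : B₀ →ₐ[R] B) (g : Pt B₀ A₀ (Via φ)), res e φ g = N.ρ φ g := by
  let _ : Algebra R A₀ := Algebra.compHom A₀ (algebraMap R B₀)
  have : IsScalarTower R B₀ A₀ := IsScalarTower.of_algebraMap_eq fun _ => rfl
  -- the universal point of `A₀`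
  let φ₁ : B₀ →ₐ[R] A₀ := IsScalarTower.toAlgHom R B₀ A₀
  let toV₁ : A₀ →ₐ[B₀] Via φ₁ := { toVia φ₁ with commutes' := fun _ => rfl }
  let u₁ : Pt R A A₀ := N.ρ φ₁ (Pt.mk toV₁)
  let E₁ : B₀ ⊗[R] A →ₐ[B₀] A₀ := Algebra.TensorProduct.lift (Algebra.ofId B₀ A₀) u₁.hom
    (fun _ _ => Commute.all _ _)
  -- the universal point of `B₀ ⊗ A`
  let φ₂ : B₀ →ₐ[R] B₀ ⊗[R] A := Algebra.TensorProduct.includeLeft
  let g₂ : Pt B₀ A₀ (Via φ₂) := (N.ρ φ₂).symm (Pt.mk Algebra.TensorProduct.includeRight)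
  let frV₂ : Via φ₂ →ₐ[B₀] B₀ ⊗[R] A := { viaTo φ₂ with commutes' := fun _ => rfl }
  let E₂ : A₀ →ₐ[B₀] B₀ ⊗[R] A := frV₂.comp g₂.hom
  -- general formula
  have key : ∀ {B : Type u} [CommRing B] [Algebra R B] (φ : B₀ →ₐ[R] B) (g : Pt B₀ A₀ (Via φ))
      (f : A), (N.ρ φ g).hom f = viaTo φ (g.hom (u₁.hom f)) := by
    intro B _ _ φ g f
    -- `g` is the image of the universal point
    let ψ : A₀ →ₐ[R] B := (viaTo φ).comp (g.hom.restrictScalars R)
    have hφ : ψ.comp φ₁ = φ := by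
      apply AlgHom.ext
      intro x
      exact g.hom.commutes x
    have h1 := N.nat φ₁ ψ (Pt.mk toV₁)
    have h2 : ∀ (φ' : B₀ →ₐ[R] B) (h : φ' = φ) (g' : Pt B₀ A₀ (Via φ')),
        (∀ z, viaTo φ' (g'.hom z) = viaTo φ (g.hom z)) → N.ρ φ' g' = N.ρ φ g := by
      intro φ' h g' hg
      subst h
      congr 1
      apply Pt.ext
      intro z
      exact hg z
    rw [← h2 (ψ.comp φ₁) hφ (Pt.map (viaMap φ₁ ψ) (Pt.mk toV₁)) (fun z => rfl), ← h1]
    rfl
  have h21 : ∀ z : A₀, E₁ (E₂ z) = z := by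
    -- the point `E₁ ∘ E₂` of `A₀` has image `u₁`
    have h1 : N.ρ φ₁ (Pt.mk (toV₁.comp (E₁.comp E₂))) = u₁ := by
      apply Pt.ext
      intro f
      rw [key]
      have h2 := key φ₂ g₂ f
      rw [show N.ρ φ₂ g₂ = Pt.mk Algebra.TensorProduct.includeRight from
        (N.ρ φ₂).apply_symm_apply _] at h2
      change E₁ (viaTo φ₂ (g₂.hom (u₁.hom f))) = _
      rw [← h2]
      change E₁ (1 ⊗ₜ f) = _
      rw [Algebra.TensorProduct.lift_tmul, map_one, one_mul]
    have h2 := (N.ρ φ₁).injective h1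
    intro z
    exact congrArg (fun k : Pt B₀ A₀ (Via φ₁) => k.hom z) h2
  have h12 : E₂.comp E₁ = AlgHom.id B₀ _ := by
    apply Algebra.TensorProduct.ext
    · ext
    · apply AlgHom.ext
      intro f
      have h2 := key φ₂ g₂ f
      rw [show N.ρ φ₂ g₂ = Pt.mk Algebra.TensorProduct.includeRight from
        (N.ρ φ₂).apply_symm_apply _] at h2
      change viaTo φ₂ (g₂.hom (E₁ (1 ⊗ₜ f))) = 1 ⊗ₜ f
      rw [Algebra.TensorProduct.lift_tmul, map_one, one_mul]
      exact h2.symm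
  refine ⟨AlgEquiv.ofAlgHom E₁ E₂ (AlgHom.ext h21) h12, ?_⟩
  intro B _ _ φ g
  apply Pt.ext
  intro f
  rw [key, res_apply]
  change viaTo φ (g.hom (E₁ (1 ⊗ₜ f))) = _
  rw [Algebra.TensorProduct.lift_tmul, map_one, one_mul]

end NatPt

section

variable {idx M : Type} [Fintype idx] [AddCommGroup M] [Module.Free ℤ M] [Module.Finite ℤ M]
  {P : RootPairing idx ℤ M (Module.Dual ℤ M)} {b : P.Base}

/-- Relative split cell data from a natural identification of points. -/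
theorem RCell.exists_of_natPt (N : NatPt R B₀ A A₀) (E : PinCell P b B₀ A₀) :
    ∃ F : RCell P b R A B₀,
      (∀ {B : Type u} [CommRing B] [Algebra R B] (φ : B₀ →ₐ[R] B) (t : TPt M B),
        F.i φ t = N.ρ φ (E.i (Via φ) t)) ∧
      ∀ {B : Type u} [CommRing B] [Algebra R B] (φ : B₀ →ₐ[R] B) (a : idx) (x : B),
        F.uu a φ x = N.ρ φ (E.uu a (Via φ) x) := by
  obtain ⟨e, he⟩ := N.exists_equiv
  have hm : ResMul (A := A) e := by
    intro B _ _ φ g h
    rw [he, he, he, map_mul]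
  refine ⟨RCell.ofPinCell hm E, ?_, ?_⟩
  · intro B _ _ φ t
    exact he φ _
  · intro B _ _ φ a x
    exact he φ _

end

end Groth.Agent.Sga3B.MT
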