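import Groth.Agent.Sga3B.MT.Defs2

/-!
# Relative split cell data from pinned cell data over the étale extension

`RCell.ofPinCell`: if `A₀ = B₀ ⊗ A` (compatibly with the group structures on points) and `E` is a
`PinCell` for `A₀` over `B₀`, then `A` has relative split cell data over `B₀`.
-/

set_option autoImplicit false
universe u

open TensorProduct
open Groth.Agent.Sga3B.Cell

namespace Groth.Agent.Sga3B.MT

section Via

variable {R B₀ B C : Type u} [CommRing R] [CommRing B₀] [Algebra R B₀] [CommRing B] [Algebra R B]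
  [CommRing C] [Algebra R C]

/-- The ring `B` regarded as an algebra over `B₀` through `φ : B₀ → B`. -/
def Via (_ : B₀ →ₐ[R] B) : Type u := B

variable (φ : B₀ →ₐ[R] B)

instance : CommRing (Via φ) := inferInstanceAs (CommRing B)
instance : Algebra R (Via φ) := inferInstanceAs (Algebra R B)
instance : Algebra B₀ (Via φ) := φ.toRingHom.toAlgebra
instance : IsScalarTower R B₀ (Via φ) := IsScalarTower.of_algebraMap_eq fun r =>
  (φ.commutes r).symm

/-- the identity `Via φ → B` -/
def viaTo : Via φ →ₐ[R] B := AlgHom.id R B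

/-- the identity `B → Via φ` -/
def toVia : B →ₐ[R] Via φ := AlgHom.id R B

/-- functoriality -/
def viaMap (ψ : B →ₐ[R] C) : Via φ →ₐ[B₀] Via (ψ.comp φ) where
  toRingHom := ψ.toRingHom
  commutes' _ := rfl

lemma algebraMap_via (x : B₀) : algebraMap B₀ (Via φ) x = toVia φ (φ x) := rfl

end Via

section res

variable {R B₀ A A₀ : Type u} [CommRing R] [CommRing B₀] [Algebra R B₀] [CommRing A] [Algebra R A]
  [CommRing A₀] [Algebra B₀ A₀] (e : B₀ ⊗[R] A ≃ₐ[B₀] A₀)
variable {B C : Type u} [CommRing B] [Algebra R B] [CommRing C] [Algebra R C]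

/-- restriction of points along `A → A₀` -/
def res (φ : B₀ →ₐ[R] B) (g : Pt B₀ A₀ (Via φ)) : Pt R A B :=
  Pt.mk ((viaTo φ).comp ((g.hom.comp e.toAlgHom).restrictScalars R |>.comp
    Algebra.TensorProduct.includeRight))

lemma res_apply (φ : B₀ →ₐ[R] B) (g : Pt B₀ A₀ (Via φ)) (f : A) :
    (res e φ g).hom f = viaTo φ (g.hom (e (1 ⊗ₜ f))) := rfl

/-- extension of points -/
def ext0 (φ : B₀ →ₐ[R] B) (g : Pt R A B) : Pt B₀ A₀ (Via φ) :=
  Pt.mk ((Algebra.TensorProduct.lift (Algebra.ofId B₀ (Via φ)) ((toVia φ).comp g.hom)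
    (fun _ _ => Commute.all _ _)).comp e.symm.toAlgHom)

lemma res_ext0 (φ : B₀ →ₐ[R] B) (g : Pt R A B) : res e φ (ext0 e φ g) = g := by
  apply Pt.ext
  intro f
  rw [res_apply]
  change (viaTo φ) ((Algebra.TensorProduct.lift (Algebra.ofId B₀ (Via φ)) ((toVia φ).comp g.hom)
    (fun _ _ => Commute.all _ _)) (e.symm (e (1 ⊗ₜ f)))) = _
  rw [AlgEquiv.symm_apply_apply, Algebra.TensorProduct.lift_tmul, map_one, one_mul]
  rfl

lemma ext0_res (φ : B₀ →ₐ[R] B) (g : Pt B₀ A₀ (Via φ)) : ext0 e φ (res e φ g) = g := by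
  have h : (ext0 e φ (res e φ g)).hom.comp e.toAlgHom = g.hom.comp e.toAlgHom := by
    apply Algebra.TensorProduct.ext
    · ext
    · apply AlgHom.ext
      intro f
      change (Algebra.TensorProduct.lift (Algebra.ofId B₀ (Via φ))
        ((toVia φ).comp (res e φ g).hom) (fun _ _ => Commute.all _ _))
          (e.symm (e (1 ⊗ₜ f))) = g.hom (e (1 ⊗ₜ f))
      rw [AlgEquiv.symm_apply_apply, Algebra.TensorProduct.lift_tmul, map_one, one_mul]
      rfl
  apply Pt.ext
  intro f
  obtain ⟨z, rfl⟩ := e.surjective f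
  exact congrArg (fun k : B₀ ⊗[R] A →ₐ[B₀] Via φ => k z) h

lemma res_injective (φ : B₀ →ₐ[R] B) : Function.Injective (res (A := A) e φ) := by
  intro g h hgh
  rw [← ext0_res e φ g, hgh, ext0_res]

lemma res_nat (φ : B₀ →ₐ[R] B) (ψ : B →ₐ[R] C) (g : Pt B₀ A₀ (Via φ)) :
    Pt.map ψ (res e φ g) = res e (ψ.comp φ) (Pt.map (viaMap φ ψ) g) := rfl

lemma evp_res (φ : B₀ →ₐ[R] B) (g : Pt B₀ A₀ (Via φ)) (z : B₀ ⊗[R] A) :
    evp φ (res e φ g) z = viaTo φ (g.hom (e z)) := by
  induction z using TensorProduct.induction_on with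
  | zero => simp
  | add x y hx hy => rw [map_add, hx, hy, map_add, map_add, map_add]
  | tmul x y =>
    rw [evp_tmul, res_apply]
    have h1 : (x ⊗ₜ[R] y : B₀ ⊗[R] A) = x • (1 ⊗ₜ[R] y) := by
      rw [TensorProduct.smul_tmul', smul_eq_mul, mul_one]
    rw [h1, map_smul, map_smul, Algebra.smul_def, map_mul]
    rfl

variable [PtGrp R A] [PtGrp B₀ A₀]

/-- the identification of points is compatible with the group structures -/
def ResMul : Prop := ∀ {B : Type u} [CommRing B] [Algebra R B] (φ : B₀ →ₐ[R] B)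
  (g h : Pt B₀ A₀ (Via φ)), res e φ (g * h) = res e φ g * res e φ h

variable {e}

/-- the group isomorphism on points -/
def resEquiv (he : ResMul (A := A) e) (φ : B₀ →ₐ[R] B) : Pt B₀ A₀ (Via φ) ≃* Pt R A B where
  toFun := res e φ
  invFun := ext0 e φ
  left_inv := ext0_res e φ
  right_inv := res_ext0 e φ
  map_mul' := he φ

@[simp] lemma resEquiv_apply (he : ResMul (A := A) e) (φ : B₀ →ₐ[R] B) (g : Pt B₀ A₀ (Via φ)) :
    resEquiv he φ g = res e φ g := rfl

lemma resEquiv_nat (he : ResMul (A := A) e) (φ : B₀ →ₐ[R] B) (ψ : B →ₐ[R] C)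
    (g : Pt B₀ A₀ (Via φ)) :
    Pt.map ψ (resEquiv he φ g) = resEquiv he (ψ.comp φ) (Pt.map (viaMap φ ψ) g) := rfl

end res

section cell

variable {R B₀ A A₀ : Type u} [CommRing R] [CommRing B₀] [Algebra R B₀] [CommRing A] [Algebra R A]
  [CommRing A₀] [Algebra B₀ A₀] {e : B₀ ⊗[R] A ≃ₐ[B₀] A₀} [PtGrp R A] [PtGrp B₀ A₀]

variable {idx M : Type} [Fintype idx] [AddCommGroup M] [Module.Free ℤ M] [Module.Finite ℤ M]
  {P : RootPairing idx ℤ M (Module.Dual ℤ M)} {b : P.Base}

/-- Relative split cell data from pinned cell data over the extension. -/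
def RCell.ofPinCell (he : ResMul (A := A) e) (E : PinCell P b B₀ A₀) : RCell P b R A B₀ where
  pairing_eq := E.pairing_eq
  i {B} _ _ φ := (resEquiv he φ).toMonoidHom.comp (E.i (Via φ))
  i_nat {B C} _ _ _ _ φ ψ t := by
    exact congrArg (res e (ψ.comp φ)) (E.i_nat (viaMap φ ψ) t)
  i_inj {B} _ _ φ := (resEquiv he φ).injective.comp (E.i_inj (Via φ))
  uu a {B} _ _ φ x := resEquiv he φ (E.uu a (Via φ) x)
  uu_add a {B} _ _ φ x y := by
    rw [← map_mul]
    exact congrArg (res e φ) (E.uu_add a (B := Via φ) x y)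
  uu_nat a {B C} _ _ _ _ φ ψ x := by
    exact congrArg (res e (ψ.comp φ)) (E.uu_nat a (viaMap φ ψ) x)
  rel a {B} _ _ φ t x := by
    have h := congrArg (resEquiv he φ) (E.rel a (B := Via φ) (show TPt M (Via φ) from t)
      (show Via φ from x))
    simp only [_root_.map_mul, _root_.map_inv] at h
    exact h
  rank1 a ha {B} _ _ φ x y v hv := by
    have h := congrArg (resEquiv he φ) (E.rank1 a ha (B := Via φ) (show Via φ from x)
      (show Via φ from y) (show (Via φ)ˣ from v) hv)
    simp only [_root_.map_mul] at h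
    exact h
  conj a ha c := by
    obtain ⟨r, hr⟩ := E.conj a ha c
    refine ⟨r, ?_⟩
    intro B _ _ φ x
    have h := congrArg (resEquiv he φ) (hr (B := Via φ) (show Via φ from x))
    simp only [_root_.map_mul, _root_.map_inv] at h
    exact h
  cell_inj {B} _ _ φ x x' t t' h := by
    refine E.cell_inj (B := Via φ) (show idx → Via φ from x) (show idx → Via φ from x')
      (show TPt M (Via φ) from t) (show TPt M (Via φ) from t') ((resEquiv he φ).injective ?_)
    rw [map_mul, map_mul, map_list_prod, map_list_prod, List.map_map, List.map_map]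
    exact h
  cellIdeal := E.cellIdeal.comap e.toRingEquiv.toRingHom
  cellIdeal_fg := by
    have h : E.cellIdeal.comap e.toRingEquiv.toRingHom =
        E.cellIdeal.map e.symm.toRingEquiv.toRingHom := by
      exact (Ideal.map_comap_of_equiv (e.symm.toRingEquiv)).symm
    rw [h]
    exact E.cellIdeal_fg.map _
  mem_cell_iff {B} _ _ φ g := by
    have h1 := E.mem_cell_iff (B := Via φ) (ext0 e φ g)
    have h2 : (∃ (x : idx → B) (t : TPt M B),
        g = ((allList b).map (fun a => resEquiv he φ (E.uu a (Via φ) (x a)))).prod *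
          ((resEquiv he φ).toMonoidHom.comp (E.i (Via φ))) t) ↔
        (∃ (x : idx → Via φ) (t : TPt M (Via φ)),
        ext0 e φ g = ((allList b).map (fun a => E.uu a (Via φ) (x a))).prod * E.i (Via φ) t) := by
      constructor
      · rintro ⟨x, t, h⟩
        refine ⟨x, t, (resEquiv he φ).injective ?_⟩
        rw [map_mul, map_list_prod, List.map_map]
        exact (res_ext0 e φ g).trans h
      · rintro ⟨x, t, h⟩
        refine ⟨x, t, ?_⟩
        have h3 := congrArg (resEquiv he φ) h
        rw [map_mul, map_list_prod, List.map_map] at h3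
        exact (res_ext0 e φ g).symm.trans h3
    refine h2.trans (h1.trans ?_)
    have h3 : (evp φ g).toRingHom.comp e.symm.toRingEquiv.toRingHom =
        (viaTo φ).toRingHom.comp (ext0 e φ g).hom.toRingHom := by
      apply RingHom.ext
      intro z
      have h4 := evp_res e φ (ext0 e φ g) (e.symm z)
      rw [res_ext0, AlgEquiv.apply_symm_apply] at h4
      exact h4
    have h5 : (E.cellIdeal.comap e.toRingEquiv.toRingHom).map (evp φ g).toRingHom =
        E.cellIdeal.map (ext0 e φ g).hom.toRingHom := by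
      have h6 : E.cellIdeal.comap e.toRingEquiv.toRingHom =
          E.cellIdeal.map e.symm.toRingEquiv.toRingHom :=
        (Ideal.map_comap_of_equiv (e.symm.toRingEquiv)).symm
      rw [h6, Ideal.map_map, h3]
      rfl
    rw [h5]
    exact Iff.rfl

end cell

end Groth.Agent.Sga3B.MT
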