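import Groth.Agent.Sga3B.BcPts
import Groth.Agent.Sga3B.Parab.AffPts998
import Groth.Agent.Sga3C.FlatGeneric
import Groth.Agent.Sga3C.SchemImage

/-!
# Points of a base change of an `S`-scheme lying in a subscheme

`f : S' ⟶ S`, `G` over `S`, `t : T ⟶ bc f G`.  For `X` over `S`, `a : X ⟶ S'` and `g : X ⟶ G` over `S`,
`MemAt t a g` means that the point `(a, g)` of `bc f G` factors through `t`.
-/

set_option autoImplicit false

universe u

open CategoryTheory MonoidalCategory CartesianMonoidalCategory MonObj GrpObj AlgebraicGeometry Limits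

namespace Groth.Agent.Sga3B.MT

open Groth.Agent.Sga3B Groth.Agent.Sga3B.BcPts Groth.Agent.Sga3B.Parab

variable {S S' : Scheme.{u}} {f : S' ⟶ S} {G : Over S} {T : Over S'}

/-- the point `(a, g)` of the base change -/
noncomputable def bcPt {X : Over S} (a : X ⟶ Over.mk f) (g : X ⟶ G) :
    Over.mk a.left ⟶ Red.bc f G :=
  bcEquiv f (Over.mk a.left) G ((overIso a).hom ≫ g)

/-- The point `(a, g)` of `bc f G` factors through `t`. -/
def MemAt (t : T ⟶ Red.bc f G) {X : Over S} (a : X ⟶ Over.mk f) (g : X ⟶ G) : Prop :=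
  ∃ x : Over.mk a.left ⟶ T, x ≫ t = bcEquiv f (Over.mk a.left) G ((overIso a).hom ≫ g)

lemma memAt_iff (t : T ⟶ Red.bc f G) {X : Over S} (a : X ⟶ Over.mk f) (g : X ⟶ G) :
    MemAt t a g ↔ ∃ x : Over.mk a.left ⟶ T, x ≫ t = bcPt a g := Iff.rfl

/-- the map induced by `h : X' ⟶ X` between the schemes `X'`, `X` over `S'` -/
noncomputable def ovMap {X' X : Over S} (h : X' ⟶ X) (a : X ⟶ Over.mk f) :
    Over.mk (h ≫ a).left ⟶ Over.mk a.left := Over.homMk h.left (by simp)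

@[simp] lemma ovMap_left {X' X : Over S} (h : X' ⟶ X) (a : X ⟶ Over.mk f) :
    (ovMap h a).left = h.left := rfl

lemma bcPt_comp {X' X : Over S} (h : X' ⟶ X) (a : X ⟶ Over.mk f) (g : X ⟶ G) :
    bcPt (h ≫ a) (h ≫ g) = ovMap h a ≫ bcPt a g := by
  have e1 : (overIso (h ≫ a)).hom ≫ h = (Over.map f).map (ovMap h a) ≫ (overIso a).hom := by
    ext1
    simp [overIso]
  rw [bcPt, bcPt, ← comp_bcEquiv, ← Category.assoc, e1, Category.assoc]

lemma bcPt_mul [GrpObj G] {X : Over S} (a : X ⟶ Over.mk f) (g g' : X ⟶ G) :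
    bcPt a (g * g') = bcPt a g * bcPt a g' := by
  rw [bcPt, MonObj.comp_mul, bcEquiv_mul]
  rfl

lemma bcPt_one [GrpObj G] {X : Over S} (a : X ⟶ Over.mk f) :
    bcPt a (1 : X ⟶ G) = 1 := by
  rw [bcPt, MonObj.comp_one, bcEquiv_one]

lemma bcPt_inv [GrpObj G] {X : Over S} (a : X ⟶ Over.mk f) (g : X ⟶ G) :
    bcPt a g⁻¹ = (bcPt a g)⁻¹ := by
  rw [eq_inv_iff_mul_eq_one, ← bcPt_mul, inv_mul_cancel, bcPt_one]

namespace MemAt

variable {t : T ⟶ Red.bc f G}

lemma comp {X' X : Over S} (h : X' ⟶ X) {a : X ⟶ Over.mk f} {g : X ⟶ G} (H : MemAt t a g) :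
    MemAt t (h ≫ a) (h ≫ g) := by
  obtain ⟨x, hx⟩ := (memAt_iff t a g).1 H
  refine (memAt_iff t _ _).2 ⟨ovMap h a ≫ x, ?_⟩
  rw [bcPt_comp, Category.assoc, hx]

lemma one [GrpObj G] [GrpObj T] [IsMonHom t] {X : Over S} (a : X ⟶ Over.mk f) :
    MemAt t a (1 : X ⟶ G) :=
  (memAt_iff t _ _).2 ⟨1, by rw [bcPt_one, MonObj.one_comp]⟩

lemma mul [GrpObj G] [GrpObj T] [IsMonHom t] {X : Over S} {a : X ⟶ Over.mk f} {g g' : X ⟶ G}
    (H : MemAt t a g) (H' : MemAt t a g') : MemAt t a (g * g') := by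
  obtain ⟨x, hx⟩ := (memAt_iff t a g).1 H
  obtain ⟨x', hx'⟩ := (memAt_iff t a g').1 H'
  exact (memAt_iff t _ _).2 ⟨x * x', by rw [bcPt_mul, MonObj.mul_comp, hx, hx']⟩

lemma inv [GrpObj G] [GrpObj T] [IsMonHom t] {X : Over S} {a : X ⟶ Over.mk f} {g : X ⟶ G}
    (H : MemAt t a g) : MemAt t a g⁻¹ := by
  obtain ⟨x, hx⟩ := (memAt_iff t a g).1 H
  exact (memAt_iff t _ _).2 ⟨x⁻¹, by rw [bcPt_inv, GrpObj.inv_comp, hx]⟩

/-- `MemAt` can be tested on affine points. -/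
lemma of_aff [Mono t] {X : Over S} (a : X ⟶ Over.mk f) (g : X ⟶ G)
    (h : ∀ (C : Type u) [CommRing C] (c : Spec (CommRingCat.of C) ⟶ S) (x : aff C c ⟶ X),
      MemAt t (x ≫ a) (x ≫ g)) : MemAt t a g := by
  refine (memAt_iff t _ _).2 (AffPts998.exists_lift_of_aff t (bcPt a g) fun C _ c y => ?_)
  have hy : y.left ≫ a.left = c := Over.w y
  have ha : a.left ≫ f = X.hom := Over.w a
  let x : aff C (c ≫ f) ⟶ X := Over.homMk y.left (by
    change y.left ≫ X.hom = c ≫ f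
    rw [← ha, ← Category.assoc, hy])
  have hx : (x ≫ a).left = c := hy
  obtain ⟨z, hz⟩ := (memAt_iff t _ _).1 (h C (c ≫ f) x)
  let e : aff C c ⟶ Over.mk (x ≫ a).left := Over.homMk (𝟙 _) ((Category.id_comp _).trans hx)
  refine ⟨e ≫ z, ?_⟩
  rw [Category.assoc, hz, bcPt_comp, ← Category.assoc]
  congr 1

/-- `MemAt` is Zariski local. -/
lemma of_cover [Mono t] {X : Over S} (a : X ⟶ Over.mk f) (g : X ⟶ G)
    (𝒰 : Scheme.OpenCover.{u} X.left)
    (h : ∀ i, MemAt t ((Over.homMk (𝒰.f i) : Over.mk (𝒰.f i ≫ X.hom) ⟶ X) ≫ a)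
      ((Over.homMk (𝒰.f i) : Over.mk (𝒰.f i ≫ X.hom) ⟶ X) ≫ g)) : MemAt t a g := by
  have hm : Mono t.left := inferInstance
  have key : ∀ i, ∃ x : 𝒰.X i ⟶ T.left, x ≫ t.left = 𝒰.f i ≫ (bcPt a g).left := by
    intro i
    obtain ⟨x, hx⟩ := (memAt_iff t _ _).1 (h i)
    rw [bcPt_comp] at hx
    exact ⟨x.left, congrArg (fun z => z.left) hx⟩
  choose x hx using key
  let F : X.left ⟶ T.left := 𝒰.glueMorphisms x (fun i j => by
    rw [← cancel_mono t.left, Category.assoc, Category.assoc, hx, hx, ← Category.assoc,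
      ← Category.assoc, pullback.condition])
  have hF : F ≫ t.left = (bcPt a g).left := by
    refine Scheme.Cover.hom_ext 𝒰 _ _ fun i => ?_
    rw [← Category.assoc, Scheme.Cover.ι_glueMorphisms, hx]
  refine (memAt_iff t _ _).2 ⟨Over.homMk F ?_, ?_⟩
  · rw [← Over.w t, ← Category.assoc, hF, Over.w]
  · ext1
    exact hF

/-- `MemAt` for a closed subscheme descends along flat surjective morphisms. -/
lemma of_flat [IsClosedImmersion t.left] {X' X : Over S} (h : X' ⟶ X) [Flat h.left]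
    [Surjective h.left] {a : X ⟶ Over.mk f} {g : X ⟶ G} (H : MemAt t (h ≫ a) (h ≫ g)) :
    MemAt t a g := by
  obtain ⟨x, hx⟩ := (memAt_iff t _ _).1 H
  rw [bcPt_comp] at hx
  have : IsSchemeTheoreticallyDominant (ovMap h a).left :=
    Sga3C.FlatGeneric.isSchemeTheoreticallyDominant_of_flat_surjective h.left
  exact (memAt_iff t _ _).2 (Sga3C.SchemImage.exists_lift_over (ovMap h a) (bcPt a g) t x hx)

/-- the structure morphism of `X` over `S'`, over `S` -/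
noncomputable def strHom (f : S' ⟶ S) (X : Over S') : (Over.map f).obj X ⟶ Over.mk f :=
  Over.homMk X.hom (by simp)

/-- eta -/
noncomputable def etaHom (f : S' ⟶ S) (X : Over S') : Over.mk (strHom f X).left ⟶ X :=
  Over.homMk (𝟙 X.left) (Category.id_comp _)

/-- eta -/
noncomputable def etaInv (f : S' ⟶ S) (X : Over S') : X ⟶ Over.mk (strHom f X).left :=
  Over.homMk (𝟙 X.left) (Category.id_comp _)

lemma etaInv_etaHom_assoc {X Y : Over S'} (g : X ⟶ Y) : etaInv f X ≫ etaHom f X ≫ g = g := by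
  ext1
  change 𝟙 _ ≫ 𝟙 _ ≫ g.left = g.left
  rw [Category.id_comp, Category.id_comp]

lemma bcPt_symm (X : Over S') (g : X ⟶ Red.bc f G) :
    bcPt (strHom f X) ((bcEquiv f X G).symm g) = etaHom f X ≫ g := by
  have h := comp_bcEquiv_symm f (etaHom f X) g
  have e : (overIso (strHom f X)).hom = (Over.map f).map (etaHom f X) := by
    ext1
    rfl
  rw [bcPt, e, ← h]
  exact Equiv.apply_symm_apply _ _

/-- Points of `bc f G` over `S'`. -/
lemma iff_of_over (t : T ⟶ Red.bc f G) (X : Over S') (g : X ⟶ Red.bc f G) :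
    MemAt t (strHom f X) ((bcEquiv f X G).symm g) ↔ ∃ x : X ⟶ T, x ≫ t = g := by
  rw [memAt_iff, bcPt_symm]
  constructor
  · rintro ⟨x, hx⟩
    refine ⟨etaInv f X ≫ x, (Category.assoc _ _ _).trans ?_⟩
    exact (congrArg (etaInv f X ≫ ·) hx).trans (etaInv_etaHom_assoc g)
  · rintro ⟨x, hx⟩
    exact ⟨etaHom f X ≫ x, (Category.assoc _ _ _).trans (congrArg (etaHom f X ≫ ·) hx)⟩

end MemAt

end Groth.Agent.Sga3B.MT
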