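import Groth.Agent.Sga3B.MT.FromNat
import Groth.Agent.Sga3B.PinModel
import Groth.Agent.Sga3B.AffPts
import Groth.Agent.Sga3B.BcPts
import Groth.Agent.Sga3B.PinFinal
import Groth.Agent.Sga3B.MT.MemAt

/-!
# Relative split cell data for an affine group scheme which splits over an extension

`ptGrpOf e`: for `e : G ≅ Spec A` over `Spec R`, the group structures on `Pt R A B = G(B)`.
`exists_rcell`: if `Red.bc f₀ G` (`f₀ : Spec B₀ → Spec R`) has pinned cell data (`PinModel`), then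
`A` has relative split cell data over `B₀`, with the same torus.
-/

set_option autoImplicit false
universe u

open CategoryTheory MonoidalCategory CartesianMonoidalCategory MonObj GrpObj AlgebraicGeometry
open TensorProduct
open Groth.Agent.Sga3B.Cell

namespace Groth.Agent.Sga3B.MT

open Groth.Agent.Books.AffBridge PinMod DSPts

noncomputable section

section ptGrp

variable {R : Type u} [CommRing R] {G : Over (Spec (CommRingCat.of R))} [GrpObj G]
  {A : Type u} [CommRing A] [Algebra R A] (e : G ≅ SpecOver R A)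
  {B C : Type u} [CommRing B] [Algebra R B] [CommRing C] [Algebra R C]

/-- points of `A` as points of `G` -/
def ptE (B : Type u) [CommRing B] [Algebra R B] : Pt R A B ≃ (SpecOver R B ⟶ G) :=
  (specEquiv R).trans
    { toFun := fun g => g ≫ e.inv
      invFun := fun g => g ≫ e.hom
      left_inv := fun g => by simp
      right_inv := fun g => by simp }

lemma ptE_apply (g : Pt R A B) : ptE e B g = specMap R g.hom ≫ e.inv := rfl

lemma ptE_nat (φ : B →ₐ[R] C) (g : Pt R A B) :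
    ptE e C (Pt.map φ g) = specMap R φ ≫ ptE e B g := by
  rw [ptE_apply, ptE_apply, Pt.map_hom, specMap_comp, Category.assoc]

/-- the group structure on the points of `A` induced by an isomorphism `G ≅ Spec A`. -/
@[reducible] def ptGrpOf : PtGrp R A where
  grp B _ _ := (ptE e B).group
  map_mul' {B C} _ _ _ _ φ f g := by
    apply (ptE e C).injective
    have h1 : ∀ (f g : Pt R A B), ptE e B ((ptE e B).symm (ptE e B f * ptE e B g)) =
        ptE e B f * ptE e B g := fun f g => (ptE e B).apply_symm_apply _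
    have h2 : ∀ (f g : Pt R A C), ptE e C ((ptE e C).symm (ptE e C f * ptE e C g)) =
        ptE e C f * ptE e C g := fun f g => (ptE e C).apply_symm_apply _
    change ptE e C (Pt.map φ ((ptE e B).symm (ptE e B f * ptE e B g))) =
      ptE e C ((ptE e C).symm (ptE e C (Pt.map φ f) * ptE e C (Pt.map φ g)))
    rw [ptE_nat, h1, h2, ptE_nat, ptE_nat, MonObj.comp_mul]

/-- the identification of points as a group isomorphism -/
def ptEquiv (B : Type u) [CommRing B] [Algebra R B] :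
    letI := ptGrpOf e
    Pt R A B ≃* (SpecOver R B ⟶ G) :=
  letI := ptGrpOf e
  { ptE e B with
    map_mul' := fun _ _ => (ptE e B).apply_symm_apply _ }

end ptGrp

/-- A natural identification of the points of `Spec A` with those of the group `G` over `Spec R`. -/
structure GPts {R : Type u} [CommRing R] (G : Over (Spec (CommRingCat.of R))) [GrpObj G]
    (A : Type u) [CommRing A] [Algebra R A] [PtGrp R A] where
  /-- the identification -/
  pt : ∀ (B : Type u) [CommRing B] [Algebra R B], Pt R A B ≃* (SpecOver R B ⟶ G)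
  nat : ∀ {B C : Type u} [CommRing B] [Algebra R B] [CommRing C] [Algebra R C] (φ : B →ₐ[R] C)
    (g : Pt R A B), pt C (Pt.map φ g) = specMap R φ ≫ pt B g

/-- the points of `G ≅ Spec A` -/
def gptsOf {R : Type u} [CommRing R] {G : Over (Spec (CommRingCat.of R))} [GrpObj G]
    {A : Type u} [CommRing A] [Algebra R A] (e : G ≅ SpecOver R A) :
    letI := ptGrpOf e
    GPts G A :=
  letI := ptGrpOf e
  { pt := fun B _ _ => ptEquiv e B
    nat := fun φ g => ptE_nat e φ g }

section rcell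

variable {R : Type u} [CommRing R] {G : Over (Spec (CommRingCat.of R))} [GrpObj G]
  {A : Type u} [CommRing A] [Algebra R A]
  {B₀ : Type u} [CommRing B₀] [Algebra R B₀]
  {B C : Type u} [CommRing B] [Algebra R B] [CommRing C] [Algebra R C]

/-- the structure morphism `Spec B₀ ⟶ Spec R` -/
abbrev f₀ (R B₀ : Type u) [CommRing R] [CommRing B₀] [Algebra R B₀] :
    Spec (CommRingCat.of B₀) ⟶ Spec (CommRingCat.of R) :=
  Spec.map (CommRingCat.ofHom (algebraMap R B₀))

/-- `Spec B` over `Spec B₀` over `Spec R` -/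
def tIso (φ : B₀ →ₐ[R] B) :
    (Over.map (f₀ R B₀)).obj (tB (𝟙 (Spec (CommRingCat.of B₀))) (Via φ)) ≅ SpecOver R B :=
  Over.isoMk (Iso.refl _) (by
    simp only [Over.map_obj_hom, Over.mk_hom, Category.comp_id]
    change 𝟙 _ ≫ Spec.map (CommRingCat.ofHom (algebraMap R B)) =
      Spec.map (CommRingCat.ofHom (algebraMap B₀ (Via φ))) ≫ f₀ R B₀
    rw [Category.id_comp, ← Spec.map_comp, ← CommRingCat.ofHom_comp]
    congr 2
    exact (φ.comp_algebraMap).symm)

@[simp] lemma tIso_hom_left (φ : B₀ →ₐ[R] B) : (tIso φ).hom.left = 𝟙 _ := rfl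
@[simp] lemma tIso_inv_left (φ : B₀ →ₐ[R] B) : (tIso φ).inv.left = 𝟙 _ := rfl

/-- points of the base change over `φ : B₀ → B` are points of `G` over `B` -/
def viaPt (φ : B₀ →ₐ[R] B) :
    (tB (𝟙 (Spec (CommRingCat.of B₀))) (Via φ) ⟶ Red.bc (f₀ R B₀) G) ≃* (SpecOver R B ⟶ G) where
  toFun x := (tIso φ).inv ≫ (BcPts.bcMulEquiv (f₀ R B₀) _ G).symm x
  invFun y := BcPts.bcMulEquiv (f₀ R B₀) _ G ((tIso φ).hom ≫ y)
  left_inv x := by simp
  right_inv y := by simp
  map_mul' x y := by rw [map_mul, MonObj.comp_mul]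

lemma tIso_nat (φ : B₀ →ₐ[R] B) (ψ : B →ₐ[R] C) :
    specMap R ψ ≫ (tIso φ).inv = (tIso (ψ.comp φ)).inv ≫
      (Over.map (f₀ R B₀)).map (tMap (𝟙 (Spec (CommRingCat.of B₀))) (viaMap φ ψ)) := by
  ext1
  exact (Category.comp_id _).trans (Category.id_comp _).symm

lemma viaPt_nat (φ : B₀ →ₐ[R] B) (ψ : B →ₐ[R] C)
    (x : tB (𝟙 (Spec (CommRingCat.of B₀))) (Via φ) ⟶ Red.bc (f₀ R B₀) G) :
    specMap R ψ ≫ viaPt φ x = viaPt (ψ.comp φ)
      (tMap (𝟙 (Spec (CommRingCat.of B₀))) (viaMap φ ψ) ≫ x) := by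
  change specMap R ψ ≫ (tIso φ).inv ≫ (BcPts.bcEquiv (f₀ R B₀) _ G).symm x =
    (tIso (ψ.comp φ)).inv ≫ (BcPts.bcEquiv (f₀ R B₀) _ G).symm _
  rw [BcPts.comp_bcEquiv_symm, ← Category.assoc, tIso_nat, Category.assoc]

variable [PtGrp R A] (Q : GPts G A) {A₀ : Type u} [CommRing A₀] [Algebra B₀ A₀] [PtGrp B₀ A₀]
  (pts : ∀ (B : Type u) [CommRing B] [Algebra B₀ B], Pt B₀ A₀ B ≃*
    (tB (𝟙 (Spec (CommRingCat.of B₀))) B ⟶ Red.bc (f₀ R B₀) G))
  (pts_nat : ∀ {B C : Type u} [CommRing B] [Algebra B₀ B] [CommRing C] [Algebra B₀ C]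
    (φ : B →ₐ[B₀] C) (g : Pt B₀ A₀ B),
    tMap (𝟙 (Spec (CommRingCat.of B₀))) φ ≫ pts B g = pts C (Pt.map φ g))

/-- the identification of the points of the model of the base change with the points of `A` -/
def natPt : NatPt R B₀ A A₀ where
  ρ {B} _ _ φ := (pts (Via φ)).trans ((viaPt φ).trans (Q.pt B).symm)
  nat {B C} _ _ _ _ φ ψ g := by
    apply (Q.pt C).injective
    rw [Q.nat]
    change specMap R ψ ≫ Q.pt B ((Q.pt B).symm (viaPt φ (pts (Via φ) g))) =
      Q.pt C ((Q.pt C).symm (viaPt (ψ.comp φ) (pts (Via (ψ.comp φ)) (Pt.map (viaMap φ ψ) g))))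
    rw [MulEquiv.apply_symm_apply, MulEquiv.apply_symm_apply, viaPt_nat, pts_nat]

lemma pt_natPt (φ : B₀ →ₐ[R] B) (g : Pt B₀ A₀ (Via φ)) :
    Q.pt B ((natPt Q pts pts_nat).ρ φ g) = viaPt φ (pts (Via φ) g) :=
  (Q.pt B).apply_symm_apply _

end rcell

section final

variable {R : Type u} [CommRing R] {G : Over (Spec (CommRingCat.of R))} [GrpObj G]
  {A : Type u} [CommRing A] [Algebra R A] [PtGrp R A] (Q : GPts G A)
  {B₀ : Type u} [CommRing B₀] [Algebra R B₀] {B : Type u} [CommRing B] [Algebra R B]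

/-- the comparison of the two versions of `Spec B` over `Spec B₀` -/
def viaIso (φ : B₀ →ₐ[R] B) (a : SpecOver R B ⟶ Over.mk (f₀ R B₀))
    (ha : a.left = Spec.map (CommRingCat.ofHom φ.toRingHom)) :
    Over.mk a.left ≅ tB (𝟙 (Spec (CommRingCat.of B₀))) (Via φ) :=
  Over.isoMk (Iso.refl _) (by
    change 𝟙 _ ≫ Spec.map (CommRingCat.ofHom (algebraMap B₀ (Via φ))) ≫ 𝟙 _ = a.left
    rw [Category.id_comp, Category.comp_id, ha]
    rfl)

lemma memAt_iff_tB {T : Over (Spec (CommRingCat.of B₀))} (t : T ⟶ Red.bc (f₀ R B₀) G)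
    (φ : B₀ →ₐ[R] B) (a : SpecOver R B ⟶ Over.mk (f₀ R B₀))
    (ha : a.left = Spec.map (CommRingCat.ofHom φ.toRingHom)) (g : SpecOver R B ⟶ G) :
    MemAt t a g ↔
      ∃ x : tB (𝟙 (Spec (CommRingCat.of B₀))) (Via φ) ⟶ T, x ≫ t = (viaPt φ).symm g := by
  have key : bcPt a g = (viaIso φ a ha).hom ≫ (viaPt φ).symm g := by
    have e1 : (BcPts.overIso a).hom = (Over.map (f₀ R B₀)).map (viaIso φ a ha).hom ≫
        (tIso φ).hom := by
      ext1
      exact (Category.comp_id _).symm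
    refine Eq.trans ?_ (BcPts.comp_bcEquiv (f₀ R B₀) (viaIso φ a ha).hom ((tIso φ).hom ≫ g))
    rw [bcPt, e1, Category.assoc]
  rw [memAt_iff, key]
  constructor
  · rintro ⟨x, hx⟩
    refine ⟨(viaIso φ a ha).inv ≫ x, ?_⟩
    rw [Category.assoc, hx, Iso.inv_hom_id_assoc]
  · rintro ⟨x, hx⟩
    exact ⟨(viaIso φ a ha).hom ≫ x, by rw [Category.assoc, hx]⟩

/-- **(P9)** relative split cell data from the model of a splitting over `B₀`. -/
theorem exists_rcell (D : Red.SplitRed (Red.bc (f₀ R B₀) G)) (b : D.P.Base)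
    (m : PinModel D.P b (Red.bc (f₀ R B₀) G) (PinFinal.jOf D) D.u (𝟙 (Spec (CommRingCat.of B₀)))) :
    ∃ F : RCell D.P b R A B₀,
      ∀ {B : Type u} [CommRing B] [Algebra R B] (φ : B₀ →ₐ[R] B) (g : Pt R A B)
        (a : SpecOver R B ⟶ Over.mk (f₀ R B₀))
        (_ : a.left = Spec.map (CommRingCat.ofHom φ.toRingHom)),
        (∃ t : TPt D.M B, g = F.i φ t) ↔ MemAt D.i a (Q.pt B g) := by
  let _ := m.ring
  let _ := m.alg
  let _ := m.grp
  obtain ⟨F, hF, -⟩ := RCell.exists_of_natPt (natPt Q m.pts m.pts_nat) m.E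
  refine ⟨F, ?_⟩
  intro B _ _ φ g a ha
  have h1 : ∀ t : TPt D.M B, g = F.i φ t ↔
      (dsEquiv (tB (𝟙 (Spec (CommRingCat.of B₀))) (Via φ)) D.M
        (chΓ (𝟙 (Spec (CommRingCat.of B₀))) (show TPt D.M (Via φ) from t))) ≫ PinFinal.jOf D =
        (viaPt φ).symm (Q.pt B g) := by
    intro t
    rw [hF, ← m.pts_i (Via φ) (show TPt D.M (Via φ) from t)]
    constructor
    · intro h
      rw [h, pt_natPt, MulEquiv.symm_apply_apply]
    · intro h
      apply (Q.pt B).injective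
      rw [pt_natPt, h, MulEquiv.apply_symm_apply]
  have h2 : D.split.inv.hom.hom ≫ D.split.hom.hom.hom = 𝟙 _ :=
    congrArg (fun f => f.hom.hom) D.split.inv_hom_id
  have h3 : D.split.hom.hom.hom ≫ D.split.inv.hom.hom = 𝟙 _ :=
    congrArg (fun f => f.hom.hom) D.split.hom_inv_id
  rw [memAt_iff_tB D.i φ a ha]
  constructor
  · rintro ⟨t, ht⟩
    refine ⟨(dsEquiv (tB (𝟙 (Spec (CommRingCat.of B₀))) (Via φ)) D.M
        (chΓ (𝟙 (Spec (CommRingCat.of B₀))) (show TPt D.M (Via φ) from t))) ≫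
        D.split.inv.hom.hom, ?_⟩
    rw [Category.assoc]
    exact (h1 t).1 ht
  · rintro ⟨x, hx⟩
    obtain ⟨t, ht⟩ := exists_chΓ (𝟙 (Spec (CommRingCat.of B₀))) (x ≫ D.split.hom.hom.hom)
    refine ⟨show TPt D.M (Via φ) from t, (h1 t).2 ?_⟩
    rw [← hx, ← ht, PinFinal.jOf, Category.assoc, ← Category.assoc D.split.hom.hom.hom, h3,
      Category.id_comp]

end final

end

end Groth.Agent.Sga3B.MT
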