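import Groth.Agent.Sga3B.MT.MemAt
import Groth.Agent.Sga3B.Parab.EtHom
import Groth.Agent.Sga3B.AlgBc2

/-!
# `MemAt` for base changes and conjugates of subgroups
-/

set_option autoImplicit false

universe u

open CategoryTheory MonoidalCategory CartesianMonoidalCategory MonObj GrpObj AlgebraicGeometry Limits

namespace Groth.Agent.Sga3B.MT

open Groth.Agent.Sga3B Groth.Agent.Sga3B.BcPts Groth.Agent.Sga3B.Parab Groth.Agent.Sga3B.ResAlg

variable {S S' S'' : Scheme.{u}} {f : S' ⟶ S} {G : Over S} {T : Over S'}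

lemma bcPt_left_snd {X : Over S} (a : X ⟶ Over.mk f) (g : X ⟶ G) :
    (bcPt a g).left ≫ pullback.snd G.hom f = a.left := Over.w (bcPt a g)

lemma bcPt_left_fst {X : Over S} (a : X ⟶ Over.mk f) (g : X ⟶ G) :
    (bcPt a g).left ≫ pullback.fst G.hom f = g.left := by
  have h : (bcEquiv f (Over.mk a.left) G).symm (bcPt a g) = (overIso a).hom ≫ g :=
    Equiv.symm_apply_apply _ _
  have h2 := congrArg (fun z => z.left) h
  have h3 : ((bcEquiv f (Over.mk a.left) G).symm (bcPt a g)).left =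
      (bcPt a g).left ≫ pullback.fst G.hom f := by
    simp [bcEquiv, Adjunction.homEquiv_counit]
  rw [← h3]
  refine h2.trans ?_
  simp

lemma memAt_iff' (t : T ⟶ Red.bc f G) {X : Over S} (a : X ⟶ Over.mk f) (g : X ⟶ G) :
    MemAt t a g ↔ ∃ x : X.left ⟶ T.left, x ≫ T.hom = a.left ∧
      x ≫ t.left ≫ pullback.fst G.hom f = g.left := by
  rw [memAt_iff]
  constructor
  · rintro ⟨x, hx⟩
    refine ⟨x.left, Over.w x, ?_⟩
    have h := congrArg (fun z => z.left) hx
    rw [← bcPt_left_fst a g, ← Category.assoc]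
    exact congrArg (· ≫ pullback.fst G.hom f) h
  · rintro ⟨x, hx1, hx2⟩
    refine ⟨Over.homMk x hx1, ?_⟩
    ext1
    apply pullback.hom_ext
    · rw [bcPt_left_fst, ← hx2]
      exact Category.assoc _ _ _
    · rw [bcPt_left_snd]
      exact (Over.w ((Over.homMk x hx1 : Over.mk a.left ⟶ T) ≫ t))

section Bc

/-- the base change of `t : T ⟶ bc f G` along `q : S'' ⟶ S'`. -/
noncomputable def bcSub (q : S'' ⟶ S') (t : T ⟶ Red.bc f G) : Red.bc q T ⟶ Red.bc (q ≫ f) G :=
  (Over.pullback q).map t ≫ (Over.pullbackComp q f).inv.app G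

/-- `q` as a morphism over `S` -/
noncomputable def ovq (q : S'' ⟶ S') (f : S' ⟶ S) : Over.mk (q ≫ f) ⟶ Over.mk f := Over.homMk q rfl

lemma pullbackComp_hom_fst (q : S'' ⟶ S') (X : Over S) :
    ((Over.pullbackComp q f).hom.app X).left ≫ pullback.fst (pullback.snd X.hom f) q ≫
      pullback.fst X.hom f = pullback.fst X.hom (q ≫ f) := by
  have h := conjugateEquiv_counit (Over.mapPullbackAdj (q ≫ f))
    ((Over.mapPullbackAdj q).comp (Over.mapPullbackAdj f)) (Over.mapComp q f).inv X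
  have h2 := congrArg (fun z => z.left) h
  simp at h2
  exact h2

lemma pullbackComp_inv_fst (q : S'' ⟶ S') (X : Over S) :
    ((Over.pullbackComp q f).inv.app X).left ≫ pullback.fst X.hom (q ≫ f) =
      pullback.fst (pullback.snd X.hom f) q ≫ pullback.fst X.hom f := by
  have h : ((Over.pullbackComp q f).inv.app X).left ≫ ((Over.pullbackComp q f).hom.app X).left =
      𝟙 _ := congrArg (fun z => z.left) ((Over.pullbackComp q f).inv_hom_id_app X)
  rw [← pullbackComp_hom_fst, ← Category.assoc, h]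
  exact Category.id_comp _

lemma bcSub_fst (q : S'' ⟶ S') (t : T ⟶ Red.bc f G) :
    (bcSub q t).left ≫ pullback.fst G.hom (q ≫ f) =
      pullback.fst T.hom q ≫ t.left ≫ pullback.fst G.hom f := by
  have h2 : ((Over.pullback q).map t).left ≫ pullback.fst (pullback.snd G.hom f) q =
      pullback.fst T.hom q ≫ t.left := (EtHom.isPullback_map q t).w.symm
  rw [bcSub, Over.comp_left, Category.assoc, pullbackComp_inv_fst, ← Category.assoc, h2,
    Category.assoc]

lemma memAt_bcSub (q : S'' ⟶ S') (t : T ⟶ Red.bc f G) {X : Over S} (a : X ⟶ Over.mk (q ≫ f))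
    (g : X ⟶ G) : MemAt (bcSub q t) a g ↔ MemAt t (a ≫ ovq q f) g := by
  rw [memAt_iff', memAt_iff']
  constructor
  · rintro ⟨x, h1, h2⟩
    refine ⟨x ≫ pullback.fst T.hom q, ?_, ?_⟩
    · rw [Category.assoc, pullback.condition, ← Category.assoc]
      exact congrArg (· ≫ q) h1
    · rw [Category.assoc, ← bcSub_fst]
      exact h2
  · rintro ⟨x, h1, h2⟩
    refine ⟨pullback.lift x a.left (h1.trans rfl), pullback.lift_snd _ _ _, ?_⟩
    rw [bcSub_fst, ← Category.assoc]
    exact (congrArg (· ≫ t.left ≫ pullback.fst G.hom f) (pullback.lift_fst _ _ _)).trans h2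

lemma isClosedImmersion_bcSub (q : S'' ⟶ S') (t : T ⟶ Red.bc f G) [IsClosedImmersion t.left] :
    IsClosedImmersion (bcSub q t).left := by
  have h1 : IsClosedImmersion ((Over.pullback q).map t).left :=
    MorphismProperty.of_isPullback (EtHom.isPullback_map q t) ‹_›
  have h2 : IsIso ((Over.pullbackComp q f).inv.app G).left :=
    inferInstanceAs (IsIso ((Over.forget _).map ((Over.pullbackComp q f).inv.app G)))
  rw [bcSub, Over.comp_left]
  infer_instance

theorem isMaximalTorus_bcSub [GrpObj G] [GrpObj T] (q : S'' ⟶ S') [AlgRes q]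
    (t : T ⟶ Red.bc f G) (h : Red.IsMaximalTorus t) : Red.IsMaximalTorus (bcSub q t) := by
  refine AlgBc.isMaximalTorus_of_arrow (Iso.refl _) (BcIso.bcCompIso q f G).symm ?_
    (AlgBc.isMaximalTorus_bc q h)
  have e : (RedIso.und (BcIso.bcCompIso q f G).symm).hom = (Over.pullbackComp q f).inv.app G := by
    have h1 := BcNat.und_bcCompIso q f G
    have h2 : (RedIso.und (BcIso.bcCompIso q f G).symm).hom ≫
        (RedIso.und (BcIso.bcCompIso q f G)).hom = 𝟙 _ := by
      rw [BcNat.und_symm, Iso.inv_hom_id]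
    rw [h1] at h2
    have h3 : (Over.pullbackComp q f).inv.app G ≫ (Over.pullbackComp q f).hom.app G = 𝟙 _ := by
      simp
    exact (cancel_mono ((Over.pullbackComp q f).hom.app G)).1 (h2.trans h3.symm)
  rw [e]
  exact (Category.id_comp _).symm

end Bc

section Conj

variable [GrpObj G]

/-- the structure morphism to the final object -/
noncomputable def toE (f : S' ⟶ S) (X : Over S') : X ⟶ Over.mk (Over.Hom.left (𝟙 (Over.mk f))) :=
  Over.homMk X.hom (Category.comp_id _)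

lemma comp_toE {X Y : Over S'} (x : X ⟶ Y) : x ≫ toE f Y = toE f X := by
  ext1
  exact Over.w x

/-- conjugation by the point `γ` of `G` over `S'` -/
noncomputable def cj (γ : Over.mk f ⟶ G) : Red.bc f G ⟶ Red.bc f G :=
  (toE f _ ≫ bcPt (𝟙 _) γ) * 𝟙 _ * (toE f _ ≫ bcPt (𝟙 _) γ)⁻¹

lemma comp_cj (γ : Over.mk f ⟶ G) {X : Over S'} (x : X ⟶ Red.bc f G) :
    x ≫ cj γ = (toE f X ≫ bcPt (𝟙 _) γ) * x * (toE f X ≫ bcPt (𝟙 _) γ)⁻¹ := by
  rw [cj, MonObj.comp_mul, MonObj.comp_mul, GrpObj.comp_inv, Category.comp_id, ← Category.assoc,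
    comp_toE]

omit [GrpObj G] in
lemma toE_bcPt {X : Over S} (a : X ⟶ Over.mk f) (γ : Over.mk f ⟶ G) :
    toE f (Over.mk a.left) ≫ bcPt (𝟙 _) γ = bcPt a (a ≫ γ) := by
  have h := bcPt_comp a (𝟙 _) γ
  have e : ∀ (b : X ⟶ Over.mk f) (_ : b = a), (bcPt b (a ≫ γ)).left = (bcPt a (a ≫ γ)).left := by
    rintro _ rfl; rfl
  ext1
  rw [← e (a ≫ 𝟙 _) (Category.comp_id a), h]
  rfl

lemma memAt_comp_cj (γ : Over.mk f ⟶ G) (t : T ⟶ Red.bc f G) {X : Over S} (a : X ⟶ Over.mk f)
    (g : X ⟶ G) : MemAt (t ≫ cj γ) a g ↔ MemAt t a ((a ≫ γ)⁻¹ * g * (a ≫ γ)) := by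
  rw [memAt_iff, memAt_iff, bcPt_mul, bcPt_mul, bcPt_inv]
  refine exists_congr fun x => ?_
  rw [← Category.assoc, comp_cj, toE_bcPt]
  constructor
  · intro h
    rw [← h]
    group
  · intro h
    rw [h]
    group

instance isMonHom_cj (γ : Over.mk f ⟶ G) : IsMonHom (cj γ) := by
  apply Pts.isMonHom_of_points
  intro X x y
  rw [comp_cj, comp_cj, comp_cj]
  group

lemma cj_cj_inv (γ : Over.mk f ⟶ G) : cj γ ≫ cj γ⁻¹ = 𝟙 _ := by
  rw [comp_cj, cj, bcPt_inv, GrpObj.comp_inv]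
  group

lemma cj_inv_cj (γ : Over.mk f ⟶ G) : cj γ⁻¹ ≫ cj γ = 𝟙 _ := by
  have := cj_cj_inv γ⁻¹
  rwa [_root_.inv_inv] at this

/-- conjugation as an isomorphism -/
@[simps] noncomputable def cjIso (γ : Over.mk f ⟶ G) : Red.bc f G ≅ Red.bc f G :=
  ⟨cj γ, cj γ⁻¹, cj_cj_inv γ, cj_inv_cj γ⟩

theorem isMaximalTorus_comp_cj [GrpObj T] (γ : Over.mk f ⟶ G) (t : T ⟶ Red.bc f G)
    (h : Red.IsMaximalTorus t) : Red.IsMaximalTorus (t ≫ cj γ) := by
  have : IsMonHom (cjIso γ).hom := isMonHom_cj γ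
  refine AlgBc.isMaximalTorus_of_arrow (Iso.refl _) (Grp.mkIso' (cjIso γ)) ?_ h
  exact (Category.id_comp _).symm

lemma isClosedImmersion_comp_cj (γ : Over.mk f ⟶ G) (t : T ⟶ Red.bc f G)
    [IsClosedImmersion t.left] : IsClosedImmersion (t ≫ cj γ).left := by
  have h2 : IsIso (cj γ).left := inferInstanceAs (IsIso ((Over.forget _).map (cjIso γ).hom))
  rw [Over.comp_left]
  infer_instance

end Conj

end Groth.Agent.Sga3B.MT
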