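import Groth.Agent.Sga3B.AlgBc2

/-!
# Tori and maximal tori can be recognised étale locally on the base
-/

set_option autoImplicit false

universe u

open CategoryTheory MonoidalCategory CartesianMonoidalCategory MonObj GrpObj AlgebraicGeometry Limits

namespace Groth.Agent.Sga3B.MT

open Groth.Agent.Sga3B Groth.Agent.Sga3B.TorusBc

variable {S : Scheme.{u}} {J : Type u} {S' : J → Scheme.{u}}

/-- Tori can be recognised after base change to a family of flat open maps. -/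
theorem isTorus_of_family (f : ∀ j, S' j ⟶ S) (hfl : ∀ j, Flat (f j))
    (hop : ∀ j, IsOpenMap (f j).base) (hs : ∀ s : S, ∃ j, s ∈ Set.range (f j))
    {T : Over S} [GrpObj T] (h : ∀ j, Red.IsTorus (Red.bc (f j) T)) : Red.IsTorus T := by
  classical
  choose X p hp hps hpc hsplit using h
  let q : (∐ X) ⟶ S := Sigma.desc fun j => p j ≫ f j
  have hq1 : Flat q := by
    have : ∀ j, Flat (p j ≫ f j) := fun j => inferInstance
    exact inferInstanceAs (Flat (Sigma.desc fun j => p j ≫ f j))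
  have hι : ∀ j, Sigma.ι X j ≫ q = p j ≫ f j := fun j => Sigma.ι_desc _ _
  have hιa : ∀ j (x : X j), q (Sigma.ι X j x) = f j (p j x) := by
    intro j x
    have := congrArg (fun k => k.base x) (hι j)
    simpa using this
  refine ⟨∐ X, q, ?_, ?_, fun V hV => ?_, fun x => ?_⟩
  · exact hq1
  · apply Surjective.sigmaDesc_of_union_range_eq_univ
    rw [Set.eq_univ_iff_forall]
    intro s
    obtain ⟨j, s', rfl⟩ := hs s
    obtain ⟨x, rfl⟩ := (p j).surjective s'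
    exact Set.mem_iUnion.mpr ⟨j, x, by simp⟩
  · have key : ∀ v : V, ∃ B : Set S, IsOpen B ∧ v.1 ∈ B ∧ B ⊆ V ∧ ∃ W : (∐ X).Opens,
        IsCompact (W : Set ↥(∐ X)) ∧ q.base '' (W : Set ↥(∐ X)) = B := by
      intro v
      obtain ⟨j, s', hs'⟩ := hs v.1
      have hv : s' ∈ (f j) ⁻¹ᵁ V := by change f j s' ∈ V; rw [hs']; exact v.2
      obtain ⟨_, ⟨A, hA, rfl⟩, hsA, hle⟩ := (S' j).isBasis_affineOpens.exists_subset_of_mem_open hv
        ((f j) ⁻¹ᵁ V).2
      obtain ⟨W, hW, hWA⟩ := hpc j A hA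
      refine ⟨(f j).base '' (A : Set (S' j)), hop j _ A.2, ⟨s', hsA, hs'⟩, ?_, (Sigma.ι X j) ''ᵁ W, ?_, ?_⟩
      · rintro _ ⟨a, ha, rfl⟩
        exact hle ha
      · exact hW.image (Sigma.ι X j).continuous
      · rw [← hWA]
        ext s
        constructor
        · rintro ⟨_, ⟨w, hw, rfl⟩, rfl⟩
          exact ⟨_, ⟨w, hw, rfl⟩, (hιa j w).symm⟩
        · rintro ⟨_, ⟨w, hw, rfl⟩, rfl⟩
          exact ⟨_, ⟨w, hw, rfl⟩, hιa j w⟩
    choose B hBo hvB hBV W hW hWB using key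
    obtain ⟨t, ht⟩ := hV.isCompact.elim_finite_subcover B hBo
      (fun x hx => Set.mem_iUnion.mpr ⟨⟨x, hx⟩, hvB ⟨x, hx⟩⟩)
    have e : ((⨆ v ∈ t, W v : (∐ X).Opens) : Set ↥(∐ X)) = ⋃ v ∈ t, (W v : Set ↥(∐ X)) := by simp
    refine ⟨⨆ v ∈ t, W v, ?_, ?_⟩
    · rw [e]
      exact t.isCompact_biUnion fun v _ => hW v
    · rw [e, Set.image_iUnion₂]
      refine Set.Subset.antisymm (Set.iUnion₂_subset fun v _ => ?_) (ht.trans ?_)
      · rw [hWB]; exact hBV v
      · exact Set.iUnion₂_mono fun v _ => (hWB v).symm.subset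
  · obtain ⟨⟨j, y⟩, rfl⟩ := (sigmaMk X).surjective x
    rw [sigmaMk_mk]
    obtain ⟨U, hU, r, hr⟩ := hsplit j y
    let e := (Sigma.ι X j).isoImage U
    refine ⟨(Sigma.ι X j) ''ᵁ U, ⟨y, hU, rfl⟩, r, ?_⟩
    have e1 : ((Sigma.ι X j) ''ᵁ U).ι ≫ q = e.inv ≫ (U.ι ≫ p j) ≫ f j := by
      rw [← Scheme.Hom.isoImage_inv_ι, Category.assoc, Category.assoc, hι, Category.assoc]
    have e2 := TorusAlgClosed.isSplitTorusWith_bc e.inv hr
    refine isSplitTorusWith_of_iso ?_ e2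
    exact BcIso.bcMapIso e.inv (BcIso.bcCompIso (U.ι ≫ p j) (f j) T).symm ≪≫
      (BcIso.bcCompIso e.inv ((U.ι ≫ p j) ≫ f j) T).symm ≪≫ BcIso.bcCongrIso e1.symm T

/-- **Maximal tori can be recognised étale locally on the base**. -/
theorem isMaximalTorus_of_family (f : ∀ j, S' j ⟶ S) (het : ∀ j, Etale (f j))
    (hs : ∀ s : S, ∃ j, s ∈ Set.range (f j)) {T G : Over S} [GrpObj T] [GrpObj G] (i : T ⟶ G)
    (hi : IsMonHom i) (hm : Mono i)
    (h : ∀ j, Red.IsMaximalTorus ((Over.pullback (f j)).map i)) : Red.IsMaximalTorus i := by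
  refine ⟨hi, hm, ?_, fun s => ?_⟩
  · exact isTorus_of_family f (fun j => inferInstance) (fun j => (f j).isOpenMap) hs
      fun j => (h j).2.2.1
  · obtain ⟨j, s', rfl⟩ := hs s
    exact (AlgBc.isMaxTorOver_geomFibre_bc_iff (f j) s').mp ((h j).2.2.2 s')

end Groth.Agent.Sga3B.MT
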