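import Groth.Agent.Sga3B.MT.Overlap
import Groth.Agent.Sga3B.MT.MemOps
import Groth.Agent.Sga3B.MT.Descend
import Groth.Agent.Sga3B.MT.TorusFam
import Groth.Agent.Sga3B.MT.FromSplit
import Groth.Agent.Sga3B.AdCentre

/-!
# Gluing the tori of a regular infinitesimal automorphism

`ξ` is an infinitesimal automorphism of `G` over `R`.  A `Chart` is an étale `R`-algebra `B₁` over
which `ξ` is regular with respect to a splitting.  If the charts cover `Spec R`, `G` has a maximal
torus.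
-/

set_option autoImplicit false
universe u

open CategoryTheory MonoidalCategory CartesianMonoidalCategory MonObj GrpObj AlgebraicGeometry Limits
open TensorProduct
open Groth.Agent.Sga3B.Cell

namespace Groth.Agent.Sga3B.MT

open Groth.Agent.Sga3B Groth.Agent.Sga3B.BcPts Groth.Agent.Sga3B.Parab Groth.Agent.Sga3B.ResAlg
open Groth.Agent.Books.AffBridge

section aff

variable {R : Type u} [CommRing R]

/-- A morphism `Spec C ⟶ Spec B₁` over `Spec R` comes from an algebra homomorphism. -/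
lemma exists_algHom {C B₁ : Type u} [CommRing C] [Algebra R C] [CommRing B₁] [Algebra R B₁]
    {f : Spec (CommRingCat.of B₁) ⟶ Spec (CommRingCat.of R)} (hf : f = f₀ R B₁)
    (a : SpecOver R C ⟶ Over.mk f) :
    ∃ φ : B₁ →ₐ[R] C, a.left = Spec.map (CommRingCat.ofHom φ.toRingHom) := by
  subst hf
  refine ⟨specPreimage R (A := B₁) (B := C) a, ?_⟩
  exact (congrArg (fun z => z.left) (specMap_specPreimage R (A := B₁) (B := C) a)).symm

/-- An affine scheme over `Spec R` is the spectrum of an `R`-algebra. -/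
lemma exists_specOver (C : Type u) [CommRing C] (c : Spec (CommRingCat.of C) ⟶ Spec (CommRingCat.of R)) :
    ∃ _ : Algebra R C, Nonempty (SpecOver R C ≅ aff C c) := by
  let _ : Algebra R C := (Spec.preimage c).hom.toAlgebra
  refine ⟨inferInstance, ⟨Over.isoMk (Iso.refl _) ?_⟩⟩
  change 𝟙 _ ≫ c = Spec.map (Spec.preimage c)
  rw [Spec.map_preimage, Category.id_comp]

end aff

variable {R : Type u} [CommRing R] {G : Over (Spec (CommRingCat.of R))} [GrpObj G]
  {A : Type u} [CommRing A] [Algebra R A] [PtGrp R A]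

/-- An étale chart over which `ξ` is regular with respect to a splitting. -/
structure Chart (Q : GPts G A) (ξ : InfAut R A R) where
  /-- the base of the splitting -/
  B₀ : Type u
  [ring₀ : CommRing B₀]
  [alg₀ : Algebra R B₀]
  /-- the splitting -/
  D : Red.SplitRed (Red.bc (f₀ R B₀) G)
  /-- the base of the root system -/
  b : D.P.Base
  /-- the cell data -/
  F : RCell D.P b R A B₀
  hF : ∀ {B : Type u} [CommRing B] [Algebra R B] (φ : B₀ →ₐ[R] B) (g : Pt R A B)
        (a : SpecOver R B ⟶ Over.mk (f₀ R B₀))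
        (_ : a.left = Spec.map (CommRingCat.ofHom φ.toRingHom)),
        (∃ t : TPt D.M B, g = F.i φ t) ↔ MemAt D.i a (Q.pt B g)
  /-- the étale extension -/
  B₁ : Type u
  [ring₁ : CommRing B₁]
  [alg₁ : Algebra R B₁]
  ψ : B₀ →ₐ[R] B₁
  et₀ : (algebraMap R B₀).Etale
  et₁ : ψ.toRingHom.Etale
  g : Pt R A B₁
  c : D.P.rootSpan ℤ →+ B₁
  y : InfAut R A B₁
  diag : F.IsDiag ψ c y
  reg : ∀ a, IsUnit (c (D.P.rootSpanMem ℤ a))
  eq : InfAut.map (Algebra.ofId R B₁) ξ = InfAut.Ad g y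

attribute [instance] Chart.ring₀ Chart.alg₀ Chart.ring₁ Chart.alg₁

namespace Chart

variable {Q : GPts G A} {ξ : InfAut R A R} (K : Chart Q ξ)

/-- the base of the chart -/
noncomputable abbrev q : Spec (CommRingCat.of K.B₁) ⟶ Spec (CommRingCat.of K.B₀) :=
  Spec.map (CommRingCat.ofHom K.ψ.toRingHom)

/-- the chart as a morphism to `Spec R` -/
noncomputable abbrev f : Spec (CommRingCat.of K.B₁) ⟶ Spec (CommRingCat.of R) := K.q ≫ f₀ R K.B₀

lemma f_eq : K.f = f₀ R K.B₁ := by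
  change Spec.map _ ≫ Spec.map _ = Spec.map _
  rw [← Spec.map_comp, ← CommRingCat.ofHom_comp]
  congr 2
  exact K.ψ.comp_algebraMap

lemma etale_q : Etale K.q := by
  rw [HasRingHomProperty.Spec_iff (P := @Etale)]
  exact K.et₁

lemma etale_f₀ : Etale (f₀ R K.B₀) := by
  rw [HasRingHomProperty.Spec_iff (P := @Etale)]
  exact K.et₀

lemma etale_f : Etale K.f := by
  have := K.etale_q
  have := K.etale_f₀
  infer_instance

/-- the point `g` as a morphism -/
noncomputable def γ : Over.mk K.f ⟶ G :=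
  (Over.homMk (𝟙 _) (by
    change 𝟙 _ ≫ Spec.map (CommRingCat.ofHom (algebraMap R K.B₁)) = K.f
    rw [K.f_eq, Category.id_comp]) : Over.mk K.f ⟶ SpecOver R K.B₁) ≫ Q.pt K.B₁ K.g

lemma comp_γ {B : Type u} [CommRing B] [Algebra R B] (φ : K.B₁ →ₐ[R] B)
    (a : SpecOver R B ⟶ Over.mk K.f) (ha : a.left = Spec.map (CommRingCat.ofHom φ.toRingHom)) :
    a ≫ K.γ = Q.pt B (Pt.map φ K.g) := by
  rw [Q.nat, γ, ← Category.assoc]
  congr 1
  ext1
  change a.left ≫ 𝟙 _ = Spec.map _
  rw [Category.comp_id, ha]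

/-- the torus of the chart -/
noncomputable def t : Red.bc K.q K.D.T ⟶ Red.bc K.f G := bcSub K.q K.D.i ≫ cj K.γ

instance : IsClosedImmersion K.t.left := by
  have : IsClosedImmersion K.D.i.left := AdCentre.isClosedImmersion_torus K.D
  have : IsClosedImmersion (bcSub K.q K.D.i).left := isClosedImmersion_bcSub _ _
  exact isClosedImmersion_comp_cj _ _

lemma isMaximalTorus : Red.IsMaximalTorus K.t := by
  have := K.etale_q
  exact isMaximalTorus_comp_cj _ _ (isMaximalTorus_bcSub K.q K.D.i K.D.maximalTorus)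

lemma memAt_iff {B : Type u} [CommRing B] [Algebra R B] (φ : K.B₁ →ₐ[R] B)
    (a : SpecOver R B ⟶ Over.mk K.f) (ha : a.left = Spec.map (CommRingCat.ofHom φ.toRingHom))
    (h : Pt R A B) :
    MemAt K.t a (Q.pt B h) ↔ K.F.TorAt (φ.comp K.ψ) (Pt.map φ K.g) h := by
  have e : Spec.map (CommRingCat.ofHom φ.toRingHom) ≫ K.q =
      Spec.map (CommRingCat.ofHom (φ.comp K.ψ).toRingHom) := by
    rw [← Spec.map_comp, ← CommRingCat.ofHom_comp]
    rfl
  rw [t, memAt_comp_cj, memAt_bcSub, K.comp_γ φ a ha, ← map_inv, ← map_mul, ← map_mul,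
    ← K.hF (φ.comp K.ψ) _ _ ((congrArg (· ≫ K.q) ha).trans e)]
  refine exists_congr fun s => ⟨fun h1 => ?_, fun h1 => ?_⟩
  · rw [← h1]
    group
  · rw [h1]
    group

lemma map_ξ {B : Type u} [CommRing B] [Algebra R B] (φ : K.B₁ →ₐ[R] B) :
    InfAut.Ad (Pt.map φ K.g) (InfAut.map φ K.y) = InfAut.map (Algebra.ofId R B) ξ := by
  have e : φ.comp (Algebra.ofId R K.B₁) = Algebra.ofId R B :=
    AlgHom.ext fun r => φ.commutes r
  rw [← InfAut.map_Ad, ← K.eq, InfAut.map_map, e]

/-- The tori of two charts agree on the overlaps. -/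
lemma torAt_of_torAt [Algebra.Smooth R A] (hdom : GeomDom R A) (K K' : Chart Q ξ) {B : Type u}
    [CommRing B] [Algebra R B] (φ : K.B₁ →ₐ[R] B) (φ' : K'.B₁ →ₐ[R] B) {h : Pt R A B}
    (hk : K'.F.TorAt (φ'.comp K'.ψ) (Pt.map φ' K'.g) h) :
    K.F.TorAt (φ.comp K.ψ) (Pt.map φ K.g) h := by
  refine RCell.torAt_of_torAt K.F K'.F hdom _ _ (K.diag.fix_map φ) (fun a => ?_)
    (K'.diag.fix_map φ') ((K.map_ξ φ).trans (K'.map_ξ φ').symm) hk
  exact (K.reg a).map φ

end Chart

/-- **Existence of a maximal torus from charts.** -/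
theorem exists_maximalTorus_of_charts (Q : GPts G A) (ξ : InfAut R A R) [Algebra.Smooth R A]
    (hdom : GeomDom R A) {J : Type u} (K : J → Chart Q ξ)
    (hcov : ∀ s : Spec (CommRingCat.of R), ∃ j, s ∈ Set.range (K j).f) :
    ∃ (T : Over (Spec (CommRingCat.of R))) (_ : GrpObj T) (t : T ⟶ G),
      Red.IsMaximalTorus t ∧ IsClosedImmersion t.left := by
  have hmt := fun j => (K j).isMaximalTorus
  have hmon : ∀ j, IsMonHom (K j).t := fun j => (hmt j).1
  have het : ∀ j, Etale (K j).f := fun j => (K j).etale_f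
  have hc : Compat (fun j => (K j).t) := by
    intro i j X a b g H
    have : Mono (K j).t := (hmt j).2.1
    refine MemAt.of_aff b g fun C _ c x => ?_
    obtain ⟨_, ⟨e⟩⟩ := exists_specOver C c
    have H' : MemAt (K i).t (e.hom ≫ x ≫ a) (e.hom ≫ x ≫ g) := (H.comp x).comp e.hom
    obtain ⟨φ, hφ⟩ := exists_algHom (K i).f_eq (e.hom ≫ x ≫ a)
    obtain ⟨φ', hφ'⟩ := exists_algHom (K j).f_eq (e.hom ≫ x ≫ b)
    obtain ⟨h, hh⟩ := (Q.pt C).surjective (e.hom ≫ x ≫ g)
    rw [← hh, (K i).memAt_iff φ _ hφ] at H'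
    have H2 : MemAt (K j).t (e.hom ≫ x ≫ b) (e.hom ≫ x ≫ g) := by
      rw [← hh, (K j).memAt_iff φ' _ hφ']
      exact Chart.torAt_of_torAt hdom (K j) (K i) φ' φ H'
    have H3 := H2.comp e.inv
    rwa [Iso.inv_hom_id_assoc, Iso.inv_hom_id_assoc] at H3
  obtain ⟨T, hT, t, ht, htc, hcomp⟩ := exists_closed_subgroup_of_family (f := fun j => (K j).f)
    ⟨fun j => inferInstance, fun j => inferInstance, hcov⟩ (fun j => (K j).t) hc
  have hm : Mono t := Sga3C.ClosedSub.mono_of_left t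
  refine ⟨T, hT, t, isMaximalTorus_of_family (fun j => (K j).f) het hcov t ht hm fun j => ?_, htc⟩
  obtain ⟨e, he⟩ := hcomp j
  refine AlgBc.isMaximalTorus_of_arrow e (Iso.refl _) ?_ (hmt j)
  rw [he]
  exact Category.comp_id _

end Groth.Agent.Sga3B.MT
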