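import Groth.Agent.Sga3B.MT.InfMul

/-!
# The Lie algebra of a split group in cell coordinates

`D.lie φ z h = ∏ u_a(ε z_a) · (1 + ε h)` are all the elements of the kernel of `G(B[ε]) → G(B)`.
-/

set_option autoImplicit false
set_option linter.unusedSectionVars false
universe u

open TensorProduct TrivSqZeroExt
open Groth.Agent.Sga3B.Cell

namespace Groth.Agent.Sga3B.MT

/-- the group structure on torus points -/
abbrev tptGrp (M : Type) [AddCommGroup M] (B : Type u) [CommRing B] : CommGroup (TPt M B) :=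
  inferInstance

/-- shortcut (the default search fails for dual numbers) -/
instance instGrpTPtEps (M : Type) [AddCommGroup M] (B : Type u) [CommRing B] :
    CommGroup (TPt M (Eps B)) := tptGrp M (Eps B)

variable {idx M : Type} [Fintype idx] [AddCommGroup M] [Module.Free ℤ M] [Module.Finite ℤ M]
variable {P : RootPairing idx ℤ M (Module.Dual ℤ M)} {b : P.Base}
    {R A B₀ : Type u} [CommRing R] [CommRing A] [Algebra R A] [CommRing B₀] [Algebra R B₀]
    [PtGrp R A]

namespace RCell

variable (D : RCell P b R A B₀)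
variable {B C : Type u} [CommRing B] [Algebra R B] [CommRing C] [Algebra R C] (φ : B₀ →ₐ[R] B)

/-- the product of root group elements over all roots -/
noncomputable def prodU (x : idx → B) : Pt R A B :=
  ((allList b).map (fun a => D.uu a φ (x a))).prod

lemma isCell_def (g : Pt R A B) : D.IsCell φ g ↔ ∃ (x : idx → B) (t : TPt M B), g = D.prodU φ x * D.i φ t :=
  Iff.rfl

@[simp] lemma uu_zero' (a : idx) : D.uu a φ (0 : B) = 1 := by
  have h := D.uu_add a φ (0 : B) 0
  rw [add_zero] at h
  exact (mul_eq_left.mp h.symm)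

lemma uu_neg (a : idx) (x : B) : D.uu a φ (-x) = (D.uu a φ x)⁻¹ := by
  rw [eq_inv_iff_mul_eq_one, ← D.uu_add, neg_add_cancel, D.uu_zero']

lemma prodU_nat (ψ : B →ₐ[R] C) (x : idx → B) :
    Pt.map ψ (D.prodU φ x) = D.prodU (ψ.comp φ) (fun a => ψ (x a)) := by
  unfold prodU
  rw [Pt.map_list_prod, List.map_map]
  congr 1
  apply List.map_congr_left
  intro a _
  simp [D.uu_nat]

@[simp] lemma prodU_zero : D.prodU φ (fun _ => (0 : B)) = 1 := by
  unfold prodU
  apply List.prod_eq_one
  intro y hy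
  obtain ⟨a, _, rfl⟩ := List.mem_map.mp hy
  simp

lemma prodU_single [DecidableEq idx] (a : idx) (x : B) : D.prodU φ (Pi.single a x) = D.uu a φ x := by
  unfold prodU
  have key : ∀ l : List idx, l.Nodup → (l.map (fun c => D.uu c φ ((Pi.single a x : idx → B) c))).prod =
      if a ∈ l then D.uu a φ x else 1 := by
    intro l hl
    induction l with
    | nil => simp
    | cons c l ih =>
      rw [List.nodup_cons] at hl
      rw [List.map_cons, List.prod_cons, ih hl.2]
      by_cases hca : c = a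
      · subst hca
        simp [hl.1]
      · have hca' : a ≠ c := Ne.symm hca
        simp [hca']
  rw [key _ (allList_nodup b), if_pos (mem_allList b a)]

lemma prodU_inj {x x' : idx → B} {t t' : TPt M B}
    (h : D.prodU φ x * D.i φ t = D.prodU φ x' * D.i φ t') : x = x' ∧ t = t' :=
  D.cell_inj φ x x' t t' h

lemma uu_inj (a : idx) : Function.Injective (D.uu a φ (B := B)) := by
  classical
  intro x y h
  have h2 : D.prodU φ (Pi.single a x) * D.i φ 1 = D.prodU φ (Pi.single a y) * D.i φ 1 := by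
    rw [prodU_single, prodU_single, h]
  have h3 := congrFun (D.prodU_inj φ h2).1 a
  simpa using h3

lemma conj_prodU (t : TPt M B) (x : idx → B) :
    D.i φ t * D.prodU φ x * (D.i φ t)⁻¹ = D.prodU φ (fun a => TPt.ch (P.root a) t * x a) := by
  unfold prodU
  induction allList b with
  | nil => simp
  | cons a l ih =>
    rw [List.map_cons, List.prod_cons, List.map_cons, List.prod_cons, ← ih, ← D.rel]
    group

lemma i_comm (s t : TPt M B) : D.i φ s * D.i φ t = D.i φ t * D.i φ s := by
  rw [← map_mul, ← map_mul]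
  congr 1
  exact mul_comm s t

/-- A point which is in the big cell modulo an ideal in the Jacobson radical is in the big cell. -/
lemma isCell_of_map (ψ : B →ₐ[R] C) (hψ : Function.Surjective ψ)
    (hu : ∀ z : B, IsUnit (ψ z) → IsUnit z) (g : Pt R A B) (h : D.IsCell (ψ.comp φ) (Pt.map ψ g)) :
    D.IsCell φ g := by
  rw [isCell_iff] at h ⊢
  have e : (evp (ψ.comp φ) (Pt.map ψ g)).toRingHom = ψ.toRingHom.comp (evp φ g).toRingHom := by
    apply RingHom.ext
    intro z
    exact evp_comp_apply ψ φ g z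
  rw [e, ← Ideal.map_map] at h
  have h1 : (1 : C) ∈ (D.cellIdeal.map (evp φ g).toRingHom).map ψ.toRingHom := by
    rw [h]; trivial
  rw [Ideal.mem_map_iff_of_surjective ψ.toRingHom hψ] at h1
  obtain ⟨z, hz, hz1⟩ := h1
  have : IsUnit z := hu z (by
    have : ψ z = 1 := hz1
    rw [this]; exact isUnit_one)
  exact Ideal.eq_top_of_isUnit_mem _ hz this

/-- **infinitesimal cell** -/
theorem exists_cell_of_map_eq_one (ψ : B →ₐ[R] C) (hψ : Function.Surjective ψ)
    (hu : ∀ z : B, IsUnit (ψ z) → IsUnit z) (g : Pt R A B) (h : Pt.map ψ g = 1) :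
    ∃ (x : idx → B) (t : TPt M B), g = D.prodU φ x * D.i φ t ∧ (∀ a, ψ (x a) = 0) ∧
      TPt.map ψ t = 1 := by
  obtain ⟨x, t, hxt⟩ := D.isCell_of_map φ ψ hψ hu g ⟨fun _ => 0, 1, by
    rw [h]
    have := D.prodU_zero (ψ.comp φ)
    unfold prodU at this
    rw [this, map_one, one_mul]⟩
  refine ⟨x, t, hxt, ?_⟩
  have h2 : D.prodU (ψ.comp φ) (fun a => ψ (x a)) * D.i (ψ.comp φ) (TPt.map ψ t) =
      D.prodU (ψ.comp φ) (fun _ => 0) * D.i (ψ.comp φ) 1 := by
    rw [← D.prodU_nat, ← D.i_nat, ← Pt.map_mul, D.prodU_zero, map_one, one_mul, ← h]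
    congr 1
    exact hxt.symm
  obtain ⟨h3, h4⟩ := D.prodU_inj _ h2
  exact ⟨fun a => congrFun h3 a, h4⟩

/-- the infinitesimal torus point `1 + ε h` -/
noncomputable def lieT (h : M →+ B) : TPt M (Eps B) :=
  MonoidHom.toHomUnits
    { toFun := fun m => (1 + inr (h m.toAdd) : Eps B)
      map_one' := by simp
      map_mul' := fun m n => by
        ext
        · simp
        · simp [add_comm] }

lemma ch_lieT (h : M →+ B) (m : M) : TPt.ch m (lieT h) = (1 + inr (h m) : Eps B) := rfl

lemma lieT_add (h h' : M →+ B) : lieT (h + h') = lieT h * lieT h' := by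
  apply TPt.ext_ch
  intro m
  rw [TPt.ch_mul, ch_lieT, ch_lieT, ch_lieT]
  ext
  · simp
  · simp [add_comm]

lemma lieT_zero : lieT (0 : M →+ B) = 1 := by
  apply TPt.ext_ch
  intro m
  rw [ch_lieT, TPt.ch_one]
  simp

lemma lieT_inj {h h' : M →+ B} (e : lieT h = lieT h') : h = h' := by
  ext m
  have := congrArg (fun t => (TPt.ch m t).snd) e
  simpa [ch_lieT] using this

lemma map_lieT (ψ : B →ₐ[R] C) (h : M →+ B) :
    TPt.map (eMap ψ) (lieT h) = lieT ((ψ : B →+ C).comp h) := by
  apply TPt.ext_ch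
  intro m
  rw [TPt.ch_map, ch_lieT, ch_lieT]
  ext <;> simp

lemma exists_lieT {t : TPt M (Eps B)} (ht : TPt.map (eFst R B) t = 1) : ∃ h : M →+ B, t = lieT h := by
  have h1 : ∀ m : M, (TPt.ch m t).fst = 1 := by
    intro m
    have := congrArg (TPt.ch m) ht
    simpa using this
  refine ⟨{ toFun := fun m => (TPt.ch m t).snd, map_zero' := by simp, map_add' := ?_ }, ?_⟩
  · intro m n
    rw [TPt.ch_add, DualNumber.snd_mul, h1, h1]
    ring
  · apply TPt.ext_ch
    intro m
    rw [ch_lieT]
    ext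
    · simp [h1]
    · simp

/-- The element of the Lie algebra with coordinates `z`, `h`. -/
noncomputable def lie (z : idx → B) (h : M →+ B) : Pt R A (Eps B) :=
  D.prodU ((eInl R B).comp φ) (fun a => inr (z a)) * D.i ((eInl R B).comp φ) (lieT h)

lemma isKer_uu (a : idx) (z : B) : IsKer (D.uu a ((eInl R B).comp φ) (inr z : Eps B)) := by
  unfold IsKer
  rw [D.uu_nat]
  have : (eFst R B) (inr z : Eps B) = 0 := by simp
  rw [this, uu_zero']

lemma isKer_i (h : M →+ B) : IsKer (D.i ((eInl R B).comp φ) (lieT h)) := by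
  unfold IsKer
  rw [D.i_nat]
  have : TPt.map (eFst R B) (lieT h) = 1 := by
    apply TPt.ext_ch
    intro m
    rw [TPt.ch_map, ch_lieT]
    simp
  rw [this, map_one]

lemma isKer_prod (L : List idx) (z : idx → B) :
    IsKer ((L.map (fun a => D.uu a ((eInl R B).comp φ) (inr (z a) : Eps B))).prod) := by
  induction L with
  | nil => exact isKer_one
  | cons a l ih =>
    rw [List.map_cons, List.prod_cons]
    exact (D.isKer_uu φ a _).mul ih

lemma isKer_lie (z : idx → B) (h : M →+ B) : IsKer (D.lie φ z h) :=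
  (D.isKer_prod φ _ z).mul (D.isKer_i φ h)

lemma prod_add (L : List idx) (z z' : idx → B) :
    (L.map (fun a => D.uu a ((eInl R B).comp φ) (inr ((z + z') a) : Eps B))).prod =
      (L.map (fun a => D.uu a ((eInl R B).comp φ) (inr (z a) : Eps B))).prod *
      (L.map (fun a => D.uu a ((eInl R B).comp φ) (inr (z' a) : Eps B))).prod := by
  induction L with
  | nil => simp
  | cons a l ih =>
    simp only [List.map_cons, List.prod_cons, Pi.add_apply, inr_add, D.uu_add]
    simp only [Pi.add_apply, inr_add, D.uu_add] at ih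
    rw [ih]
    have h1 := (D.isKer_uu φ a (z' a)).commute (D.isKer_prod φ l z)
    calc _ = D.uu a ((eInl R B).comp φ) (inr (z a)) * (D.uu a ((eInl R B).comp φ) (inr (z' a)) *
          (l.map (fun a => D.uu a ((eInl R B).comp φ) (inr (z a) : Eps B))).prod) *
          (l.map (fun a => D.uu a ((eInl R B).comp φ) (inr (z' a) : Eps B))).prod := by
            simp only [mul_assoc]
      _ = _ := by rw [h1]; simp only [mul_assoc]

lemma lie_add (z z' : idx → B) (h h' : M →+ B) :
    D.lie φ (z + z') (h + h') = D.lie φ z h * D.lie φ z' h' := by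
  unfold lie prodU
  rw [D.prod_add, lieT_add, map_mul]
  have h1 := (D.isKer_prod φ (allList b) z').commute (D.isKer_i φ h)
  calc _ = (List.map (fun a => D.uu a ((eInl R B).comp φ) (inr (z a) : Eps B)) (allList b)).prod *
        ((List.map (fun a => D.uu a ((eInl R B).comp φ) (inr (z' a) : Eps B)) (allList b)).prod *
        D.i ((eInl R B).comp φ) (lieT h)) * D.i ((eInl R B).comp φ) (lieT h') := by
          simp only [mul_assoc]
    _ = _ := by rw [h1]; simp only [mul_assoc]

lemma lie_zero : D.lie φ (0 : idx → B) 0 = 1 := by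
  unfold lie
  rw [lieT_zero, map_one, mul_one]
  have : (fun a => (inr ((0 : idx → B) a) : Eps B)) = fun _ => 0 := by
    funext a; simp
  rw [this, prodU_zero]

lemma lie_inj {z z' : idx → B} {h h' : M →+ B} (e : D.lie φ z h = D.lie φ z' h') :
    z = z' ∧ h = h' := by
  obtain ⟨h1, h2⟩ := D.prodU_inj _ e
  refine ⟨?_, lieT_inj h2⟩
  funext a
  have := congrArg snd (congrFun h1 a)
  simpa using this

lemma exists_lie (v : Pt R A (Eps B)) (hv : IsKer v) :
    ∃ (z : idx → B) (h : M →+ B), v = D.lie φ z h := by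
  obtain ⟨x, t, h1, h2, h3⟩ := D.exists_cell_of_map_eq_one ((eInl R B).comp φ) (eFst R B)
    (fun z => ⟨inl z, by simp⟩) (fun z hz => by
      rw [TrivSqZeroExt.isUnit_iff_isUnit_fst]; exact hz) v hv
  obtain ⟨h, rfl⟩ := exists_lieT h3
  refine ⟨fun a => (x a).snd, h, ?_⟩
  rw [h1]
  unfold lie
  congr 2
  funext a
  ext
  · simpa using h2 a
  · simp

lemma lie_nat (ψ : B →ₐ[R] C) (z : idx → B) (h : M →+ B) :
    Pt.map (eMap ψ) (D.lie φ z h) =
      D.lie (ψ.comp φ) (fun a => ψ (z a)) ((ψ : B →+ C).comp h) := by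
  unfold lie
  rw [Pt.map_mul, D.prodU_nat, D.i_nat, map_lieT]
  have e : (eMap ψ).comp ((eInl R B).comp φ) = (eInl R C).comp (ψ.comp φ) := by
    rw [← AlgHom.comp_assoc, eMap_comp_eInl, AlgHom.comp_assoc]
  rw [e]
  congr 2
  funext a
  ext <;> simp

/-- action of the torus on the Lie algebra -/
lemma conj_lie (s : TPt M B) (z : idx → B) (h : M →+ B) :
    Pt.map (eInl R B) (D.i φ s) * D.lie φ z h * (Pt.map (eInl R B) (D.i φ s))⁻¹ =
      D.lie φ (fun a => TPt.ch (P.root a) s * z a) h := by
  unfold lie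
  rw [D.i_nat]
  have h1 := D.conj_prodU ((eInl R B).comp φ) (TPt.map (eInl R B) s) (fun a => inr (z a))
  have h2 := D.i_comm ((eInl R B).comp φ) (TPt.map (eInl R B) s) (lieT h)
  have h3 : (fun a => TPt.ch (P.root a) (TPt.map (eInl R B) s) * (inr (z a) : Eps B)) =
      fun a => inr (TPt.ch (P.root a) s * z a) := by
    funext a
    rw [TPt.ch_map]
    ext <;> simp [mul_comm]
  rw [h3] at h1
  rw [← h1]
  calc _ = D.i ((eInl R B).comp φ) (TPt.map (eInl R B) s) *
      D.prodU ((eInl R B).comp φ) (fun a => inr (z a)) * (D.i ((eInl R B).comp φ) (lieT h) *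
        (D.i ((eInl R B).comp φ) (TPt.map (eInl R B) s))⁻¹) := by simp only [mul_assoc]
    _ = _ := by
      have h4 : D.i ((eInl R B).comp φ) (lieT h) *
        (D.i ((eInl R B).comp φ) (TPt.map (eInl R B) s))⁻¹ =
        (D.i ((eInl R B).comp φ) (TPt.map (eInl R B) s))⁻¹ * D.i ((eInl R B).comp φ) (lieT h) := by
        rw [mul_inv_eq_iff_eq_mul, mul_assoc, ← h2, inv_mul_cancel_left]
      rw [h4]
      simp only [mul_assoc]

lemma lie_inv (z : idx → B) (h : M →+ B) : (D.lie φ z h)⁻¹ = D.lie φ (-z) (-h) := by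
  rw [inv_eq_iff_mul_eq_one, ← lie_add, add_neg_cancel, add_neg_cancel, lie_zero]

lemma lie_scale (c : B) (z : idx → B) (h : M →+ B) :
    Pt.map (eScale R c) (D.lie φ z h) =
      D.lie φ (fun a => c * z a) ((AddMonoidHom.mulLeft c).comp h) := by
  unfold lie
  have e : (eScale R c).comp ((eInl R B).comp φ) = (eInl R B).comp φ := by
    ext x <;> simp
  have e1 : TPt.map (eScale R c) (lieT h) = lieT ((AddMonoidHom.mulLeft c).comp h) := by
    apply TPt.ext_ch
    intro m
    rw [TPt.ch_map, ch_lieT, ch_lieT]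
    ext <;> simp
  have e2 : (fun a => (eScale R c) (inr (z a) : Eps B)) = fun a => inr (c * z a) := by
    funext a
    ext <;> simp
  rw [Pt.map_mul, D.prodU_nat, D.i_nat, e, e1, e2]

end RCell

end Groth.Agent.Sga3B.MT
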