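import Groth.Agent.Sga3B.MT.Defs2

/-!
# Infinitesimal points of an affine group functor

`mul_hom_apply`: if the "differences with the unit" of `g` and `h` multiply to zero, then
`(g h)(f) = g(f) + h(f) - e(f)`; in particular `g` and `h` commute.
Points of `G(B[ε])` in the kernel of `G(B[ε]) → G(B)`; the sum of points with the same reduction;
cocycles attached to infinitesimal automorphisms.
-/

set_option autoImplicit false
set_option linter.unusedSectionVars false
universe u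

open TensorProduct TrivSqZeroExt
open Groth.Agent.Sga3B.Cell

namespace Groth.Agent.Sga3B.MT

section InfMul

variable {R A : Type u} [CommRing R] [CommRing A] [Algebra R A] [PtGrp R A]

/-- the unit section -/
noncomputable def ez (R A : Type u) [CommRing R] [CommRing A] [Algebra R A] [PtGrp R A] : A →ₐ[R] R :=
  (1 : Pt R A R).hom

lemma one_hom_apply {B : Type u} [CommRing B] [Algebra R B] (f : A) :
    (1 : Pt R A B).hom f = algebraMap R B (ez R A f) := by
  have h := Pt.map_one (A := A) (Algebra.ofId R B)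
  exact (congrArg (fun k : Pt R A B => k.hom f) h).symm

/-- the ideal of pairs of infinitesimals with product zero -/
noncomputable def annI (R A : Type u) [CommRing R] [CommRing A] [Algebra R A] [PtGrp R A] :
    Ideal (A ⊗[R] A) :=
  Ideal.span (Set.range fun p : A × A =>
    (p.1 - algebraMap R A (ez R A p.1)) ⊗ₜ[R] (p.2 - algebraMap R A (ez R A p.2)))

/-- first projection `A ⊗ A → A` -/
noncomputable def prj₁ (R A : Type u) [CommRing R] [CommRing A] [Algebra R A] [PtGrp R A] :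
    A ⊗[R] A →ₐ[R] A :=
  Algebra.TensorProduct.lift (AlgHom.id R A) ((Algebra.ofId R A).comp (ez R A))
    (fun _ _ => Commute.all _ _)

/-- second projection `A ⊗ A → A` -/
noncomputable def prj₂ (R A : Type u) [CommRing R] [CommRing A] [Algebra R A] [PtGrp R A] :
    A ⊗[R] A →ₐ[R] A :=
  Algebra.TensorProduct.lift ((Algebra.ofId R A).comp (ez R A)) (AlgHom.id R A)
    (fun _ _ => Commute.all _ _)

lemma prj₁_tmul (f f' : A) : prj₁ R A (f ⊗ₜ f') = f * algebraMap R A (ez R A f') := by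
  simp [prj₁, Algebra.ofId_apply]

lemma prj₂_tmul (f f' : A) : prj₂ R A (f ⊗ₜ f') = algebraMap R A (ez R A f) * f' := by
  simp [prj₂, Algebra.ofId_apply]

lemma ez_algebraMap (r : R) : ez R A (algebraMap R A r) = r := by
  simp

lemma mem_annI_of (z : A ⊗[R] A) :
    z - (prj₁ R A z) ⊗ₜ[R] 1 - 1 ⊗ₜ[R] (prj₂ R A z) +
      algebraMap R (A ⊗[R] A) (ez R A (prj₁ R A z)) ∈ annI R A := by
  induction z using TensorProduct.induction_on with
  | zero => simp
  | tmul f f' =>
    have h1 : f ⊗ₜ[R] f' - (prj₁ R A (f ⊗ₜ f')) ⊗ₜ[R] 1 - 1 ⊗ₜ[R] (prj₂ R A (f ⊗ₜ f')) +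
        algebraMap R (A ⊗[R] A) (ez R A (prj₁ R A (f ⊗ₜ f'))) =
        (f - algebraMap R A (ez R A f)) ⊗ₜ[R] (f' - algebraMap R A (ez R A f')) := by
      rw [prj₁_tmul, prj₂_tmul, map_mul, ez_algebraMap, TensorProduct.sub_tmul,
        TensorProduct.tmul_sub, TensorProduct.tmul_sub]
      have e1 : (f * algebraMap R A (ez R A f')) ⊗ₜ[R] (1 : A) = f ⊗ₜ[R] algebraMap R A (ez R A f') := by
        rw [mul_comm, ← Algebra.smul_def, TensorProduct.smul_tmul, Algebra.algebraMap_eq_smul_one]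
      have e2 : (1 : A) ⊗ₜ[R] (algebraMap R A (ez R A f) * f') =
          (algebraMap R A (ez R A f)) ⊗ₜ[R] f' := by
        rw [← Algebra.smul_def, ← TensorProduct.smul_tmul, Algebra.algebraMap_eq_smul_one]
      have e3 : algebraMap R (A ⊗[R] A) (ez R A f * ez R A f') =
          (algebraMap R A (ez R A f)) ⊗ₜ[R] (algebraMap R A (ez R A f')) := by
        rw [Algebra.TensorProduct.algebraMap_apply, Algebra.algebraMap_eq_smul_one,
          Algebra.algebraMap_eq_smul_one (ez R A f), Algebra.algebraMap_eq_smul_one (ez R A f'),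
          TensorProduct.tmul_smul, TensorProduct.smul_tmul', smul_smul, mul_comm]
      rw [e1, e2, e3]
      abel
    rw [h1]
    exact Ideal.subset_span ⟨(f, f'), rfl⟩
  | add x y hx hy =>
    have := (annI R A).add_mem hx hy
    convert this using 1
    simp only [map_add, TensorProduct.add_tmul, TensorProduct.tmul_add]
    abel

/-- **Product of orthogonal infinitesimal points.** -/
theorem mul_hom_apply {B : Type u} [CommRing B] [Algebra R B] (g h : Pt R A B)
    (hgh : ∀ f f' : A, (g.hom f - algebraMap R B (ez R A f)) *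
      (h.hom f' - algebraMap R B (ez R A f')) = 0) (f : A) :
    (g * h).hom f = g.hom f + h.hom f - algebraMap R B (ez R A f) := by
  let U := (A ⊗[R] A) ⧸ annI R A
  let q : A ⊗[R] A →ₐ[R] U := Ideal.Quotient.mkₐ R (annI R A)
  have hq : ∀ z, q z = 0 ↔ z ∈ annI R A := fun z => Ideal.Quotient.eq_zero_iff_mem
  let gU : Pt R A U := Pt.mk (q.comp Algebra.TensorProduct.includeLeft)
  let hU : Pt R A U := Pt.mk (q.comp Algebra.TensorProduct.includeRight)
  -- the two projections of `U`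
  let p₁ : U →ₐ[R] A := Ideal.Quotient.liftₐ _ (prj₁ R A) (by
    intro z hz
    refine Submodule.span_induction (p := fun z _ => prj₁ R A z = 0) ?_ (map_zero _) ?_ ?_ hz
    · rintro _ ⟨p, rfl⟩
      rw [prj₁_tmul, map_sub, ez_algebraMap, sub_self, map_zero, mul_zero]
    · intro x y _ _ hx hy
      rw [map_add, hx, hy, add_zero]
    · intro a x _ hx
      rw [smul_eq_mul, map_mul, hx, mul_zero])
  let p₂ : U →ₐ[R] A := Ideal.Quotient.liftₐ _ (prj₂ R A) (by
    intro z hz
    refine Submodule.span_induction (p := fun z _ => prj₂ R A z = 0) ?_ (map_zero _) ?_ ?_ hz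
    · rintro _ ⟨p, rfl⟩
      rw [prj₂_tmul, map_sub, ez_algebraMap, sub_self, map_zero, zero_mul]
    · intro x y _ _ hx hy
      rw [map_add, hx, hy, add_zero]
    · intro a x _ hx
      rw [smul_eq_mul, map_mul, hx, mul_zero])
  have hp₁ : ∀ z, p₁ (q z) = prj₁ R A z := fun z => rfl
  have hp₂ : ∀ z, p₂ (q z) = prj₂ R A z := fun z => rfl
  have hinj : ∀ x y : U, p₁ x = p₁ y → p₂ x = p₂ y → x = y := by
    intro x y h1 h2
    obtain ⟨x, rfl⟩ := Ideal.Quotient.mk_surjective x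
    obtain ⟨y, rfl⟩ := Ideal.Quotient.mk_surjective y
    change q x = q y
    have h1' : prj₁ R A x = prj₁ R A y := h1
    have h2' : prj₂ R A x = prj₂ R A y := h2
    rw [← sub_eq_zero, ← map_sub, hq]
    have := mem_annI_of (x - y)
    rw [map_sub, map_sub, h1', h2', sub_self, sub_self, TensorProduct.zero_tmul,
      TensorProduct.tmul_zero, map_zero, map_zero, sub_zero, sub_zero, add_zero] at this
    exact this
  -- the sum point
  have hsum : ∀ f : A, p₁ ((gU * hU).hom f) = f ∧ p₂ ((gU * hU).hom f) = f := by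
    intro f
    have a1 : Pt.map p₁ gU = Pt.mk (AlgHom.id R A) := by
      apply Pt.ext; intro f
      change prj₁ R A (f ⊗ₜ 1) = f
      rw [prj₁_tmul, map_one, map_one, mul_one]
    have a2 : Pt.map p₁ hU = 1 := by
      apply Pt.ext; intro f
      rw [one_hom_apply]
      change prj₁ R A (1 ⊗ₜ f) = _
      rw [prj₁_tmul, one_mul]
    have b1 : Pt.map p₂ gU = 1 := by
      apply Pt.ext; intro f
      rw [one_hom_apply]
      change prj₂ R A (f ⊗ₜ 1) = _
      rw [prj₂_tmul, mul_one]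
    have b2 : Pt.map p₂ hU = Pt.mk (AlgHom.id R A) := by
      apply Pt.ext; intro f
      change prj₂ R A (1 ⊗ₜ f) = f
      rw [prj₂_tmul, map_one, map_one, one_mul]
    constructor
    · have h1 : Pt.map p₁ (gU * hU) = Pt.mk (AlgHom.id R A) := by
        rw [Pt.map_mul, a1, a2, mul_one]
      exact congrArg (fun k : Pt R A A => k.hom f) h1
    · have h1 : Pt.map p₂ (gU * hU) = Pt.mk (AlgHom.id R A) := by
        rw [Pt.map_mul, b1, b2, one_mul]
      exact congrArg (fun k : Pt R A A => k.hom f) h1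
  have hmul : (gU * hU).hom f = gU.hom f + hU.hom f - algebraMap R U (ez R A f) := by
    apply hinj
    · rw [(hsum f).1, map_sub, map_add]
      change f = prj₁ R A (f ⊗ₜ 1) + prj₁ R A (1 ⊗ₜ f) - _
      rw [prj₁_tmul, prj₁_tmul, map_one, map_one, AlgHom.commutes]
      ring
    · rw [(hsum f).2, map_sub, map_add]
      change f = prj₂ R A (f ⊗ₜ 1) + prj₂ R A (1 ⊗ₜ f) - _
      rw [prj₂_tmul, prj₂_tmul, map_one, map_one, AlgHom.commutes]
      ring
  -- specialise
  let l : U →ₐ[R] B := Ideal.Quotient.liftₐ _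
    (Algebra.TensorProduct.lift g.hom h.hom (fun _ _ => Commute.all _ _)) (by
      intro z hz
      refine Submodule.span_induction (p := fun z _ =>
        (Algebra.TensorProduct.lift g.hom h.hom (fun _ _ => Commute.all _ _) :
          A ⊗[R] A →ₐ[R] B) z = 0) ?_ (map_zero _) ?_ ?_ hz
      · rintro _ ⟨p, rfl⟩
        rw [Algebra.TensorProduct.lift_tmul, map_sub, map_sub, AlgHom.commutes, AlgHom.commutes]
        exact hgh _ _
      · intro x y _ _ hx hy
        rw [map_add, hx, hy, add_zero]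
      · intro a x _ hx
        rw [smul_eq_mul, map_mul, hx, mul_zero])
  have hl : ∀ z, l (q z) = (Algebra.TensorProduct.lift g.hom h.hom (fun _ _ => Commute.all _ _) :
          A ⊗[R] A →ₐ[R] B) z := fun z => rfl
  have hg : Pt.map l gU = g := by
    apply Pt.ext; intro f
    change (Algebra.TensorProduct.lift g.hom h.hom (fun _ _ => Commute.all _ _) :
          A ⊗[R] A →ₐ[R] B) (f ⊗ₜ 1) = _
    rw [Algebra.TensorProduct.lift_tmul, map_one, mul_one]
  have hh : Pt.map l hU = h := by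
    apply Pt.ext; intro f
    change (Algebra.TensorProduct.lift g.hom h.hom (fun _ _ => Commute.all _ _) :
          A ⊗[R] A →ₐ[R] B) (1 ⊗ₜ f) = _
    rw [Algebra.TensorProduct.lift_tmul, map_one, one_mul]
  have hfin : Pt.map l (gU * hU) = g * h := by rw [Pt.map_mul, hg, hh]
  have e := congrArg (fun k : Pt R A B => k.hom f) hfin
  rw [← e]
  change l ((gU * hU).hom f) = _
  rw [hmul, map_sub, map_add, AlgHom.commutes]
  congr 2
  · exact congrArg (fun k : Pt R A B => k.hom f) hg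
  · exact congrArg (fun k : Pt R A B => k.hom f) hh

theorem mul_comm_of_orth {B : Type u} [CommRing B] [Algebra R B] (g h : Pt R A B)
    (hgh : ∀ f f' : A, (g.hom f - algebraMap R B (ez R A f)) *
      (h.hom f' - algebraMap R B (ez R A f')) = 0) : g * h = h * g := by
  apply Pt.ext
  intro f
  rw [mul_hom_apply g h hgh, mul_hom_apply h g (fun f f' => by rw [mul_comm]; exact hgh f' f)]
  ring

end InfMul

section Ker

variable {R A : Type u} [CommRing R] [CommRing A] [Algebra R A] [PtGrp R A]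
variable {B C : Type u} [CommRing B] [Algebra R B] [CommRing C] [Algebra R C]

/-- the kernel of `G(B[ε]) → G(B)` -/
def IsKer (v : Pt R A (Eps B)) : Prop := Pt.map (eFst R B) v = 1

lemma IsKer.fst {v : Pt R A (Eps B)} (hv : IsKer v) (f : A) :
    (v.hom f).fst = algebraMap R B (ez R A f) := by
  have := congrArg (fun k : Pt R A B => k.hom f) hv
  simpa [one_hom_apply] using this

lemma isKer_one : IsKer (1 : Pt R A (Eps B)) := Pt.map_one _

lemma IsKer.mul {v w : Pt R A (Eps B)} (hv : IsKer v) (hw : IsKer w) : IsKer (v * w) := by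
  unfold IsKer at *
  rw [Pt.map_mul, hv, hw, one_mul]

lemma IsKer.inv {v : Pt R A (Eps B)} (hv : IsKer v) : IsKer v⁻¹ := by
  unfold IsKer at *
  rw [Pt.map_inv, hv, inv_one]

lemma IsKer.map {v : Pt R A (Eps B)} (hv : IsKer v) (φ : B →ₐ[R] C) :
    IsKer (Pt.map (eMap φ) v) := by
  unfold IsKer at *
  rw [Pt.map_map, eFst_comp_eMap, ← Pt.map_map, hv, Pt.map_one]

lemma IsKer.conj {v : Pt R A (Eps B)} (hv : IsKer v) (g : Pt R A (Eps B)) :
    IsKer (g * v * g⁻¹) := by
  unfold IsKer at *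
  rw [Pt.map_mul, Pt.map_mul, hv, Pt.map_inv, mul_one, mul_inv_cancel]

lemma IsKer.orth {v w : Pt R A (Eps B)} (hv : IsKer v) (hw : IsKer w) (f f' : A) :
    (v.hom f - algebraMap R (Eps B) (ez R A f)) * (w.hom f' - algebraMap R (Eps B) (ez R A f')) = 0 := by
  ext
  · simp [hv.fst, hw.fst, algebraMap_eq_inl']
  · simp [hv.fst, hw.fst, algebraMap_eq_inl']

lemma IsKer.commute {v w : Pt R A (Eps B)} (hv : IsKer v) (hw : IsKer w) : v * w = w * v :=
  mul_comm_of_orth v w (hv.orth hw)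

lemma IsKer.snd_mul {v w : Pt R A (Eps B)} (hv : IsKer v) (hw : IsKer w) (f : A) :
    ((v * w).hom f).snd = (v.hom f).snd + (w.hom f).snd := by
  rw [mul_hom_apply v w (hv.orth hw)]
  simp [algebraMap_eq_inl']

/-- the sum of two points with the same reduction -/
def bplus (P Q : Pt R A (Eps B)) (h : ∀ f, (P.hom f).fst = (Q.hom f).fst) : Pt R A (Eps B) :=
  Pt.map (e2Map R (LinearMap.coprod LinearMap.id LinearMap.id)) (glue2 P Q h)

@[simp] lemma fst_bplus (P Q : Pt R A (Eps B)) (h : ∀ f, (P.hom f).fst = (Q.hom f).fst) (f : A) :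
    ((bplus P Q h).hom f).fst = (P.hom f).fst := rfl

@[simp] lemma snd_bplus (P Q : Pt R A (Eps B)) (h : ∀ f, (P.hom f).fst = (Q.hom f).fst) (f : A) :
    ((bplus P Q h).hom f).snd = (P.hom f).snd + (Q.hom f).snd := by
  change (LinearMap.coprod LinearMap.id LinearMap.id : B × B →ₗ[B] B) ((P.hom f).snd, (Q.hom f).snd) = _
  simp

lemma IsKer.bplus_eq {v w : Pt R A (Eps B)} (hv : IsKer v) (hw : IsKer w)
    (h : ∀ f, (v.hom f).fst = (w.hom f).fst) : bplus v w h = v * w := by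
  apply Pt.ext; intro f; ext
  · rw [fst_bplus, hv.fst, (hv.mul hw).fst]
  · rw [snd_bplus, hv.snd_mul hw]

lemma bplus_mul_bplus {P₁ P₂ Q₁ Q₂ : Pt R A (Eps B)}
    (hP : ∀ f, (P₁.hom f).fst = (P₂.hom f).fst) (hQ : ∀ f, (Q₁.hom f).fst = (Q₂.hom f).fst)
    (hS : ∀ f, ((P₁ * Q₁).hom f).fst = ((P₂ * Q₂).hom f).fst) :
    bplus (P₁ * Q₁) (P₂ * Q₂) hS = bplus P₁ P₂ hP * bplus Q₁ Q₂ hQ :=
  mul_linComb hP hQ hS rfl rfl _

lemma fst_mul_congr {P₁ P₂ Q₁ Q₂ : Pt R A (Eps B)}
    (hP : ∀ f, (P₁.hom f).fst = (P₂.hom f).fst) (hQ : ∀ f, (Q₁.hom f).fst = (Q₂.hom f).fst) (f : A) :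
    ((P₁ * Q₁).hom f).fst = ((P₂ * Q₂).hom f).fst := by
  have e1 : Pt.map (eFst R B) P₁ = Pt.map (eFst R B) P₂ := Pt.ext hP
  have e2 : Pt.map (eFst R B) Q₁ = Pt.map (eFst R B) Q₂ := Pt.ext hQ
  have e3 : Pt.map (eFst R B) (P₁ * Q₁) = Pt.map (eFst R B) (P₂ * Q₂) := by
    rw [Pt.map_mul, Pt.map_mul, e1, e2]
  exact congrArg (fun k : Pt R A B => k.hom f) e3

end Ker

namespace InfAut

variable {R A : Type u} [CommRing R] [CommRing A] [Algebra R A] [PtGrp R A]
variable {B B' C : Type u} [CommRing B] [Algebra R B] [CommRing B'] [Algebra R B']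
  [CommRing C] [Algebra R C]

/-- the cocycle of an infinitesimal automorphism -/
noncomputable def coc (x : InfAut R A B) (φ : B →ₐ[R] B') (h : Pt R A B') : Pt R A (Eps B') :=
  x.app φ h * (Pt.map (eInl R B') h)⁻¹

lemma app_eq_coc_mul (x : InfAut R A B) (φ : B →ₐ[R] B') (h : Pt R A B') :
    x.app φ h = x.coc φ h * Pt.map (eInl R B') h := by
  rw [coc, inv_mul_cancel_right]

lemma isKer_coc (x : InfAut R A B) (φ : B →ₐ[R] B') (h : Pt R A B') : IsKer (x.coc φ h) := by
  unfold IsKer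
  rw [coc, Pt.map_mul, map_eFst_app, Pt.map_inv, Pt.map_map, eFst_comp_eInl, Pt.map_id,
    mul_inv_cancel]

lemma coc_nat (x : InfAut R A B) (φ : B →ₐ[R] B') (ψ : B' →ₐ[R] C) (h : Pt R A B') :
    Pt.map (eMap ψ) (x.coc φ h) = x.coc (ψ.comp φ) (Pt.map ψ h) := by
  rw [coc, coc, Pt.map_mul, app_nat, Pt.map_inv, Pt.map_map, Pt.map_map, eMap_comp_eInl]

lemma coc_mul (x : InfAut R A B) (φ : B →ₐ[R] B') (g h : Pt R A B') :
    x.coc φ (g * h) = x.coc φ g * (Pt.map (eInl R B') g * x.coc φ h * (Pt.map (eInl R B') g)⁻¹) := by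
  simp only [coc, _root_.map_mul, Pt.map_mul]
  group

lemma coc_add (x y : InfAut R A B) (φ : B →ₐ[R] B') (h : Pt R A B') :
    (x + y).coc φ h = x.coc φ h * y.coc φ h := by
  have hc := isKer_coc x φ h
  have hc' := isKer_coc y φ h
  rw [← hc.bplus_eq hc' (fun f => by rw [hc.fst, hc'.fst])]
  rw [coc, app_add]
  have e : Pt.map (eInl R B') h = bplus (Pt.map (eInl R B') h) (Pt.map (eInl R B') h) (fun _ => rfl) := by
    apply Pt.ext; intro f; ext <;> simp
  have hfst : ∀ f, ((x.app φ h).hom f).fst = ((y.app φ h).hom f).fst := fun f => by simp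
  rw [mul_inv_eq_iff_eq_mul]
  conv_rhs => rw [e]
  rw [← bplus_mul_bplus _ _ (fst_mul_congr (fun f => by rw [hc.fst, hc'.fst]) (fun _ => rfl))]
  change bplus _ _ _ = bplus _ _ _
  congr 1
  · exact app_eq_coc_mul _ _ _
  · exact app_eq_coc_mul _ _ _

lemma ext_coc {x y : InfAut R A B}
    (h : ∀ (B' : Type u) [CommRing B'] [Algebra R B'] (φ : B →ₐ[R] B') (g : Pt R A B'),
      x.coc φ g = y.coc φ g) : x = y :=
  ext_app fun B' _ _ φ g => by rw [app_eq_coc_mul, h B' φ g, ← app_eq_coc_mul]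

lemma coc_zero (φ : B →ₐ[R] B') (h : Pt R A B') : (0 : InfAut R A B).coc φ h = 1 := by
  rw [coc, app_zero, mul_inv_cancel]

lemma coc_neg (x : InfAut R A B) (φ : B →ₐ[R] B') (h : Pt R A B') :
    (-x).coc φ h = (x.coc φ h)⁻¹ := by
  rw [eq_inv_iff_mul_eq_one, ← coc_add, neg_add_cancel, coc_zero]

lemma coc_sub (x y : InfAut R A B) (φ : B →ₐ[R] B') (h : Pt R A B') :
    (x - y).coc φ h = x.coc φ h * (y.coc φ h)⁻¹ := by
  rw [sub_eq_add_neg, coc_add, coc_neg]

lemma coc_map (ψ : B →ₐ[R] C) (x : InfAut R A B) (φ : C →ₐ[R] B') (g : Pt R A B') :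
    (map ψ x).coc φ g = x.coc (φ.comp ψ) g := by
  rw [coc, coc, app_map]

/-- inner infinitesimal automorphisms -/
theorem exists_ad (v : Pt R A (Eps B)) (hv : IsKer v) : ∃ y : InfAut R A B,
    ∀ {B' : Type u} [CommRing B'] [Algebra R B'] (φ : B →ₐ[R] B') (h : Pt R A B'),
      y.app φ h = Pt.map (eMap φ) v * Pt.map (eInl R B') h * (Pt.map (eMap φ) v)⁻¹ := by
  refine exists_of_family (fun B' _ _ φ h =>
    Pt.map (eMap φ) v * Pt.map (eInl R B') h * (Pt.map (eMap φ) v)⁻¹) ?_ ?_ ?_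
  · intro B' C _ _ _ _ φ ψ h
    rw [Pt.map_mul, Pt.map_mul, Pt.map_inv, Pt.map_map, Pt.map_map, Pt.map_map, eMap_comp_eInl]
    rfl
  · intro B' _ _ φ h
    have h1 : Pt.map (eFst R B') (Pt.map (eMap φ) v) = 1 := hv.map φ
    rw [Pt.map_mul, Pt.map_mul, Pt.map_inv, h1, Pt.map_map, eFst_comp_eInl, Pt.map_id]
    simp
  · intro B' _ _ φ h k
    rw [Pt.map_mul]
    group

/-- The inner infinitesimal automorphism of an element of the kernel. -/
noncomputable def ad (v : Pt R A (Eps B)) (hv : IsKer v) : InfAut R A B := (exists_ad v hv).choose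

lemma app_ad (v : Pt R A (Eps B)) (hv : IsKer v) (φ : B →ₐ[R] B') (h : Pt R A B') :
    (ad v hv).app φ h = Pt.map (eMap φ) v * Pt.map (eInl R B') h * (Pt.map (eMap φ) v)⁻¹ :=
  (exists_ad v hv).choose_spec φ h

lemma coc_ad (v : Pt R A (Eps B)) (hv : IsKer v) (φ : B →ₐ[R] B') (h : Pt R A B') :
    (ad v hv).coc φ h = Pt.map (eMap φ) v * (Pt.map (eInl R B') h * (Pt.map (eMap φ) v)⁻¹ *
      (Pt.map (eInl R B') h)⁻¹) := by
  rw [coc, app_ad]
  group

lemma ad_mul (v w : Pt R A (Eps B)) (hv : IsKer v) (hw : IsKer w) :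
    ad (v * w) (hv.mul hw) = ad v hv + ad w hw := by
  apply ext_coc
  intro B' _ _ φ h
  rw [coc_add, coc_ad, coc_ad, coc_ad, Pt.map_mul]
  have hv' := hv.map φ
  have hw' := hw.map φ
  have h1 : (Pt.map (eInl R B') h * (Pt.map (eMap φ) v)⁻¹ * (Pt.map (eInl R B') h)⁻¹) *
      Pt.map (eMap φ) w = Pt.map (eMap φ) w *
        (Pt.map (eInl R B') h * (Pt.map (eMap φ) v)⁻¹ * (Pt.map (eInl R B') h)⁻¹) :=
    (hv'.inv.conj _).commute hw'
  have h2 : (Pt.map (eMap φ) v)⁻¹ * (Pt.map (eMap φ) w)⁻¹ =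
    (Pt.map (eMap φ) w)⁻¹ * (Pt.map (eMap φ) v)⁻¹ := hv'.inv.commute hw'.inv
  rw [mul_inv_rev, ← h2]
  calc _ = Pt.map (eMap φ) v * (Pt.map (eMap φ) w *
        (Pt.map (eInl R B') h * (Pt.map (eMap φ) v)⁻¹ * (Pt.map (eInl R B') h)⁻¹)) *
        (Pt.map (eInl R B') h * (Pt.map (eMap φ) w)⁻¹ * (Pt.map (eInl R B') h)⁻¹) := by group
    _ = _ := by rw [← h1]; group

lemma map_ad (ψ : B →ₐ[R] C) (v : Pt R A (Eps B)) (hv : IsKer v) :
    map ψ (ad v hv) = ad (Pt.map (eMap ψ) v) (hv.map ψ) := by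
  apply ext_app
  intro B' _ _ φ h
  rw [app_map, app_ad, app_ad]
  rfl

lemma Ad_ad (g : Pt R A B) (v : Pt R A (Eps B)) (hv : IsKer v) :
    Ad g (ad v hv) = ad (Pt.map (eInl R B) g * v * (Pt.map (eInl R B) g)⁻¹) (hv.conj _) := by
  apply ext_app
  intro B' _ _ φ h
  have e : Pt.map (eMap φ) (Pt.map (eInl R B) g) = inlPt φ g := by
    rw [Pt.map_map, eMap_comp_eInl]; rfl
  have e2 : Pt.map (eInl R B') (Pt.map φ g) = inlPt φ g := rfl
  rw [app_Ad, app_ad, app_ad, Pt.map_mul, Pt.map_mul, Pt.map_mul, Pt.map_mul, Pt.map_inv,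
    Pt.map_inv, e, e2]
  group

lemma smul_coc (c : B) (x : InfAut R A B) (φ : B →ₐ[R] B') (h : Pt R A B') :
    (c • x).coc φ h = Pt.map (eScale R (φ c)) (x.coc φ h) := by
  have e : Pt.map (eScale R (φ c)) (Pt.map (eInl R B') h) = Pt.map (eInl R B') h := by
    apply Pt.ext; intro f; ext <;> simp
  rw [coc, coc, app_smul, Pt.map_mul, Pt.map_inv, e]

end InfAut

end Groth.Agent.Sga3B.MT
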