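import Groth.Agent.Sga3B.MT.Defs2
import Mathlib.RingTheory.Flat.Basic
import Mathlib.RingTheory.Ideal.Quotient.Operations
import Mathlib.LinearAlgebra.Basis.VectorSpace

/-!
# Semilocal lifting of infinitesimal automorphisms
-/

set_option autoImplicit false
universe u

open TensorProduct
open Groth.Agent.Sga3B.Cell

namespace Groth.Agent.Sga3B.MT

variable {R A : Type u} [CommRing R] [CommRing A] [Algebra R A] [PtGrp R A]

/-- flat base change for `InfAut`, absolute form -/
def FlatSpan (R A : Type u) [CommRing R] [CommRing A] [Algebra R A] [PtGrp R A] : Prop :=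
  ∀ (B : Type u) [CommRing B] [Algebra R B], Module.Flat R B → ∀ x : InfAut R A B,
    x ∈ Submodule.span B (Set.range (InfAut.map (A := A) (Algebra.ofId R B)))

/-- a nonzero algebra over a field has a linear functional with value `1` at `1` -/
theorem exists_functional {k C : Type u} [Field k] [CommRing C] [Algebra k C] [Nontrivial C] :
    ∃ l : C →ₗ[k] k, l 1 = 1 := by
  have h : Function.Injective (Algebra.linearMap k C) := (algebraMap k C).injective
  obtain ⟨l, hl⟩ := (Algebra.linearMap k C).exists_leftInverse_of_injective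
    (LinearMap.ker_eq_bot.2 h)
  refine ⟨l, ?_⟩
  have := LinearMap.congr_fun hl 1
  simpa using this

/-- surjectivity of `L(R) → L(R/m)` from a flat algebra with nonzero fibre at `m` -/
theorem InfAut.surjective_of_flat (hfs : FlatSpan R A) (m : Ideal R) [hm : m.IsMaximal]
    (B : Type u) [CommRing B] [Algebra R B] (hB : Module.Flat R B)
    (hne : m.map (algebraMap R B) ≠ ⊤)
    (hs : Function.Surjective
      (InfAut.map (A := A) (Ideal.Quotient.mkₐ R (m.map (algebraMap R B))))) :
    Function.Surjective (InfAut.map (A := A) (Ideal.Quotient.mkₐ R m)) := by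
  classical
  intro x
  let _ : Field (R ⧸ m) := Ideal.Quotient.field m
  set I : Ideal B := m.map (algebraMap R B) with hI
  -- the map `R/m → B/I`
  let j : R ⧸ m →ₐ[R] B ⧸ I := Ideal.Quotient.liftₐ m (Algebra.ofId R (B ⧸ I)) (by
    intro a ha
    show algebraMap R (B ⧸ I) a = 0
    rw [IsScalarTower.algebraMap_apply R B (B ⧸ I)]
    exact Ideal.Quotient.eq_zero_iff_mem.2 (Ideal.mem_map_of_mem _ ha))
  let _ : Algebra (R ⧸ m) (B ⧸ I) := j.toRingHom.toAlgebra
  have : IsScalarTower R (R ⧸ m) (B ⧸ I) := IsScalarTower.of_algebraMap_eq' (by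
    ext r
    exact (j.commutes r).symm)
  have : Nontrivial (B ⧸ I) := Ideal.Quotient.nontrivial_iff.2 hne
  obtain ⟨l, hl⟩ := exists_functional (k := R ⧸ m) (C := B ⧸ I)
  obtain ⟨y, hy⟩ := hs (InfAut.map j x)
  -- the set of elements of `L(B)` having a good image under `l`
  have key : ∀ y : InfAut R A B, y ∈ Submodule.span B
      (Set.range (InfAut.map (A := A) (Algebra.ofId R B))) → ∀ b : B, ∃ ξ : InfAut R A R,
      ∀ f : A, TensorProduct.map (l.restrictScalars R) LinearMap.id
        (((InfAut.map (Ideal.Quotient.mkₐ R I) (b • y)).1 f)) =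
        (InfAut.map (Ideal.Quotient.mkₐ R m) ξ).1 f := by
    intro y hy
    induction hy using Submodule.span_induction with
    | mem y hy =>
      obtain ⟨η, rfl⟩ := hy
      intro b
      obtain ⟨c, hc⟩ := Ideal.Quotient.mk_surjective (l (Ideal.Quotient.mk I b))
      refine ⟨c • η, fun f => ?_⟩
      rw [InfAut.map_smul, InfAut.map_smul, InfAut.map_map, InfAut.val_smul, InfAut.val_smul,
        LinearMap.smul_apply, LinearMap.smul_apply, InfAut.map_val, InfAut.map_val]
      generalize η.1 f = z
      induction z using TensorProduct.induction_on with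
      | zero => simp
      | add z w hz hw => simp only [map_add, smul_add, hz, hw]
      | tmul r a =>
        simp only [Algebra.TensorProduct.map_tmul, AlgHom.id_apply, TensorProduct.smul_tmul',
          TensorProduct.map_tmul, LinearMap.id_apply]
        congr 1
        have e1 : ((Ideal.Quotient.mkₐ R I).comp (Algebra.ofId R B)) r =
          algebraMap (R ⧸ m) (B ⧸ I) (Ideal.Quotient.mk m r) := by
          exact ((j.commutes r)).symm
        have e2 : (Ideal.Quotient.mkₐ R I b) • (((Ideal.Quotient.mkₐ R I).comp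
            (Algebra.ofId R B)) r) = (Ideal.Quotient.mk m r) • (Ideal.Quotient.mk I b) := by
          rw [e1, Algebra.smul_def (Ideal.Quotient.mk m r), smul_eq_mul, mul_comm]
          rfl
        rw [e2, LinearMap.restrictScalars_apply, _root_.map_smul, ← hc, smul_eq_mul, smul_eq_mul,
          mul_comm]
        rfl
    | zero =>
      intro b
      refine ⟨0, fun f => ?_⟩
      rw [smul_zero, map_zero, map_zero]
      simp
    | add y z _ _ hy hz =>
      intro b
      obtain ⟨ξ, hξ⟩ := hy b
      obtain ⟨η, hη⟩ := hz b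
      refine ⟨ξ + η, fun f => ?_⟩
      rw [smul_add, map_add, map_add, InfAut.val_add, InfAut.val_add, LinearMap.add_apply,
        LinearMap.add_apply, map_add, hξ, hη]
    | smul c y _ hy =>
      intro b
      obtain ⟨ξ, hξ⟩ := hy (b * c)
      refine ⟨ξ, fun f => ?_⟩
      rw [smul_smul, hξ]
  obtain ⟨ξ, hξ⟩ := key y (hfs B hB y) 1
  refine ⟨ξ, ?_⟩
  apply Subtype.ext
  apply LinearMap.ext
  intro f
  rw [← hξ f, one_smul, hy, InfAut.map_val]
  generalize x.1 f = z
  induction z using TensorProduct.induction_on with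
  | zero => simp
  | add z w hz hw => simp only [map_add, hz, hw]
  | tmul r a =>
    simp only [Algebra.TensorProduct.map_tmul, AlgHom.id_apply, TensorProduct.map_tmul,
      LinearMap.id_apply]
    congr 1
    have e1 : j r = r • (1 : B ⧸ I) := by
      rw [Algebra.smul_def, mul_one]; rfl
    rw [LinearMap.restrictScalars_apply, e1, _root_.map_smul, hl, smul_eq_mul, mul_one]

/-- semilocal lifting -/
theorem InfAut.exists_lift_semilocal_of (hfs : FlatSpan R A)
    (hR : {m : Ideal R | m.IsMaximal}.Finite)
    (hloc : ∀ m : Ideal R, m.IsMaximal → ∃ (B : Type u) (_ : CommRing B) (_ : Algebra R B),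
      Module.Flat R B ∧ m.map (algebraMap R B) ≠ ⊤ ∧
      Function.Surjective (InfAut.map (A := A) (Ideal.Quotient.mkₐ R (m.map (algebraMap R B)))))
    (x : ∀ m : Ideal R, InfAut R A (R ⧸ m)) :
    ∃ ξ : InfAut R A R, ∀ m : Ideal R, m.IsMaximal →
      InfAut.map (Ideal.Quotient.mkₐ R m) ξ = x m := by
  classical
  have hsurj : ∀ m : Ideal R, m.IsMaximal →
      Function.Surjective (InfAut.map (A := A) (Ideal.Quotient.mkₐ R m)) := by
    intro m hm
    obtain ⟨B, _, _, h1, h2, h3⟩ := hloc m hm
    exact InfAut.surjective_of_flat hfs m B h1 h2 h3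
  choose! ξ hξ using fun m : Ideal R => fun hm : m.IsMaximal => hsurj m hm (x m)
  -- separating elements
  have hsep : ∀ m : Ideal R, m.IsMaximal → ∃ e : R, e - 1 ∈ m ∧
      ∀ n : Ideal R, n.IsMaximal → n ≠ m → e ∈ n := by
    intro m hm
    have hcop : IsCoprime m (⨅ n ∈ hR.toFinset.erase m, n) := by
      refine Ideal.isCoprime_biInf ?_
      intro n hn
      have hn' := Finset.mem_erase.1 hn
      have hnm : n.IsMaximal := by simpa using hn'.2
      exact Ideal.isCoprime_iff_sup_eq.2 (hm.coprime_of_ne hnm (Ne.symm hn'.1))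
    obtain ⟨a, ha, c, hc, hac⟩ := Submodule.mem_sup.1
      ((Ideal.eq_top_iff_one _).1 (Ideal.isCoprime_iff_sup_eq.1 hcop))
    refine ⟨c, ?_, ?_⟩
    · have : c - 1 = -a := by rw [← hac]; ring
      rw [this]; exact neg_mem ha
    · intro n hn hnm
      have h1 : n ∈ hR.toFinset.erase m := Finset.mem_erase.2 ⟨hnm, by simpa using hn⟩
      exact (iInf₂_le n h1 : (⨅ n ∈ hR.toFinset.erase m, n) ≤ n) hc
  choose! e he1 he2 using hsep
  refine ⟨∑ m ∈ hR.toFinset, e m • ξ m, ?_⟩
  intro m hm
  rw [map_sum, Finset.sum_eq_single m]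
  · rw [InfAut.map_smul, hξ m hm]
    have : Ideal.Quotient.mkₐ R m (e m) = 1 := by
      rw [← sub_eq_zero, ← map_one (Ideal.Quotient.mkₐ R m), ← map_sub]
      exact Ideal.Quotient.eq_zero_iff_mem.2 (he1 m hm)
    rw [this, one_smul]
  · intro n hn hnm
    have hn' : n.IsMaximal := by simpa using hn
    rw [InfAut.map_smul]
    have : Ideal.Quotient.mkₐ R m (e n) = 0 :=
      Ideal.Quotient.eq_zero_iff_mem.2 (he2 n hn' m hm (Ne.symm hnm))
    rw [this, zero_smul]
  · intro h
    exact absurd (by simpa using hm) h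

end Groth.Agent.Sga3B.MT
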