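import Groth.Agent.Sga3B.IsomPin848
import Groth.Agent.Sga3B.MT.FromSplit

/-!
# Affine form of the étale-local pinning
-/

set_option autoImplicit false
universe u

open CategoryTheory MonoidalCategory CartesianMonoidalCategory MonObj GrpObj AlgebraicGeometry Limits

namespace Groth.Agent.Sga3B.MT

open Groth.Agent.Sga3B

/-- **Affine form of the étale-local pinning**: `B₀` étale over `R`, with a prime over `s`. -/
theorem exists_pinning_affine {R : Type u} [CommRing R] (G : Over (Spec (CommRingCat.of R)))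
    [GrpObj G] (s : Spec (CommRingCat.of R)) (hG : IsomPin848.SplitNear G s) :
    ∃ (B₀ : Type u) (_ : CommRing B₀) (_ : Algebra R B₀), (algebraMap R B₀).Etale ∧
      (∃ q : PrimeSpectrum B₀, PrimeSpectrum.comap (algebraMap R B₀) q = s) ∧
      Nonempty (Red.Pinning (Red.bc (f₀ R B₀) G)) := by
  obtain ⟨B, v, hv, ⟨q, hq⟩, ⟨D⟩, -⟩ := IsomPin848.exists_pinnings G G s hG hG
  let _ : Algebra R B := (Spec.preimage v).hom.toAlgebra
  have e : v = f₀ R B := (Spec.map_preimage v).symm
  have hv' : Etale (Spec.map (Spec.preimage v)) := by rw [Spec.map_preimage]; exact hv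
  refine ⟨B, inferInstance, inferInstance, ?_, ⟨q, ?_⟩, ⟨SplitIso848.pinOfIso (BcIso.bcCongrIso e G) D⟩⟩
  · exact (HasRingHomProperty.Spec_iff (P := @Etale)).mp hv'
  · have h1 : (Spec.map (Spec.preimage v)) q = s := by rw [Spec.map_preimage]; exact hq
    exact h1

end Groth.Agent.Sga3B.MT
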