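import Groth.Agent.Sga3B.MT.StructD
import Mathlib.RingTheory.Smooth.Basic

/-!
# The structure of `InfAut` for a split group: consequences

* `RCell.exists_zero_locus`: the vanishing locus of an element of `InfAut` is given by finitely many
  equations.
* `RCell.map_surjective`: `InfAut` commutes with surjections.
* `RCell.exists_isDiag_of_torus`: trivial on the torus implies diagonal.
* `RCell.IsReg.lift`: smoothness of `(g, c) ↦ Ad g d_c` on the regular locus.
-/

set_option autoImplicit false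
set_option linter.unusedSectionVars false
universe u

open TensorProduct TrivSqZeroExt
open Groth.Agent.Sga3B.Cell

namespace Groth.Agent.Sga3B.MT

variable {idx M : Type} [Fintype idx] [AddCommGroup M] [Module.Free ℤ M] [Module.Finite ℤ M]
variable {P : RootPairing idx ℤ M (Module.Dual ℤ M)} {b : P.Base}
    {R A B₀ : Type u} [CommRing R] [CommRing A] [Algebra R A] [CommRing B₀] [Algebra R B₀]
    [PtGrp R A]

namespace RCell

open InfAut Diag

variable (D : RCell P b R A B₀)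
variable {B C : Type u} [CommRing B] [Algebra R B] [CommRing C] [Algebra R C] (φ : B₀ →ₐ[R] B)

/-- the inner infinitesimal automorphism with coordinates `z` in the root spaces -/
noncomputable def inn (z : idx → B) : InfAut R A B := ad (D.lie φ z 0) (D.isKer_lie φ z 0)

lemma inn_zero : D.inn φ 0 = 0 := by
  unfold inn
  rw [ad_congr (D.lie_zero φ) _ isKer_one, ad_one]

lemma map_inn (ψ : B →ₐ[R] C) (z : idx → B) :
    InfAut.map ψ (D.inn φ z) = D.inn (ψ.comp φ) (fun a => ψ (z a)) := by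
  apply ext_coc
  intro B' _ _ χ h
  unfold inn
  rw [coc_map, coc_ad, coc_ad, D.lie_nat, D.lie_nat]
  have e : (((χ.comp ψ : B →ₐ[R] B') : B →+ B').comp (0 : M →+ B)) =
    ((χ : C →+ B').comp (0 : M →+ C)) := by
    apply AddMonoidHom.ext
    intro m
    simp
  rw [e]
  rfl

variable {D φ}

lemma IsDiag.map' {c : P.rootSpan ℤ →+ B} {y : InfAut R A B} (hy : D.IsDiag φ c y)
    (ψ : B →ₐ[R] C) : D.IsDiag (ψ.comp φ) ((ψ : B →+ C).comp c) (InfAut.map ψ y) := by
  refine ⟨fun {B'} _ _ χ t => ?_, fun a {B'} _ _ χ z => ?_⟩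
  · rw [app_map]
    exact hy.1 (χ.comp ψ) t
  · rw [app_map]
    exact hy.2 a (χ.comp ψ) z

lemma isDiag_zero : D.IsDiag φ (0 : P.rootSpan ℤ →+ B) 0 := by
  apply IsDiag'.isDiag
  exact isDiag'_zero

lemma IsDiag.unique [Algebra.Smooth R A] (hdom : GeomDom R A) {c : P.rootSpan ℤ →+ B}
    {y y' : InfAut R A B} (hy : D.IsDiag φ c y) (hy' : D.IsDiag φ c y') : y = y' :=
  hy.isDiag'.ext hdom hy'.isDiag'

lemma hom_ext_roots {c c' : P.rootSpan ℤ →+ B} (b : P.Base)
    (h : ∀ a, c (P.rootSpanMem ℤ a) = c' (P.rootSpanMem ℤ a)) : c = c' := by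
  apply AddMonoidHom.ext
  intro q
  have h7 : (c.toIntLinearMap : P.rootSpan ℤ →ₗ[ℤ] B) = c'.toIntLinearMap := by
    apply b.toWeightBasisInt.ext
    intro a
    have h2 : b.toWeightBasisInt a = P.rootSpanMem ℤ a := by
      apply Subtype.ext
      simp
    rw [h2]
    exact h a
  exact LinearMap.congr_fun h7 q

lemma exists_lift_hom (b : P.Base) (ψ : B →ₐ[R] C) (hψ : Function.Surjective ψ)
    (c : P.rootSpan ℤ →+ C) : ∃ c' : P.rootSpan ℤ →+ B, (ψ : B →+ C).comp c' = c := by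
  choose s hs using hψ
  let f : P.rootSpan ℤ →ₗ[ℤ] B :=
    b.toWeightBasisInt.constr ℤ (fun a : b.support => s (c (P.rootSpanMem ℤ a)))
  refine ⟨f.toAddMonoidHom, ?_⟩
  have h7 : (((ψ : B →+ C).comp f.toAddMonoidHom).toIntLinearMap : P.rootSpan ℤ →ₗ[ℤ] C) =
      c.toIntLinearMap := by
    apply b.toWeightBasisInt.ext
    intro a
    have h2 : b.toWeightBasisInt a = P.rootSpanMem ℤ a := by
      apply Subtype.ext
      simp
    change ψ (f (b.toWeightBasisInt a)) = c (b.toWeightBasisInt a)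
    have h3 : f (b.toWeightBasisInt a) = s (c (P.rootSpanMem ℤ a)) :=
      Module.Basis.constr_basis _ _ _ _
    rw [h3, hs, h2]
  apply AddMonoidHom.ext
  intro q
  exact LinearMap.congr_fun h7 q

variable (D φ)

/-- **Structure theorem**, with `inn`. -/
theorem exists_eq_add_inn [Algebra.Smooth R A] (hdom : GeomDom R A) (x : InfAut R A B) :
    ∃ (z : idx → B) (c : P.rootSpan ℤ →+ B) (y : InfAut R A B), D.IsDiag φ c y ∧
      x = y + D.inn φ z := D.exists_eq_add φ hdom x

theorem inn_unique {c c' : P.rootSpan ℤ →+ B} {y y' : InfAut R A B} {z z' : idx → B}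
    (hy : D.IsDiag φ c y) (hy' : D.IsDiag φ c' y') (h : y + D.inn φ z = y' + D.inn φ z') :
    z = z' ∧ c = c' ∧ y = y' := D.eq_of_add_ad_eq φ hy hy' h

omit φ in
include D in
/-- the vanishing locus of an infinitesimal automorphism is defined by finitely many equations -/
theorem exists_zero_locus [Algebra.Smooth R A] (hdom : GeomDom R A) (φ : B₀ →ₐ[R] B)
    (x : InfAut R A B) :
    ∃ (n : ℕ) (z : Fin n → B), ∀ {B' : Type u} [CommRing B'] [Algebra R B'] (ψ : B →ₐ[R] B'),
      InfAut.map ψ x = 0 ↔ ∀ j, ψ (z j) = 0 := by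
  obtain ⟨z, c, y, hy, rfl⟩ := D.exists_eq_add_inn φ hdom x
  let e := Fintype.equivFin (idx ⊕ idx)
  let F : idx ⊕ idx → B := Sum.elim z (fun a => c (P.rootSpanMem ℤ a))
  refine ⟨Fintype.card (idx ⊕ idx), fun j => F (e.symm j), fun {B'} _ _ ψ => ?_⟩
  have h1 : (∀ j, ψ (F (e.symm j)) = 0) ↔ (∀ a, ψ (z a) = 0) ∧
      ∀ a, ψ (c (P.rootSpanMem ℤ a)) = 0 := by
    constructor
    · intro h
      refine ⟨fun a => ?_, fun a => ?_⟩
      · simpa [F] using h (e (Sum.inl a))
      · simpa [F] using h (e (Sum.inr a))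
    · rintro ⟨h, h'⟩ j
      rcases e.symm j with a | a
      · exact h a
      · exact h' a
  rw [h1, map_add, map_inn]
  constructor
  · intro h
    have h2 : InfAut.map ψ y + D.inn (ψ.comp φ) (fun a => ψ (z a)) =
        0 + D.inn (ψ.comp φ) (0 : idx → B') := by
      rw [h, inn_zero, add_zero]
    obtain ⟨h3, h4, _⟩ := D.inn_unique (ψ.comp φ) (hy.map' ψ) isDiag_zero h2
    exact ⟨fun a => congrFun h3 a, fun a => DFunLike.congr_fun h4 (P.rootSpanMem ℤ a)⟩
  · rintro ⟨h, h'⟩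
    have h3 : (fun a => ψ (z a)) = (0 : idx → B') := funext h
    have h4 : (ψ : B →+ B').comp c = 0 := hom_ext_roots b h'
    have h5 := hy.map' ψ
    rw [h4] at h5
    rw [h3, inn_zero, add_zero]
    exact h5.unique hdom isDiag_zero

omit φ in
include D in
/-- `InfAut` commutes with surjections. -/
theorem map_surjective [Algebra.Smooth R A] (hdom : GeomDom R A) (φ : B₀ →ₐ[R] B)
    (ψ : B →ₐ[R] C) (hψ : Function.Surjective ψ) :
    Function.Surjective (InfAut.map (A := A) ψ) := by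
  intro x
  obtain ⟨z, c, y, hy, rfl⟩ := D.exists_eq_add_inn (ψ.comp φ) hdom x
  obtain ⟨c', hc'⟩ := exists_lift_hom b ψ hψ c
  obtain ⟨y', hy'⟩ := D.exists_diag hdom φ c'
  choose s hs using hψ
  refine ⟨y' + D.inn φ (fun a => s (z a)), ?_⟩
  rw [map_add, map_inn]
  have h5 := hy'.map' ψ
  rw [hc'] at h5
  rw [h5.unique hdom hy]
  simp only [hs]

/-- an infinitesimal automorphism which is trivial on the torus is diagonal -/
theorem exists_isDiag_of_torus [Algebra.Smooth R A] (hdom : GeomDom R A) (φ : B₀ →ₐ[R] B)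
    (x : InfAut R A B)
    (hx : ∀ {B' : Type u} [CommRing B'] [Algebra R B'] (ψ : B →ₐ[R] B') (t : TPt M B'),
      x.app ψ (D.i (ψ.comp φ) t) = Pt.map (eInl R B') (D.i (ψ.comp φ) t)) :
    ∃ c : P.rootSpan ℤ →+ B, D.IsDiag φ c x := by
  classical
  obtain ⟨z, c, y, hy, rfl⟩ := D.exists_eq_add_inn φ hdom x
  have h0 := hx (cs R B (Multiplicative M)) (tg B (MonoidHom.id (Multiplicative M)))
  have h1 : (y + D.inn φ z).coc (cs R B (Multiplicative M))
      (D.i ((cs R B (Multiplicative M)).comp φ) (tg B (MonoidHom.id (Multiplicative M)))) = 1 := by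
    rw [coc, h0, mul_inv_cancel]
  rw [coc_add, hy.isDiag'.1, one_mul, inn, coc_ad, D.lie_nat, D.lie_inv, D.conj_lie, ← D.lie_add]
    at h1
  have e1 : ((fun a => (cs R B (Multiplicative M)) (z a)) + fun a =>
      TPt.ch (P.root a) (tg B (MonoidHom.id (Multiplicative M))) *
        (-(fun a => (cs R B (Multiplicative M)) (z a))) a) =
      (fun a => MonoidAlgebra.single 1 (z a) *
        (1 - MonoidAlgebra.single (Multiplicative.ofAdd (P.root a)) 1)) := by
    funext a
    simp only [Pi.add_apply, Pi.neg_apply]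
    rw [ch_tg, cs_apply]
    change MonoidAlgebra.single 1 (z a) + MonoidAlgebra.single (Multiplicative.ofAdd (P.root a)) 1 *
      -MonoidAlgebra.single 1 (z a) = _
    ring
  have e2 : ((((cs R B (Multiplicative M) : B →+ MonoidAlgebra B (Multiplicative M)).comp
      (0 : M →+ B)) + -((cs R B (Multiplicative M) : B →+ MonoidAlgebra B (Multiplicative M)).comp
        (0 : M →+ B)))) = 0 := by
    apply AddMonoidHom.ext
    intro m
    simp
  rw [e1, e2, ← D.lie_zero] at h1
  have h2 := (D.lie_inj _ h1).1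
  have hz : z = 0 := by
    funext a
    have h3 := congrArg (co (1 : Multiplicative M)) (congrFun h2 a)
    have hroot : (Multiplicative.ofAdd (P.root a) : Multiplicative M) ≠ 1 := by
      intro ha
      exact P.ne_zero a (Multiplicative.ofAdd.injective ha)
    have h4 : ∀ w : B, co (1 : Multiplicative M) (MonoidAlgebra.single 1 w *
        (1 - MonoidAlgebra.single (Multiplicative.ofAdd (P.root a)) 1)) = w := by
      intro w
      rw [co_single_one_mul, map_sub, co_single, if_neg hroot, sub_zero]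
      have : (1 : MonoidAlgebra B (Multiplicative M)) = MonoidAlgebra.single 1 1 := rfl
      rw [this, co_single, if_pos rfl, mul_one]
    rw [h4] at h3
    rw [h3]
    simp
  rw [hz, inn_zero, add_zero]
  exact ⟨c, hy⟩

/-- units lift through a nilpotent kernel -/
lemma isUnit_of_map (ψ : B →ₐ[R] C) (hψ : Function.Surjective ψ) (hker : RingHom.ker ψ ^ 2 = ⊥)
    (z : B) (hz : IsUnit (ψ z)) : IsUnit z := by
  obtain ⟨v, hv⟩ := hz
  obtain ⟨w, hw⟩ := hψ ((v⁻¹ : Cˣ) : C)
  have h1 : ψ (z * w - 1) = 0 := by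
    rw [map_sub, map_mul, map_one, hw, ← hv, v.mul_inv, sub_self]
  have h2 : (z * w - 1) * (z * w - 1) = 0 := by
    have h3 : (z * w - 1) * (z * w - 1) ∈ RingHom.ker ψ ^ 2 := by
      rw [pow_two]
      exact Ideal.mul_mem_mul h1 h1
    rw [hker] at h3
    exact h3
  refine IsUnit.of_mul_eq_one (w * (2 - z * w)) ?_
  linear_combination -h2

/-- **smoothness of `(g, c) ↦ Ad g d_c` on the regular locus** -/
theorem IsReg.lift [Algebra.Smooth R A] (hdom : GeomDom R A) (φ : B₀ →ₐ[R] B)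
    (ψ : B →ₐ[R] C) (hψ : Function.Surjective ψ) (hker : RingHom.ker ψ ^ 2 = ⊥)
    (ξ : InfAut R A B) (g₀ : Pt R A C) (c₀ : P.rootSpan ℤ →+ C) (y₀ : InfAut R A C)
    (hy₀ : D.IsDiag (ψ.comp φ) c₀ y₀) (hc₀ : ∀ a, IsUnit (c₀ (P.rootSpanMem ℤ a)))
    (h : InfAut.map ψ ξ = InfAut.Ad g₀ y₀) :
    ∃ (g : Pt R A B) (c : P.rootSpan ℤ →+ B) (y : InfAut R A B), D.IsDiag φ c y ∧ Pt.map ψ g = g₀ ∧
      (∀ q, ψ (c q) = c₀ q) ∧ ξ = InfAut.Ad g y := by
  -- lift of `g₀`
  have hnil : IsNilpotent (RingHom.ker (ψ : B →+* C)) := ⟨2, hker⟩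
  let g₁' : A →ₐ[R] B := Algebra.FormallySmooth.liftOfSurjective g₀.hom ψ hψ hnil
  let g₁ : Pt R A B := Pt.mk g₁'
  have hg₁ : Pt.map ψ g₁ = g₀ := by
    apply Pt.ext
    intro f
    exact Algebra.FormallySmooth.liftOfSurjective_apply g₀.hom ψ hψ hnil f
  obtain ⟨z, c, y, hy, hξ⟩ := D.exists_eq_add_inn φ hdom (InfAut.Ad g₁⁻¹ ξ)
  have h1 : InfAut.map ψ y + D.inn (ψ.comp φ) (fun a => ψ (z a)) =
      y₀ + D.inn (ψ.comp φ) (0 : idx → C) := by
    rw [← map_inn, ← map_add, ← hξ, map_Ad, Pt.map_inv, hg₁, h, Ad_inv_Ad, inn_zero, add_zero]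
  obtain ⟨h2, h3, _⟩ := D.inn_unique (ψ.comp φ) (hy.map' ψ) hy₀ h1
  have h4 : ∀ q, ψ (c q) = c₀ q := fun q => DFunLike.congr_fun h3 q
  have hu : ∀ a, IsUnit (c (P.rootSpanMem ℤ a)) := by
    intro a
    apply isUnit_of_map ψ hψ hker
    rw [h4]
    exact hc₀ a
  choose v hv using hu
  let w : idx → B := fun a => -(((v a)⁻¹ : Bˣ) * z a)
  have hzker : ∀ a, z a ∈ RingHom.ker ψ := fun a => congrFun h2 a
  have hzz : ∀ a a', z a * z a' = 0 := by
    intro a a'
    have h5 : z a * z a' ∈ RingHom.ker ψ ^ 2 := by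
      rw [pow_two]
      exact Ideal.mul_mem_mul (hzker a) (hzker a')
    rw [hker] at h5
    exact h5
  have hw : ∀ a a', w a * w a' = 0 := by
    intro a a'
    have : w a * w a' = ((v a)⁻¹ : Bˣ) * ((v a')⁻¹ : Bˣ) * (z a * z a') := by
      simp only [w]; ring
    rw [this, hzz, mul_zero]
  have h6 := hy.Ad_prodU w hw
  have h7 : (fun a => -(c (P.rootSpanMem ℤ a) * w a)) = z := by
    funext a
    simp only [w]
    rw [← hv a]
    rw [mul_neg, neg_neg, ← mul_assoc, Units.mul_inv, one_mul]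
  have h8 : InfAut.Ad (D.prodU φ w) y = InfAut.Ad g₁⁻¹ ξ := by
    rw [h6, hξ]
    congr 1
    unfold inn
    exact ad_congr (by rw [h7]) _ _
  refine ⟨g₁ * D.prodU φ w, c, y, hy, ?_, h4, ?_⟩
  · rw [Pt.map_mul, hg₁, D.prodU_nat]
    have h9 : (fun a => ψ (w a)) = fun _ => (0 : C) := by
      funext a
      simp only [w]
      rw [map_neg, map_mul, show ψ (z a) = 0 from hzker a, mul_zero, neg_zero]
    rw [h9, D.prodU_zero, mul_one]
  · rw [Ad_mul, h8, Ad_Ad_inv]

end RCell

end Groth.Agent.Sga3B.MT
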