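import Groth.Agent.Sga3B.MT.Cox
import Mathlib.FieldTheory.Galois.NormalBasis
import Mathlib.FieldTheory.Finite.Extension
import Mathlib.FieldTheory.IsAlgClosed.Basic

/-!
# Regular Frobenius-fixed elements of the Lie algebra of an adjoint torus over a finite field
-/

set_option autoImplicit false

open RootPairing

namespace Groth.Agent.Sga3B.MT.NormB

open Groth.Agent.Sga3A.Weyl Groth.Agent.Sga3B.MT.Cox

/-- A normal element of the extension of degree `m` of a finite field. -/
theorem exists_normal (k K : Type*) [Field k] [Finite k] [Field K] [IsAlgClosed K] [Algebra k K]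
    (m : ℕ) (hm : 0 < m) :
    ∃ c : K, c ^ (Nat.card k ^ m) = c ∧ ∀ a : ℕ → k,
      ∑ n ∈ Finset.range m, a n • c ^ (Nat.card k ^ n) = 0 → ∀ n < m, a n = 0 := by
  have := Fintype.ofFinite k
  obtain ⟨p, hp⟩ := CharP.exists k
  have hp' : Fact p.Prime := ⟨CharP.char_is_prime k p⟩
  have hmz : NeZero m := ⟨hm.ne'⟩
  let E := FiniteField.Extension k p m
  have hfr : Module.finrank k E = m := FiniteField.finrank_extension k p m
  obtain ⟨x, hx⟩ := exists_linearIndependent_algEquiv_apply k E
  let j : E →ₐ[k] K := IsAlgClosed.lift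
  refine ⟨j x, ?_, ?_⟩
  · rw [← map_pow]
    congr 1
    have := FiniteField.natCard_extension k p m
    rw [← this]
    have := Fintype.ofFinite E
    rw [Nat.card_eq_fintype_card]
    exact FiniteField.pow_card x
  · intro a ha n hn
    let e : Fin m ≃ Gal(E/k) := (finCongr hfr.symm).trans
      (Equiv.ofBijective _ (FiniteField.bijective_frobeniusAlgEquivOfAlgebraic_pow k E))
    have he : ∀ i : Fin m, e i x = x ^ (Nat.card k ^ (i : ℕ)) := by
      intro i
      change (FiniteField.frobeniusAlgEquivOfAlgebraic k E ^ (i : ℕ)) x = _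
      rw [AlgEquiv.coe_pow, FiniteField.coe_frobeniusAlgEquivOfAlgebraic_iterate,
        Nat.card_eq_fintype_card]
    have h1 : LinearIndependent k (fun i : Fin m => x ^ (Nat.card k ^ (i : ℕ))) := by
      have h2 := hx.comp e e.injective
      have h3 : ((fun σ : Gal(E/k) => σ x) ∘ e) = fun i : Fin m => x ^ (Nat.card k ^ (i : ℕ)) :=
        funext he
      rwa [h3] at h2
    have h4 : ∑ i : Fin m, a i • x ^ (Nat.card k ^ (i : ℕ)) = 0 := by
      apply (show Function.Injective j from j.toRingHom.injective)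
      rw [map_zero, map_sum, ← ha, ← Fin.sum_univ_eq_sum_range (fun n => a n • j x ^ Nat.card k ^ n)]
      refine Finset.sum_congr rfl (fun i _ => ?_)
      rw [map_smul, map_pow]
    exact Fintype.linearIndependent_iff.1 h1 _ h4 ⟨n, hn⟩

variable {ι M N : Type*} [AddCommGroup M] [AddCommGroup N] {P : RootPairing ι ℤ M N} (b : P.Base)

theorem act_mul (g h : P.Aut) (v : P.rootSpan ℤ) : act (g * h) v = act g (act h v) :=
  Subtype.ext (mul_smul _ _ _)

theorem act_one (v : P.rootSpan ℤ) : act (1 : P.Aut) v = v :=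
  Subtype.ext (one_smul _ _)

include b in
/-- Serre: existence of a Frobenius-fixed regular element in the Lie algebra of an adjoint torus of
a suitable type. -/
theorem exists_y [Finite ι] [P.IsReduced] (g : P.Aut) (k K : Type*) [Field k] [Finite k] [Field K]
    [IsAlgClosed K] [Algebra k K] :
    ∃ w ∈ P.weylGroup, ∃ y : P.rootSpan ℤ →+ K,
      (∀ v, y (act (w * g) v) ^ Nat.card k = y v) ∧ ∀ i, y (P.rootSpanMem ℤ i) ≠ 0 := by
  obtain ⟨w, hw, f, hf⟩ := exists_cox b g
  obtain ⟨m, hm, hm'⟩ := exists_pow_smul (w * g)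
  obtain ⟨c, hc, hc'⟩ := exists_normal k K m hm
  set τ := w * g with hτ
  set q := Nat.card k with hq
  have := Fintype.ofFinite k
  refine ⟨w, hw, ?_⟩
  have hact : ∀ (n : ℕ) (v : P.rootSpan ℤ), act (τ ^ (n + 1)) v = act (τ ^ n) (act τ v) := by
    intro n v
    rw [pow_succ, act_mul]
  have hfr : ∀ a : ℤ, ((a : K)) ^ q = a := by
    intro a
    have h1 : ((a : k)) ^ q = a := by
      rw [hq, Nat.card_eq_fintype_card]
      exact FiniteField.pow_card _
    have h2 := congrArg (algebraMap k K) h1
    simpa using h2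
  let y : P.rootSpan ℤ →+ K :=
    { toFun := fun v => ∑ n ∈ Finset.range m, ((f (act (τ ^ n) v) : ℤ) : K) * c ^ (q ^ n)
      map_zero' := by simp
      map_add' := fun u v => by
        rw [← Finset.sum_add_distrib]
        refine Finset.sum_congr rfl (fun n _ => ?_)
        rw [map_add, map_add, Int.cast_add, add_mul] }
  refine ⟨y, ?_, ?_⟩
  · intro v
    let h : ℕ → K := fun n => ((f (act (τ ^ n) v) : ℤ) : K) * c ^ (q ^ n)
    have h1 : y (act τ v) ^ q = ∑ n ∈ Finset.range m, h (n + 1) := by
      change (∑ n ∈ Finset.range m, ((f (act (τ ^ n) (act τ v)) : ℤ) : K) * c ^ (q ^ n)) ^ q = _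
      have h2 : ∀ x : K, x ^ q = FiniteField.frobeniusAlgHom k K x := by
        intro x
        rw [FiniteField.frobeniusAlgHom_apply, hq, Nat.card_eq_fintype_card]
      rw [h2, map_sum]
      refine Finset.sum_congr rfl (fun n _ => ?_)
      rw [← h2, mul_pow, hfr, ← pow_mul, ← hact, ← pow_succ]
    have h3 : h m = h 0 := by
      have h4 : act (τ ^ m) v = act (τ ^ 0) v := by
        rw [pow_zero, act_one]
        exact Subtype.ext (pow_smul_eq_of hm' v.2)
      change ((f (act (τ ^ m) v) : ℤ) : K) * c ^ (q ^ m) = ((f (act (τ ^ 0) v) : ℤ) : K) * c ^ (q ^ 0)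
      rw [h4, hc, pow_zero (M := ℕ), pow_one]
    have h5 := Finset.sum_range_succ h m
    rw [Finset.sum_range_succ' h m, h3] at h5
    rw [h1]
    exact add_right_cancel h5
  · intro i hi
    obtain ⟨n, hn⟩ := hf i
    have hmul : ∀ n : ℕ, ∀ i : ι, τ ^ (m * n) • i = i := by
      intro n i
      induction n with
      | zero => rw [mul_zero, pow_zero, one_smul]
      | succ n ih => rw [Nat.mul_succ, pow_add, mul_smul, hm', ih]
    have hmod : τ ^ n • i = τ ^ (n % m) • i := by
      conv_lhs => rw [← Nat.mod_add_div n m, pow_add, mul_smul, hmul]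
    rw [hmod] at hn
    have h1 : ∑ n ∈ Finset.range m, ((f (act (τ ^ n) (P.rootSpanMem ℤ i)) : ℤ) : k) • c ^ (q ^ n) = 0 := by
      rw [← hi]
      refine Finset.sum_congr rfl (fun n _ => ?_)
      rw [Algebra.smul_def, map_intCast]
    have h2 := hc' _ h1 (n % m) (Nat.mod_lt _ hm)
    rw [act_root, hn] at h2
    simp at h2

end Groth.Agent.Sga3B.MT.NormB
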