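import Groth.Agent.Sga3B.MT.Fix
import Groth.Agent.Sga3B.MT.Cover
import Groth.Agent.Sga3B.MT.Closed423

/-!
# The torus of a regular infinitesimal automorphism is independent of the splitting
-/

set_option autoImplicit false
universe u

open TensorProduct TrivSqZeroExt
open Groth.Agent.Sga3B.Cell

namespace Groth.Agent.Sga3B.MT

variable {idx M : Type} [Fintype idx] [AddCommGroup M] [Module.Free ℤ M] [Module.Finite ℤ M]
variable {P : RootPairing idx ℤ M (Module.Dual ℤ M)} {b : P.Base}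
variable {idx' M' : Type} [Fintype idx'] [AddCommGroup M'] [Module.Free ℤ M'] [Module.Finite ℤ M']
variable {P' : RootPairing idx' ℤ M' (Module.Dual ℤ M')} {b' : P'.Base}
    {R A B₀ B₀' : Type u} [CommRing R] [CommRing A] [Algebra R A] [CommRing B₀] [Algebra R B₀]
    [CommRing B₀'] [Algebra R B₀'] [PtGrp R A]

namespace RCell

/-- `h` lies in the conjugate `g T g⁻¹` of the torus. -/
def TorAt (D : RCell P b R A B₀) {B : Type u} [CommRing B] [Algebra R B] (φ : B₀ →ₐ[R] B)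
    (g h : Pt R A B) : Prop := ∃ t : TPt M B, h = g * D.i φ t * g⁻¹

lemma ov_comm (D : RCell P b R A B₀) {B : Type u} [CommRing B] [Algebra R B] (φ : B₀ →ₐ[R] B)
    (s t : TPt M B) : D.i φ s * D.i φ t = D.i φ t * D.i φ s := by
  rw [← map_mul, ← map_mul]
  congr 1
  exact mul_comm s t

lemma ov_ch (a : M) {B : Type u} [CommRing B] (t : TPt M B) : TPt.ch a t * TPt.ch a t⁻¹ = 1 :=
  Units.mul_inv (t (Multiplicative.ofAdd a))

/-- The torus fixes `d_c`. -/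
lemma IsDiag.Ad_i {D : RCell P b R A B₀} [Algebra.Smooth R A] (hdom : GeomDom R A)
    {B : Type u} [CommRing B] [Algebra R B] {φ : B₀ →ₐ[R] B} {c : P.rootSpan ℤ →+ B}
    {y : InfAut R A B} (hy : D.IsDiag φ c y) (t : TPt M B) : InfAut.Ad (D.i φ t) y = y := by
  have hinl : ∀ {B' : Type u} [CommRing B'] [Algebra R B'] (ψ : B →ₐ[R] B'),
      InfAut.inlPt ψ (D.i φ t) = Pt.map (eInl R B') (D.i (ψ.comp φ) (TPt.map ψ t)) := by
    intro B' _ _ ψ
    rw [InfAut.inlPt, ← D.i_nat, Pt.map_map]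
  apply D.ext_infAut hdom φ
  · intro B' _ _ ψ s
    have h1 : (Pt.map ψ (D.i φ t))⁻¹ * D.i (ψ.comp φ) s * Pt.map ψ (D.i φ t) =
        D.i (ψ.comp φ) s := by
      rw [D.i_nat, mul_assoc, D.ov_comm _ s, inv_mul_cancel_left]
    rw [InfAut.app_Ad, h1, hy.1 ψ s, hinl, ← Pt.map_inv, ← Pt.map_mul, ← Pt.map_mul]
    congr 1
    rw [D.ov_comm, mul_inv_cancel_right]
  · intro a B' _ _ ψ z
    have h1 : (Pt.map ψ (D.i φ t))⁻¹ * D.uu a (ψ.comp φ) z * Pt.map ψ (D.i φ t) =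
        D.uu a (ψ.comp φ) (TPt.ch (P.root a) (TPt.map ψ t)⁻¹ * z) := by
      rw [D.i_nat, ← D.rel a (ψ.comp φ) (TPt.map ψ t)⁻¹ z, D.fix_i_inv, inv_inv]
    have h2 := ov_ch (P.root a) (TPt.map ψ t)
    rw [InfAut.app_Ad, h1, hy.2 a ψ, hinl, D.i_nat, D.rel, hy.2 a ψ]
    congr 1
    rw [TPt.ch_map]
    ext
    · simp only [TrivSqZeroExt.fst_mul, fst_add, fst_inl, fst_inr, add_zero, eInl_apply]
      rw [← mul_assoc, h2, one_mul]
    · simp only [DualNumber.snd_mul, snd_add, snd_inl, snd_inr, fst_add, fst_inl, fst_inr, add_zero,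
        zero_add, eInl_apply, zero_mul]
      linear_combination (ψ (c (P.rootSpanMem ℤ a)) * z) * h2

/-- **The torus of a regular infinitesimal automorphism.** -/
theorem torAt_of_torAt (D : RCell P b R A B₀) (D' : RCell P' b' R A B₀') [Algebra.Smooth R A]
    (hdom : GeomDom R A) {B : Type u} [CommRing B] [Algebra R B] (φ : B₀ →ₐ[R] B)
    (φ' : B₀' →ₐ[R] B) {g g' : Pt R A B} {c : P.rootSpan ℤ →+ B} {c' : P'.rootSpan ℤ →+ B}
    {y y' : InfAut R A B} (hy : D.IsDiag φ c y) (hreg : ∀ a, IsUnit (c (P.rootSpanMem ℤ a)))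
    (hy' : D'.IsDiag φ' c' y') (h : InfAut.Ad g y = InfAut.Ad g' y') {k : Pt R A B}
    (hk : D'.TorAt φ' g' k) : D.TorAt φ g k := by
  obtain ⟨t', rfl⟩ := hk
  let ι := cT R M' B
  let u := uT M' B
  let π : MonoidAlgebra B (Multiplicative M') →ₐ[R] B := evTo (AlgHom.id R B) 1
  let τ : Pt R A (MonoidAlgebra B (Multiplicative M')) :=
    (Pt.map ι g)⁻¹ * (Pt.map ι g' * D'.i (ι.comp φ') u * (Pt.map ι g')⁻¹) * Pt.map ι g
  have hπι : π.comp ι = AlgHom.id R B := evTo_comp_cT _ _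
  have hτ : InfAut.Ad τ (InfAut.map ι y) = InfAut.map ι y := by
    have e1 : InfAut.Ad (Pt.map ι g) (InfAut.map ι y) = InfAut.Ad (Pt.map ι g') (InfAut.map ι y') := by
      rw [← InfAut.map_Ad, ← InfAut.map_Ad, h]
    have e2 : InfAut.Ad (D'.i (ι.comp φ') u) (InfAut.map ι y') = InfAut.map ι y' :=
      (hy'.fix_map ι).Ad_i hdom u
    rw [InfAut.Ad_mul, InfAut.Ad_mul, e1, InfAut.Ad_mul, InfAut.Ad_mul, InfAut.Ad_inv_Ad, e2, ← e1,
      InfAut.Ad_inv_Ad]
  obtain ⟨t, ht⟩ := D.mem_torus_of_fixes' hy hreg ι (fun z => rfl) π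
    (fun n z => by simp [π]) τ (by
      have e : Pt.map π (D'.i (ι.comp φ') u) = 1 := by
        rw [D'.i_nat, map_evTo_uT, map_one]
      rw [Pt.map_mul, Pt.map_mul, Pt.map_mul, Pt.map_mul, Pt.map_inv, Pt.map_inv, e]
      group) hτ
  let ev : MonoidAlgebra B (Multiplicative M') →ₐ[R] B := evTo (AlgHom.id R B) t'
  have hev : ev.comp ι = AlgHom.id R B := evTo_comp_cT _ _
  have h1 := congrArg (Pt.map ev) ht
  have h2 : ∀ k : Pt R A B, Pt.map ev (Pt.map ι k) = k := by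
    intro k
    rw [Pt.map_map, hev, Pt.map_id]
  have h3 : Pt.map ev (D'.i (ι.comp φ') u) = D'.i φ' t' := by
    rw [D'.i_nat, map_evTo_uT, ← AlgHom.comp_assoc, hev]
    rfl
  rw [Pt.map_mul, Pt.map_mul, Pt.map_mul, Pt.map_mul, Pt.map_inv, Pt.map_inv, h2, h2, h3, D.i_nat,
    ← AlgHom.comp_assoc, hev] at h1
  refine ⟨TPt.map ev t, ?_⟩
  change _ = g * D.i ((AlgHom.id R B).comp φ) _ * g⁻¹
  rw [← h1]
  group

end RCell

end Groth.Agent.Sga3B.MT
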