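import Groth.Agent.Sga3B.PinComb829
import Mathlib.GroupTheory.CosetCover
import Mathlib.LinearAlgebra.RootSystem.Base

/-!
# Linear forms on the root lattice over an infinite field which do not vanish on the roots
-/

set_option autoImplicit false

open Module

namespace Groth.Agent.Sga3B.MT.RegForm

variable {ι M N : Type*} [AddCommGroup M] [AddCommGroup N] {P : RootPairing ι ℤ M N} (b : P.Base)

/-- precomposition of a form with a reflection -/
theorem exists_reflect {K : Type*} [CommRing K] (j : ι) (c : P.rootSpan ℤ →+ K) :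
    ∃ c' : P.rootSpan ℤ →+ K, ∀ i, c' (P.rootSpanMem ℤ i) =
      c (P.rootSpanMem ℤ (P.reflectionPerm j i)) := by
  refine ⟨c - (AddMonoidHom.mulRight (c (P.rootSpanMem ℤ j))).comp
    ((Int.castAddHom K).comp ((P.coroot' j).toAddMonoidHom.comp
      (P.rootSpan ℤ).subtype.toAddMonoidHom)), fun i => ?_⟩
  have h : P.rootSpanMem ℤ (P.reflectionPerm j i) =
      P.rootSpanMem ℤ i - (P.pairing i j) • P.rootSpanMem ℤ j := by
    apply Subtype.ext
    change P.root (P.reflectionPerm j i) = P.root i - P.pairing i j • P.root j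
    rw [P.root_reflectionPerm, P.reflection_apply_root]
  rw [h, map_sub, map_zsmul, zsmul_eq_mul]
  rfl

variable [Finite ι]

include b in
/-- every root has a nonzero value at some form, over any field -/
theorem exists_ne_zero (K : Type*) [Field K] (i : ι) :
    ∃ c : P.rootSpan ℤ →+ K, c (P.rootSpanMem ℤ i) ≠ 0 := by
  have hred : P.IsReduced := PinComb.isReduced b
  have := Fintype.ofFinite ι
  classical
  refine b.induction_reflect (p := fun i => ∃ c : P.rootSpan ℤ →+ K, c (P.rootSpanMem ℤ i) ≠ 0)
    i ?_ ?_ ?_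
  · rintro i ⟨c, hc⟩
    refine ⟨c, ?_⟩
    rw [RootPairing.rootSpanMem_reflectionPerm_self, map_neg]
    simpa using hc
  · intro i hi
    refine ⟨(Int.castAddHom K).comp (b.toWeightBasisInt.coord ⟨i, hi⟩).toAddMonoidHom, ?_⟩
    have h : P.rootSpanMem ℤ i = b.toWeightBasisInt ⟨i, hi⟩ := by
      apply Subtype.ext
      rw [b.coe_toWeightBasisInt_apply]
    rw [h]
    simp
  · rintro i j ⟨c, hc⟩ hj
    obtain ⟨c', hc'⟩ := exists_reflect j c
    refine ⟨c', ?_⟩
    rw [hc']
    have : P.reflectionPerm j (P.reflectionPerm j i) = i := by simp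
    rw [this]
    exact hc

include b in
/-- forms over an infinite field not vanishing at any root -/
theorem exists_form (K : Type*) [Field K] [Infinite K] :
    ∃ c : P.rootSpan ℤ →+ K, ∀ i, c (P.rootSpanMem ℤ i) ≠ 0 := by
  classical
  have := Fintype.ofFinite ι
  let W : ι → Submodule K (P.rootSpan ℤ →+ K) := fun i =>
    { carrier := {c | c (P.rootSpanMem ℤ i) = 0}
      zero_mem' := rfl
      add_mem' := fun {x y} hx hy => by
        change x _ + y _ = 0
        rw [hx, hy, add_zero]
      smul_mem' := fun r x hx => by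
        change r * x _ = 0
        rw [hx, mul_zero] }
  have hW : ⊤ ∉ Finset.univ.image W := by
    intro h
    obtain ⟨i, -, hi⟩ := Finset.mem_image.mp h
    obtain ⟨c, hc⟩ := exists_ne_zero b K i
    exact hc (show c ∈ W i by rw [hi]; trivial)
  have h := Subspace.biUnion_ne_univ_of_top_notMem hW
  rw [Ne, Set.eq_univ_iff_forall] at h
  push Not at h
  obtain ⟨c, hc⟩ := h
  refine ⟨c, fun i hi => hc ?_⟩
  rw [Set.mem_iUnion₂]
  exact ⟨W i, Finset.mem_image_of_mem _ (Finset.mem_univ i), hi⟩

end Groth.Agent.Sga3B.MT.RegForm
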