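import Groth.Agent.Sga3B.MT.SmoothInf
import Groth.Agent.Sga3B.MT.DiagFin
import Groth.Agent.Sga3B.MT.Struct
import Groth.Agent.Sga3B.MT.InfBc

/-!
# P6 of S2995: étale-local regularity and rational regular elements
-/

set_option autoImplicit false
set_option linter.unusedSectionVars false
universe u
open TensorProduct TrivSqZeroExt
open Groth.Agent.Sga3B.Cell

namespace Groth.Agent.Sga3B.MT
variable {idx M : Type} [Fintype idx] [AddCommGroup M] [Module.Free ℤ M] [Module.Finite ℤ M]
variable {P : RootPairing idx ℤ M (Module.Dual ℤ M)} {b : P.Base}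
    {R A B₀ : Type u} [CommRing R] [CommRing A] [Algebra R A] [CommRing B₀] [Algebra R B₀]
    [PtGrp R A]

/-- étale-locally around a point where it is regular, an infinitesimal automorphism is regular -/
theorem RCell.IsReg.exists_etale (D : RCell P b R A B₀) [Algebra.Smooth R A] (hdom : GeomDom R A)
    [Algebra.FinitePresentation R A] (x : InfAut R A B₀) (K : Type u) [Field K] [Algebra R K]
    (κ : B₀ →ₐ[R] K) (hK : D.IsReg κ (InfAut.map κ x)) :
    ∃ (B₁ : Type u) (_ : CommRing B₁) (_ : Algebra R B₁) (ψ : B₀ →ₐ[R] B₁), ψ.toRingHom.Etale ∧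
      (∃ q : PrimeSpectrum B₁, q.asIdeal.comap ψ.toRingHom = RingHom.ker κ) ∧
      D.IsReg ψ (InfAut.map ψ x) :=
  D.exists_etale' (fun φ c => D.exists_diag hdom φ c) (fun _ _ _ _ h h' => h.unique hdom h')
    (fun φ x => D.exists_zero_locus hdom φ x)
    (fun φ ψ h1 h2 ξ g₀ c₀ y₀ h3 h4 h5 => RCell.IsReg.lift D hdom φ ψ h1 h2 ξ g₀ c₀ y₀ h3 h4 h5)
    x K κ hK

/-- rational regular elements over an infinite field -/
theorem RCell.exists_isReg_of_infinite {k K : Type u} [Field k] [Infinite k] [Field K]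
    [IsAlgClosed K] [Algebra R k] [Algebra R K] [Algebra.Smooth R A]
    [Algebra.FinitePresentation R A] (hdom : GeomDom R A) (D : RCell P b R A K) (j : k →ₐ[R] K) :
    ∃ x : InfAut R A k, D.IsReg (AlgHom.id R K) (InfAut.map j x) :=
  D.exists_isReg_rel j (fun φ c => D.exists_diag hdom φ c) (fun _ _ _ _ h h' => h.unique hdom h')
    (fun φ x => D.exists_zero_locus hdom φ x)
    (fun φ ψ h1 h2 ξ g₀ c₀ y₀ h3 h4 h5 => RCell.IsReg.lift D hdom φ ψ h1 h2 ξ g₀ c₀ y₀ h3 h4 h5)
    (fun x => InfAut.mem_span_of_flat j (by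
      let : Algebra k K := j.toRingHom.toAlgebra
      exact RingHom.flat_algebraMap_iff.mpr inferInstance) x)

end Groth.Agent.Sga3B.MT
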