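import Groth.Agent.Sga3B.MT.SmoothUniv

/-!
# The regular locus is smooth: core of the argument

Everything is relative to four inputs about the split cell data (existence and uniqueness of `d_c`, zero
loci, infinitesimal lifting), given as hypotheses.
-/

set_option autoImplicit false
set_option linter.unusedSectionVars false
universe u

open TensorProduct
open Groth.Agent.Sga3B.Cell

namespace Groth.Agent.Sga3B.MT

variable {idx M : Type} [Fintype idx] [AddCommGroup M] [Module.Free ℤ M] [Module.Finite ℤ M]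
variable {P : RootPairing idx ℤ M (Module.Dual ℤ M)} {b : P.Base}
    {R A B₀ : Type u} [CommRing R] [CommRing A] [Algebra R A] [CommRing B₀] [Algebra R B₀]
    [PtGrp R A]

/-- change of the base of the test rings -/
noncomputable def RCell.bc (D : RCell P b R A B₀) {B₀' : Type u} [CommRing B₀'] [Algebra R B₀']
    (ρ : B₀ →ₐ[R] B₀') : RCell P b R A B₀' where
  pairing_eq := D.pairing_eq
  i φ := D.i (φ.comp ρ)
  i_nat φ ψ t := D.i_nat (φ.comp ρ) ψ t
  i_inj φ := D.i_inj (φ.comp ρ)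
  uu a _ _ _ φ := D.uu a (φ.comp ρ)
  uu_add a _ _ _ φ x y := D.uu_add a (φ.comp ρ) x y
  uu_nat a _ _ _ _ _ _ φ ψ x := D.uu_nat a (φ.comp ρ) ψ x
  rel a _ _ _ φ t x := D.rel a (φ.comp ρ) t x
  rank1 a ha _ _ _ φ x y v h := D.rank1 a ha (φ.comp ρ) x y v h
  conj a ha c := by
    obtain ⟨r, hr⟩ := D.conj a ha c
    exact ⟨Units.map (ρ : B₀ →* B₀') r, fun φ x => hr (φ.comp ρ) x⟩
  cell_inj φ := D.cell_inj (φ.comp ρ)
  cellIdeal := D.cellIdeal.map (Algebra.TensorProduct.map ρ (AlgHom.id R A)).toRingHom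
  cellIdeal_fg := D.cellIdeal_fg.map _
  mem_cell_iff φ g := by
    rw [Ideal.map_map, D.mem_cell_iff (φ.comp ρ) g]
    have : (evp φ g).toRingHom.comp (Algebra.TensorProduct.map ρ (AlgHom.id R A)).toRingHom =
        (evp (φ.comp ρ) g).toRingHom := by
      have h : (evp φ g).comp (Algebra.TensorProduct.map ρ (AlgHom.id R A)) = evp (φ.comp ρ) g := by
        apply Algebra.TensorProduct.ext'
        intro b f
        simp
      exact congrArg AlgHom.toRingHom h
    rw [this]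

lemma RCell.bc_isReg (D : RCell P b R A B₀) {B₀' : Type u} [CommRing B₀'] [Algebra R B₀']
    (ρ : B₀ →ₐ[R] B₀') {B : Type u} [CommRing B] [Algebra R B] (φ : B₀' →ₐ[R] B)
    (x : InfAut R A B) : (D.bc ρ).IsReg φ x ↔ D.IsReg (φ.comp ρ) x := Iff.rfl

/-- functoriality of `d_c` -/
lemma RCell.IsDiag.map {D : RCell P b R A B₀} {B C : Type u} [CommRing B] [Algebra R B]
    [CommRing C] [Algebra R C] {φ : B₀ →ₐ[R] B} {c : P.rootSpan ℤ →+ B} {x : InfAut R A B}
    (h : D.IsDiag φ c x) (ψ : B →ₐ[R] C) {c' : P.rootSpan ℤ →+ C} (hc : ∀ q, c' q = ψ (c q)) :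
    D.IsDiag (ψ.comp φ) c' (InfAut.map ψ x) := by
  refine ⟨fun χ t => ?_, fun a B' _ _ χ z => ?_⟩
  · rw [InfAut.app_map]
    exact h.1 (χ.comp ψ) t
  · rw [InfAut.app_map, hc]
    exact h.2 a (χ.comp ψ) z

lemma RCell.IsReg.map {D : RCell P b R A B₀} {B C : Type u} [CommRing B] [Algebra R B]
    [CommRing C] [Algebra R C] {φ : B₀ →ₐ[R] B} {x : InfAut R A B} (h : D.IsReg φ x)
    (ψ : B →ₐ[R] C) : D.IsReg (ψ.comp φ) (InfAut.map ψ x) := by
  obtain ⟨g, c, y, hy, hc, rfl⟩ := h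
  exact ⟨Pt.map ψ g, (ψ : B →+ C).comp c, InfAut.map ψ y, hy.map ψ (fun _ => rfl),
    fun a => (hc a).map ψ, InfAut.map_Ad ψ g y⟩

section smooth

/-- **The regular locus is smooth.** The functor of pairs `(g, c)` with `Ad g d_c = x` and `c` regular is
represented by a smooth algebra. -/
theorem RCell.exists_smooth (D : RCell P b R A B₀) [Algebra.FinitePresentation R A]
    (hdiag : ∀ {B : Type u} [CommRing B] [Algebra R B] (φ : B₀ →ₐ[R] B) (c : P.rootSpan ℤ →+ B),
      ∃ y : InfAut R A B, D.IsDiag φ c y)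
    (huniq : ∀ {B : Type u} [CommRing B] [Algebra R B] (φ : B₀ →ₐ[R] B) (c : P.rootSpan ℤ →+ B)
      (y y' : InfAut R A B), D.IsDiag φ c y → D.IsDiag φ c y' → y = y')
    (hzero : ∀ {B : Type u} [CommRing B] [Algebra R B] (_ : B₀ →ₐ[R] B) (x : InfAut R A B),
      ∃ (n : ℕ) (z : Fin n → B), ∀ {B' : Type u} [CommRing B'] [Algebra R B'] (ψ : B →ₐ[R] B'),
        InfAut.map ψ x = 0 ↔ ∀ j, ψ (z j) = 0)
    (hlift : ∀ {B C : Type u} [CommRing B] [Algebra R B] [CommRing C] [Algebra R C]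
      (φ : B₀ →ₐ[R] B) (ψ : B →ₐ[R] C) (_ : Function.Surjective ψ) (_ : RingHom.ker ψ ^ 2 = ⊥)
      (ξ : InfAut R A B) (g₀ : Pt R A C) (c₀ : P.rootSpan ℤ →+ C) (y₀ : InfAut R A C)
      (_ : D.IsDiag (ψ.comp φ) c₀ y₀) (_ : ∀ a, IsUnit (c₀ (P.rootSpanMem ℤ a)))
      (_ : InfAut.map ψ ξ = InfAut.Ad g₀ y₀),
      ∃ (g : Pt R A B) (c : P.rootSpan ℤ →+ B) (y : InfAut R A B), D.IsDiag φ c y ∧
        Pt.map ψ g = g₀ ∧ (∀ q, ψ (c q) = c₀ q) ∧ ξ = InfAut.Ad g y)
    (x : InfAut R A B₀) :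
    ∃ (E : Type u) (_ : CommRing E) (_ : Algebra R E) (φE : B₀ →ₐ[R] E),
      φE.toRingHom.Smooth ∧ D.IsReg φE (InfAut.map φE x) ∧
      ∀ {B' : Type u} [CommRing B'] [Algebra R B'] (φ : B₀ →ₐ[R] B'),
        D.IsReg φ (InfAut.map φ x) → ∃ θ : E →ₐ[R] B', θ.comp φE = φ := by
  obtain ⟨T, _, _, φu, gu, cu, hfp, hcu, hex, hun⟩ := exists_univ b R A B₀
  obtain ⟨yu, hyu⟩ := hdiag φu cu
  obtain ⟨n, z, hz⟩ := hzero φu (InfAut.Ad gu yu - InfAut.map φu x)
  let J : Ideal T := Ideal.span (Set.range z)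
  let π : T →ₐ[R] T ⧸ J := Ideal.Quotient.mkₐ R J
  have hπ0 : InfAut.Ad (Pt.map π gu) (InfAut.map π yu) = InfAut.map (π.comp φu) x := by
    have h1 : InfAut.map π (InfAut.Ad gu yu - InfAut.map φu x) = 0 :=
      (hz π).mpr fun j => Ideal.Quotient.eq_zero_iff_mem.mpr (Ideal.subset_span ⟨j, rfl⟩)
    rw [map_sub, sub_eq_zero, InfAut.map_Ad, InfAut.map_map] at h1
    exact h1
  have hJ : J.FG := ⟨(Set.finite_range z).toFinset, by simp [J]⟩
  refine ⟨T ⧸ J, inferInstance, inferInstance, π.comp φu, ?_, ?_, ?_⟩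
  · have hfp2 : (π.comp φu).toRingHom.FinitePresentation := by
      have h1 : π.toRingHom.FinitePresentation := by
        refine RingHom.FinitePresentation.of_surjective _ Ideal.Quotient.mk_surjective ?_
        have : RingHom.ker π.toRingHom = J := Ideal.mk_ker
        rw [this]
        exact hJ
      exact h1.comp hfp
    let : Algebra B₀ (T ⧸ J) := (π.comp φu).toRingHom.toAlgebra
    have hfs : Algebra.FormallySmooth B₀ (T ⧸ J) := by
      rw [Algebra.FormallySmooth.iff_comp_surjective]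
      intro B _ _ I hI f
      let : Algebra R B := ((algebraMap B₀ B).comp (algebraMap R B₀)).toAlgebra
      let φ : B₀ →ₐ[R] B := { algebraMap B₀ B with commutes' := fun r => rfl }
      let ψ : B →ₐ[R] B ⧸ I := Ideal.Quotient.mkₐ R I
      let f' : (T ⧸ J) →ₐ[R] B ⧸ I :=
        { f.toRingHom with
          commutes' := fun r => by
            have h1 : algebraMap R (T ⧸ J) r = (π.comp φu) (algebraMap R B₀ r) :=
              ((π.comp φu).commutes r).symm
            change f (algebraMap R (T ⧸ J) r) = _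
            rw [h1]
            exact f.commutes (algebraMap R B₀ r) }
      have hf' : (f'.comp π).comp φu = ψ.comp φ := by
        ext r
        exact f.commutes r
      have hy0 : D.IsDiag (ψ.comp φ) ((f'.comp π : T →+ B ⧸ I).comp cu)
          (InfAut.map (f'.comp π) yu) := by
        rw [← hf']
        exact hyu.map (f'.comp π) (fun _ => rfl)
      have h0 : InfAut.map ψ (InfAut.map φ x) =
          InfAut.Ad (Pt.map (f'.comp π) gu) (InfAut.map (f'.comp π) yu) := by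
        have h1 := congrArg (InfAut.map f') hπ0
        rw [InfAut.map_Ad, InfAut.map_map, InfAut.map_map] at h1
        rw [InfAut.map_map, ← hf']
        exact h1.symm
      obtain ⟨g, c, y, hy, hg, hc, hgy⟩ := hlift φ ψ Ideal.Quotient.mk_surjective
        (by
          have : RingHom.ker ψ = I := Ideal.mk_ker
          rw [this, hI]) _ _ _ _ hy0 (fun a => (hcu a).map (f'.comp π)) h0
      have hcunit : ∀ a, IsUnit (c (P.rootSpanMem ℤ a)) := by
        intro a
        have h1 : IsUnit (ψ (c (P.rootSpanMem ℤ a))) := by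
          rw [hc]
          exact (hcu a).map (f'.comp π)
        exact (IsNilpotent.isUnit_quotient_mk_iff ⟨2, hI⟩).mp h1
      obtain ⟨θ, h1, h2, h3⟩ := hex φ g c hcunit
      have h4 : InfAut.map θ yu = y := by
        refine huniq φ c _ _ ?_ hy
        have := hyu.map θ (c' := c) (fun q => (h3 q).symm)
        rwa [h1] at this
      have h5 : ∀ j, θ (z j) = 0 := by
        refine (hz θ).mp ?_
        rw [map_sub, InfAut.map_Ad, h2, h4, InfAut.map_map, h1, hgy, sub_self]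
      have h6 : J ≤ RingHom.ker θ := by
        rw [Ideal.span_le]
        rintro _ ⟨j, rfl⟩
        exact h5 j
      have h7 : ψ.comp θ = f'.comp π := by
        apply hun
        · rw [AlgHom.comp_assoc, h1, hf']
        · change Pt.map ψ (Pt.map θ gu) = _
          rw [h2, hg]
        · intro q
          change ψ (θ (cu q)) = _
          rw [h3, hc]
          rfl
      refine ⟨{ Ideal.Quotient.lift J θ.toRingHom h6 with
        commutes' := fun r => ?_ }, ?_⟩
      · exact congrArg (fun k : B₀ →ₐ[R] B => k r) h1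
      · apply AlgHom.ext
        intro t
        obtain ⟨t, rfl⟩ := Ideal.Quotient.mk_surjective t
        exact congrArg (fun k : T →ₐ[R] B ⧸ I => k t) h7
    exact ⟨hfs, hfp2⟩
  · exact ⟨Pt.map π gu, (π : T →+ T ⧸ J).comp cu, InfAut.map π yu, hyu.map π (fun _ => rfl),
      fun a => (hcu a).map π, hπ0.symm⟩
  · rintro B' _ _ φ ⟨g, c, y, hy, hc, hgy⟩
    obtain ⟨θ, h1, h2, h3⟩ := hex φ g c hc
    have h4 : InfAut.map θ yu = y := by
      refine huniq φ c _ _ ?_ hy
      have := hyu.map θ (c' := c) (fun q => (h3 q).symm)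
      rwa [h1] at this
    have h5 : ∀ j, θ (z j) = 0 := by
      refine (hz θ).mp ?_
      rw [map_sub, InfAut.map_Ad, h2, h4, InfAut.map_map, h1, hgy, sub_self]
    have h6 : J ≤ RingHom.ker θ := by
      rw [Ideal.span_le]
      rintro _ ⟨j, rfl⟩
      exact h5 j
    exact ⟨Ideal.Quotient.liftₐ J θ h6, by rw [← h1]; rfl⟩

/-- étale form -/
theorem RCell.exists_etale' (D : RCell P b R A B₀) [Algebra.FinitePresentation R A]
    (hdiag : ∀ {B : Type u} [CommRing B] [Algebra R B] (φ : B₀ →ₐ[R] B) (c : P.rootSpan ℤ →+ B),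
      ∃ y : InfAut R A B, D.IsDiag φ c y)
    (huniq : ∀ {B : Type u} [CommRing B] [Algebra R B] (φ : B₀ →ₐ[R] B) (c : P.rootSpan ℤ →+ B)
      (y y' : InfAut R A B), D.IsDiag φ c y → D.IsDiag φ c y' → y = y')
    (hzero : ∀ {B : Type u} [CommRing B] [Algebra R B] (_ : B₀ →ₐ[R] B) (x : InfAut R A B),
      ∃ (n : ℕ) (z : Fin n → B), ∀ {B' : Type u} [CommRing B'] [Algebra R B'] (ψ : B →ₐ[R] B'),
        InfAut.map ψ x = 0 ↔ ∀ j, ψ (z j) = 0)
    (hlift : ∀ {B C : Type u} [CommRing B] [Algebra R B] [CommRing C] [Algebra R C]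
      (φ : B₀ →ₐ[R] B) (ψ : B →ₐ[R] C) (_ : Function.Surjective ψ) (_ : RingHom.ker ψ ^ 2 = ⊥)
      (ξ : InfAut R A B) (g₀ : Pt R A C) (c₀ : P.rootSpan ℤ →+ C) (y₀ : InfAut R A C)
      (_ : D.IsDiag (ψ.comp φ) c₀ y₀) (_ : ∀ a, IsUnit (c₀ (P.rootSpanMem ℤ a)))
      (_ : InfAut.map ψ ξ = InfAut.Ad g₀ y₀),
      ∃ (g : Pt R A B) (c : P.rootSpan ℤ →+ B) (y : InfAut R A B), D.IsDiag φ c y ∧
        Pt.map ψ g = g₀ ∧ (∀ q, ψ (c q) = c₀ q) ∧ ξ = InfAut.Ad g y)
    (x : InfAut R A B₀) (K : Type u) [Field K] [Algebra R K] (κ : B₀ →ₐ[R] K)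
    (hK : D.IsReg κ (InfAut.map κ x)) :
    ∃ (B₁ : Type u) (_ : CommRing B₁) (_ : Algebra R B₁) (ψ : B₀ →ₐ[R] B₁), ψ.toRingHom.Etale ∧
      (∃ q : PrimeSpectrum B₁, q.asIdeal.comap ψ.toRingHom = RingHom.ker κ) ∧
      D.IsReg ψ (InfAut.map ψ x) := by
  obtain ⟨E, _, _, φE, hsm, hreg, hpt⟩ := D.exists_smooth hdiag huniq hzero hlift x
  obtain ⟨θ, hθ⟩ := hpt κ hK
  let : Algebra B₀ E := φE.toRingHom.toAlgebra
  have : Algebra.Smooth B₀ E := hsm
  obtain ⟨B₁, _, _, s, q₁, het, hq₁⟩ :=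
    EtSec.exists_etale_section (B := B₀) (C := E) ⟨RingHom.ker θ, RingHom.ker_isPrime _⟩
  let : Algebra R B₁ := ((algebraMap B₀ B₁).comp (algebraMap R B₀)).toAlgebra
  let ψ : B₀ →ₐ[R] B₁ := { algebraMap B₀ B₁ with commutes' := fun r => rfl }
  let s' : E →ₐ[R] B₁ :=
    { s.toRingHom with
      commutes' := fun r => by
        have h1 : algebraMap R E r = φE (algebraMap R B₀ r) := (φE.commutes r).symm
        change s (algebraMap R E r) = _
        rw [h1]
        exact s.commutes (algebraMap R B₀ r) }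
  have hs : s'.comp φE = ψ := by
    ext r
    exact s.commutes r
  refine ⟨B₁, inferInstance, inferInstance, ψ, ?_, ⟨q₁, ?_⟩, ?_⟩
  · exact RingHom.etale_algebraMap.mpr het
  · have h1 := congrArg PrimeSpectrum.asIdeal hq₁
    refine h1.trans ?_
    ext r
    change θ (φE r) = 0 ↔ κ r = 0
    rw [← hθ]
    rfl
  · have h1 := hreg.map s'
    rw [InfAut.map_map, hs] at h1
    exact h1

end smooth

section infinite

variable {k K A : Type u} [Field k] [Infinite k] [Field K] [IsAlgClosed K] [Algebra k K]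
    [CommRing A] [Algebra k A] [PtGrp k A]

/-- rational regular elements over an infinite field -/
theorem RCell.exists_isReg_of_infinite' [Algebra.FinitePresentation k A] (D : RCell P b k A K)
    (hdiag : ∀ {B : Type u} [CommRing B] [Algebra k B] (φ : K →ₐ[k] B) (c : P.rootSpan ℤ →+ B),
      ∃ y : InfAut k A B, D.IsDiag φ c y)
    (huniq : ∀ {B : Type u} [CommRing B] [Algebra k B] (φ : K →ₐ[k] B) (c : P.rootSpan ℤ →+ B)
      (y y' : InfAut k A B), D.IsDiag φ c y → D.IsDiag φ c y' → y = y')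
    (hzero : ∀ {B : Type u} [CommRing B] [Algebra k B] (_ : K →ₐ[k] B) (x : InfAut k A B),
      ∃ (n : ℕ) (z : Fin n → B), ∀ {B' : Type u} [CommRing B'] [Algebra k B'] (ψ : B →ₐ[k] B'),
        InfAut.map ψ x = 0 ↔ ∀ j, ψ (z j) = 0)
    (hlift : ∀ {B C : Type u} [CommRing B] [Algebra k B] [CommRing C] [Algebra k C]
      (φ : K →ₐ[k] B) (ψ : B →ₐ[k] C) (_ : Function.Surjective ψ) (_ : RingHom.ker ψ ^ 2 = ⊥)
      (ξ : InfAut k A B) (g₀ : Pt k A C) (c₀ : P.rootSpan ℤ →+ C) (y₀ : InfAut k A C)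
      (_ : D.IsDiag (ψ.comp φ) c₀ y₀) (_ : ∀ a, IsUnit (c₀ (P.rootSpanMem ℤ a)))
      (_ : InfAut.map ψ ξ = InfAut.Ad g₀ y₀),
      ∃ (g : Pt k A B) (c : P.rootSpan ℤ →+ B) (y : InfAut k A B), D.IsDiag φ c y ∧
        Pt.map ψ g = g₀ ∧ (∀ q, ψ (c q) = c₀ q) ∧ ξ = InfAut.Ad g y)
    (hspan : ∀ x : InfAut k A K, x ∈ Submodule.span K
      (Set.range (InfAut.map (A := A) (Algebra.ofId k K)))) :
    ∃ x : InfAut k A k, D.IsReg (AlgHom.id k K) (InfAut.map (Algebra.ofId k K) x) := by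
  obtain ⟨c, hc⟩ := RegForm.exists_form b K
  obtain ⟨y, hy⟩ := hdiag (AlgHom.id k K) c
  have hyreg : D.IsReg (AlgHom.id k K) y :=
    ⟨1, c, y, hy, fun a => (hc a).isUnit, (InfAut.Ad_one y).symm⟩
  obtain ⟨n, v, lam, hlam⟩ : ∃ (n : ℕ) (v : Fin n → InfAut k A k) (lam : Fin n → K),
      ∑ i, lam i • InfAut.map (Algebra.ofId k K) (v i) = y := by
    obtain ⟨l, hl⟩ := Finsupp.mem_span_range_iff_exists_finsupp.mp (hspan y)
    let e := l.support.equivFin
    refine ⟨l.support.card, fun i => (e.symm i : InfAut k A k), fun i => l (e.symm i), ?_⟩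
    rw [← hl, Finsupp.sum, ← Finset.sum_coe_sort l.support]
    exact Fintype.sum_equiv e.symm _ _ (fun i => rfl)
  let B : Type u := MvPolynomial (Fin n) K
  let ρ : K →ₐ[k] B := IsScalarTower.toAlgHom k K B
  let ξ : InfAut k A B := ∑ i, (MvPolynomial.X i : B) • InfAut.map (Algebra.ofId k B) (v i)
  have hsp : ∀ (χ : B →ₐ[k] K), InfAut.map χ ξ =
      ∑ i, χ (MvPolynomial.X i) • InfAut.map (Algebra.ofId k K) (v i) := by
    intro χ
    rw [map_sum]
    refine Finset.sum_congr rfl fun i _ => ?_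
    have h : χ.comp (Algebra.ofId k B) = Algebra.ofId k K := AlgHom.ext fun r => χ.commutes r
    rw [InfAut.map_smul, InfAut.map_map, h]
  let κ : B →ₐ[k] K := (MvPolynomial.aeval (R := K) lam).restrictScalars k
  have hκρ : κ.comp ρ = AlgHom.id k K := by
    ext r
    change MvPolynomial.aeval lam (algebraMap K B r) = r
    rw [AlgHom.commutes]
    rfl
  have hκ : (D.bc ρ).IsReg κ (InfAut.map κ ξ) := by
    rw [RCell.bc_isReg, hκρ, hsp]
    have : ∀ i, κ (MvPolynomial.X i) = lam i := fun i => MvPolynomial.aeval_X _ _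
    simp only [this]
    rw [hlam]
    exact hyreg
  obtain ⟨B₁, _, _, ψ, het, ⟨q, -⟩, hreg⟩ := (D.bc ρ).exists_etale'
    (fun φ c => hdiag (φ.comp ρ) c) (fun φ c => huniq (φ.comp ρ) c)
    (fun φ x => hzero (φ.comp ρ) x)
    (fun φ ψ h1 h2 ξ g₀ c₀ y₀ h3 h4 h5 => hlift (φ.comp ρ) ψ h1 h2 ξ g₀ c₀ y₀ h3 h4 h5)
    ξ K κ hκ
  let : Algebra B B₁ := ψ.toRingHom.toAlgebra
  have : Algebra.Etale B B₁ := het
  have : Nontrivial B₁ := q.nontrivial
  obtain ⟨z, χ, hχ⟩ := EtSec.exists_rational_point (k := k) (K := K) (ι := Fin n) B₁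
  have hχ' : ∀ p : B, χ (ψ p) = MvPolynomial.eval (fun i => algebraMap k K (z i)) p := hχ
  let χ' : B₁ →ₐ[k] K :=
    { χ with
      commutes' := fun r => by
        have h1 : algebraMap k B₁ r = ψ (algebraMap k B r) := (ψ.commutes r).symm
        change χ (algebraMap k B₁ r) = _
        rw [h1, hχ', IsScalarTower.algebraMap_apply k K B, MvPolynomial.algebraMap_eq,
          MvPolynomial.eval_C] }
  have h1 := hreg.map χ'
  rw [InfAut.map_map, hsp, RCell.bc_isReg] at h1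
  have h2 : (χ'.comp ψ).comp ρ = AlgHom.id k K := by
    ext r
    change χ (ψ (algebraMap K B r)) = r
    rw [hχ', MvPolynomial.algebraMap_eq, MvPolynomial.eval_C]
  have h3 : ∀ i, (χ'.comp ψ) (MvPolynomial.X i) = algebraMap k K (z i) := by
    intro i
    change χ (ψ _) = _
    rw [hχ', MvPolynomial.eval_X]
  refine ⟨∑ i, z i • v i, ?_⟩
  rw [map_sum]
  simp only [InfAut.map_smul]
  rw [h2] at h1
  simp only [h3] at h1
  exact h1

end infinite

end Groth.Agent.Sga3B.MT
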