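import Groth.Agent.Sga3B.MT.Defs2
import Groth.Agent.Sga3B.MT.EtSec
import Groth.Agent.Sga3B.MT.RegForm

/-!
# The universal algebra of triples `(φ : B₀ → B, g ∈ G(B), c : Q → B regular)`
-/

set_option autoImplicit false
universe u

open TensorProduct
open Groth.Agent.Sga3B.Cell

namespace Groth.Agent.Sga3B.MT

variable {idx M : Type} [Fintype idx] [AddCommGroup M]
variable {P : RootPairing idx ℤ M (Module.Dual ℤ M)} (b : P.Base)
    (R A B₀ : Type u) [CommRing R] [CommRing A] [Algebra R A] [CommRing B₀] [Algebra R B₀]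

include b in
/-- The algebra representing the triples `(φ, g, c)`. -/
theorem exists_univ [Algebra.FinitePresentation R A] :
    ∃ (T : Type u) (_ : CommRing T) (_ : Algebra R T) (φu : B₀ →ₐ[R] T) (gu : Pt R A T)
      (cu : P.rootSpan ℤ →+ T),
      φu.toRingHom.FinitePresentation ∧ (∀ a, IsUnit (cu (P.rootSpanMem ℤ a))) ∧
      (∀ {B' : Type u} [CommRing B'] [Algebra R B'] (φ : B₀ →ₐ[R] B') (g : Pt R A B')
        (c : P.rootSpan ℤ →+ B'), (∀ a, IsUnit (c (P.rootSpanMem ℤ a))) →
        ∃ θ : T →ₐ[R] B', θ.comp φu = φ ∧ Pt.map θ gu = g ∧ ∀ q, θ (cu q) = c q) ∧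
      (∀ {B' : Type u} [CommRing B'] [Algebra R B'] (θ θ' : T →ₐ[R] B'),
        θ.comp φu = θ'.comp φu → Pt.map θ gu = Pt.map θ' gu → (∀ q, θ (cu q) = θ' (cu q)) →
          θ = θ') := by
  classical
  let T₀ : Type u := B₀ ⊗[R] A
  let T₁ : Type u := MvPolynomial b.support T₀
  let c₁ : P.rootSpan ℤ →ₗ[ℤ] T₁ := b.toWeightBasisInt.constr ℤ (fun i => MvPolynomial.X i)
  have hc₁ : ∀ i, c₁ (b.toWeightBasisInt i) = MvPolynomial.X i := fun i =>
    b.toWeightBasisInt.constr_basis ℤ _ i
  let d : T₁ := ∏ a : idx, c₁ (P.rootSpanMem ℤ a)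
  let T : Type u := Localization.Away d
  let φ₀ : B₀ →ₐ[R] T₀ := Algebra.TensorProduct.includeLeft
  let g₀ : A →ₐ[R] T₀ := Algebra.TensorProduct.includeRight
  let C₀ : T₀ →ₐ[R] T₁ := IsScalarTower.toAlgHom R T₀ T₁
  let L : T₁ →ₐ[R] T := IsScalarTower.toAlgHom R T₁ T
  let φu : B₀ →ₐ[R] T := L.comp (C₀.comp φ₀)
  let gu : Pt R A T := Pt.mk (L.comp (C₀.comp g₀))
  let cu : P.rootSpan ℤ →+ T := (L : T₁ →+ T).comp c₁.toAddMonoidHom
  have hL : IsUnit (L d) := IsLocalization.Away.algebraMap_isUnit d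
  refine ⟨T, inferInstance, inferInstance, φu, gu, cu, ?_, ?_, ?_, ?_⟩
  · have h1 : φ₀.toRingHom.FinitePresentation := by
      have : Algebra.FinitePresentation B₀ T₀ := inferInstance
      exact RingHom.finitePresentation_algebraMap.mpr this
    have h2 : C₀.toRingHom.FinitePresentation := by
      have : Algebra.FinitePresentation T₀ T₁ := inferInstance
      exact RingHom.finitePresentation_algebraMap.mpr this
    have h3 : L.toRingHom.FinitePresentation := by
      have : Algebra.FinitePresentation T₁ T := IsLocalization.Away.finitePresentation d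
      exact RingHom.finitePresentation_algebraMap.mpr this
    exact h3.comp (h2.comp h1)
  · intro a
    have h1 : L d = ∏ a : idx, L (c₁ (P.rootSpanMem ℤ a)) := map_prod L _ _
    rw [h1] at hL
    exact isUnit_of_dvd_unit (Finset.dvd_prod_of_mem (fun a => L (c₁ (P.rootSpanMem ℤ a)))
      (Finset.mem_univ a)) hL
  · intro B' _ _ φ g c hc
    let θ₀ : T₀ →ₐ[R] B' := evp φ g
    let θ₁ : T₁ →ₐ[R] B' :=
      { MvPolynomial.eval₂Hom θ₀.toRingHom (fun i => c (b.toWeightBasisInt i)) with
        commutes' := fun r => by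
          change MvPolynomial.eval₂Hom θ₀.toRingHom _ (algebraMap R T₁ r) = _
          rw [IsScalarTower.algebraMap_apply R T₀ T₁, MvPolynomial.algebraMap_eq,
            MvPolynomial.eval₂Hom_C]
          exact θ₀.commutes r }
    have hθ₁C : ∀ x, θ₁ (C₀ x) = θ₀ x := fun x => by
      change MvPolynomial.eval₂Hom θ₀.toRingHom _ (algebraMap T₀ T₁ x) = _
      rw [MvPolynomial.algebraMap_eq, MvPolynomial.eval₂Hom_C]
      rfl
    have hθ₁c : ∀ q, θ₁ (c₁ q) = c q := by
      have : (θ₁ : T₁ →+ B').toIntLinearMap ∘ₗ c₁ = c.toIntLinearMap := by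
        apply b.toWeightBasisInt.ext
        intro i
        change θ₁ (c₁ (b.toWeightBasisInt i)) = c (b.toWeightBasisInt i)
        rw [hc₁]
        exact MvPolynomial.eval₂Hom_X' _ _ _
      intro q
      exact congrArg (fun k => k q) this
    have hd : ∀ y : Submonoid.powers d, IsUnit (θ₁ y) := by
      rintro ⟨_, n, rfl⟩
      change IsUnit (θ₁ (d ^ n))
      rw [map_pow]
      apply IsUnit.pow
      change IsUnit (θ₁ (∏ a : idx, c₁ (P.rootSpanMem ℤ a)))
      rw [map_prod]
      refine (IsUnit.prod_univ_iff).mpr fun a => ?_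
      rw [hθ₁c]
      exact hc a
    let θ : T →ₐ[R] B' := IsLocalization.liftAlgHom (M := Submonoid.powers d) (f := θ₁) hd
    have hθ : ∀ x, θ (L x) = θ₁ x := fun x => IsLocalization.lift_eq _ x
    refine ⟨θ, ?_, ?_, ?_⟩
    · ext x
      change θ (L (C₀ (φ₀ x))) = φ x
      rw [hθ, hθ₁C]
      change evp φ g (x ⊗ₜ[R] 1) = φ x
      simp
    · apply Pt.ext
      intro f
      change θ (L (C₀ (g₀ f))) = g.hom f
      rw [hθ, hθ₁C]
      change evp φ g (1 ⊗ₜ[R] f) = g.hom f
      simp
    · intro q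
      change θ (L (c₁ q)) = c q
      rw [hθ, hθ₁c]
  · intro B' _ _ θ θ' h1 h2 h3
    have e0 : (θ.comp L).comp C₀ = (θ'.comp L).comp C₀ := by
      apply Algebra.TensorProduct.ext
      · exact h1
      · ext f
        exact congrArg (fun k : Pt R A B' => k.hom f) h2
    have e1 : θ.comp L = θ'.comp L := by
      have e1' : (θ.comp L).toRingHom = (θ'.comp L).toRingHom := by
        apply MvPolynomial.ringHom_ext
        · intro x
          exact congrArg (fun k : T₀ →ₐ[R] B' => k x) e0
        · intro i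
          have := h3 (b.toWeightBasisInt i)
          change θ (L (c₁ (b.toWeightBasisInt i))) = θ' (L (c₁ (b.toWeightBasisInt i))) at this
          rw [hc₁] at this
          exact this
      exact AlgHom.ext fun x => congrArg (fun k : T₁ →+* B' => k x) e1'
    have e2 : θ.toRingHom = θ'.toRingHom := by
      apply IsLocalization.ringHom_ext (Submonoid.powers d)
      exact congrArg AlgHom.toRingHom e1
    exact AlgHom.ext fun x => congrArg (fun k : T →+* B' => k x) e2

end Groth.Agent.Sga3B.MT
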