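import Groth.Agent.Sga3B.MT.InfCell
import Groth.Agent.Sga3B.MT.DiagFin

/-!
# The structure of `InfAut` for a split group, part A: the torus and root groups

* `Ad_uu_diag`: `Ad (u_a(w)) d_c = d_c + ad (- c_a w e_a)`.
* `Ad_prodU_diag`: the same for products with `w` in an ideal of square zero.
-/

set_option autoImplicit false
set_option linter.unusedSectionVars false
universe u

open TensorProduct TrivSqZeroExt
open Groth.Agent.Sga3B.Cell

namespace Groth.Agent.Sga3B.MT

variable {idx M : Type} [Fintype idx] [AddCommGroup M] [Module.Free ℤ M] [Module.Finite ℤ M]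
variable {P : RootPairing idx ℤ M (Module.Dual ℤ M)} {b : P.Base}
    {R A B₀ : Type u} [CommRing R] [CommRing A] [Algebra R A] [CommRing B₀] [Algebra R B₀]
    [PtGrp R A]

namespace InfAut

variable {B : Type u} [CommRing B] [Algebra R B]

lemma ad_congr {v w : Pt R A (Eps B)} (h : v = w) (hv : IsKer v) (hw : IsKer w) :
    ad v hv = ad w hw := by
  subst h; rfl

lemma ad_one : ad (1 : Pt R A (Eps B)) isKer_one = 0 := by
  apply ext_app
  intro B' _ _ φ h
  rw [app_ad, app_zero, Pt.map_one]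
  simp

end InfAut

namespace RCell

open InfAut

variable (D : RCell P b R A B₀)
variable {B C : Type u} [CommRing B] [Algebra R B] [CommRing C] [Algebra R C] (φ : B₀ →ₐ[R] B)

/-- the Lie algebra element `z e_a` -/
noncomputable def uk (a : idx) (z : B) : Pt R A (Eps B) := D.uu a ((eInl R B).comp φ) (inr z)

lemma isKer_uk (a : idx) (z : B) : IsKer (D.uk φ a z) := D.isKer_uu φ a z

lemma uk_nat (ψ : B →ₐ[R] C) (a : idx) (z : B) :
    Pt.map (eMap ψ) (D.uk φ a z) = D.uk (ψ.comp φ) a (ψ z) := by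
  unfold uk
  rw [D.uu_nat]
  have e : (eMap ψ).comp ((eInl R B).comp φ) = (eInl R C).comp (ψ.comp φ) := by
    rw [← AlgHom.comp_assoc, eMap_comp_eInl, AlgHom.comp_assoc]
  rw [e]
  congr 1
  ext <;> simp

lemma uk_neg (a : idx) (z : B) : D.uk φ a (-z) = (D.uk φ a z)⁻¹ := by
  unfold uk
  rw [inr_neg, D.uu_neg]

lemma inl_uu (a : idx) (z : B) :
    Pt.map (eInl R B) (D.uu a φ z) = D.uu a ((eInl R B).comp φ) (inl z) := by
  rw [D.uu_nat]
  rfl

lemma IsDiag.app_uu {D : RCell P b R A B₀} {φ : B₀ →ₐ[R] B} {c : P.rootSpan ℤ →+ B}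
    {y : InfAut R A B} (hy : D.IsDiag φ c y) (ψ : B →ₐ[R] C) (a : idx) (z : C) :
    y.app ψ (D.uu a (ψ.comp φ) z) =
      D.uk (ψ.comp φ) a (ψ (c (P.rootSpanMem ℤ a)) * z) *
        Pt.map (eInl R C) (D.uu a (ψ.comp φ) z) := by
  rw [hy.2 a ψ z, inl_uu, uk, ← D.uu_add, add_comm]

lemma uu_comm (a : idx) (x y : B) : D.uu a φ x * D.uu a φ y = D.uu a φ y * D.uu a φ x := by
  rw [← D.uu_add, ← D.uu_add, add_comm]

/-- **conjugation of `d_c` by a root group element** -/
theorem IsDiag.Ad_uu {D : RCell P b R A B₀} {φ : B₀ →ₐ[R] B} {c : P.rootSpan ℤ →+ B}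
    {y : InfAut R A B} (hy : D.IsDiag φ c y) (a : idx) (w : B) :
    Ad (D.uu a φ w) y = y + ad (D.uk φ a (-(c (P.rootSpanMem ℤ a) * w))) (D.isKer_uk φ a _) := by
  apply ext_coc
  intro B' _ _ ψ h
  rw [coc_add, coc_ad, coc, app_Ad, uk_nat, map_neg, uk_neg, inv_inv, map_mul]
  have e1 : Pt.map ψ (D.uu a φ w) = D.uu a (ψ.comp φ) (ψ w) := D.uu_nat a φ ψ w
  have e2 : inlPt ψ (D.uu a φ w) = Pt.map (eInl R B') (D.uu a (ψ.comp φ) (ψ w)) := by
    rw [← e1]; rfl
  rw [e1, e2, _root_.map_mul, _root_.map_mul, _root_.map_inv, hy.app_uu ψ a (ψ w)]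
  set g := Pt.map (eInl R B') (D.uu a (ψ.comp φ) (ψ w)) with hg
  set k := D.uk (ψ.comp φ) a (ψ (c (P.rootSpanMem ℤ a)) * ψ w) with hk
  have hkker : IsKer k := D.isKer_uk _ a _
  set H := Pt.map (eInl R B') h with hH
  have hc : y.coc ψ h * k⁻¹ = k⁻¹ * y.coc ψ h := (y.isKer_coc ψ h).commute hkker.inv
  have e3 : y.app ψ h = y.coc ψ h * H := app_eq_coc_mul _ _ _
  rw [e3]
  calc g * ((k * g)⁻¹ * (y.coc ψ h * H) * (k * g)) * g⁻¹ * H⁻¹
      = g * (k * g)⁻¹ * (y.coc ψ h) * H * k * H⁻¹ := by group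
    _ = k⁻¹ * (y.coc ψ h) * H * k * H⁻¹ := by group
    _ = y.coc ψ h * (k⁻¹ * (H * k * H⁻¹)) := by rw [← hc]; group

/-- the difference of `u_a(x)` with the unit is divisible by `x`. -/
lemma exists_uu_sub (a : idx) (x : B) (f : A) :
    ∃ q, (D.uu a φ x).hom f - algebraMap R B (ez R A f) = x * q := by
  let κ : B →ₐ[R] Polynomial B := (Polynomial.CAlgHom (R := B) (A := B)).restrictScalars R
  let e : B → (Polynomial B →ₐ[R] B) := fun c => (Polynomial.aeval (R := B) c).restrictScalars R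
  have he : ∀ (c : B) (p : Polynomial B), e c p = p.eval c := by
    intro c p
    change Polynomial.aeval c p = _
    simp [Polynomial.aeval_def, Polynomial.eval₂_eq_eval_map]
  have heκ : ∀ c : B, ((e c).comp κ).comp φ = φ := by
    intro c
    refine AlgHom.ext fun z => ?_
    change e c (Polynomial.C (φ z)) = φ z
    rw [he, Polynomial.eval_C]
  let F : Polynomial B := (D.uu a (κ.comp φ) Polynomial.X).hom f
  have hF : ∀ c : B, F.eval c = (D.uu a φ c).hom f := by
    intro c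
    have h1 := D.uu_nat a (κ.comp φ) (e c) Polynomial.X
    rw [he, Polynomial.eval_X, ← AlgHom.comp_assoc, heκ] at h1
    rw [← h1, Pt.map_hom_apply, he]
  obtain ⟨Q, hQ⟩ : Polynomial.X ∣ F - Polynomial.C (F.eval 0) := by
    rw [Polynomial.X_dvd_iff, Polynomial.coeff_sub, Polynomial.coeff_C_zero,
      Polynomial.coeff_zero_eq_eval_zero, sub_self]
  refine ⟨Q.eval x, ?_⟩
  have h2 := congrArg (Polynomial.eval x) hQ
  rw [Polynomial.eval_sub, Polynomial.eval_C, Polynomial.eval_mul, Polynomial.eval_X, hF, hF] at h2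
  have h3 : (D.uu a φ (0 : B)).hom f = algebraMap R B (ez R A f) := by
    rw [D.uu_zero' φ a, one_hom_apply]
  rw [← h2, h3]

/-- root group elements with orthogonal parameters commute -/
lemma uu_comm_of_mul_eq_zero (a c : idx) (x y : B) (h : x * y = 0) :
    D.uu a φ x * D.uu c φ y = D.uu c φ y * D.uu a φ x := by
  apply mul_comm_of_orth
  intro f f'
  obtain ⟨q, hq⟩ := D.exists_uu_sub φ a x f
  obtain ⟨q', hq'⟩ := D.exists_uu_sub φ c y f'
  rw [hq, hq', mul_mul_mul_comm, h, zero_mul]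

lemma conj_uk_of_mul_eq_zero (a c : idx) (x y : B) (h : x * y = 0) :
    Pt.map (eInl R B) (D.uu a φ x) * D.uk φ c y * (Pt.map (eInl R B) (D.uu a φ x))⁻¹ =
      D.uk φ c y := by
  rw [inl_uu, uk, D.uu_comm_of_mul_eq_zero ((eInl R B).comp φ) a c (inl x) (inr y) (by
    ext
    · simp
    · simpa [mul_comm] using h), mul_inv_cancel_right]

/-- product of Lie algebra elements along a list -/
lemma isKer_prod_uk (L : List idx) (z : idx → B) :
    IsKer ((L.map (fun a => D.uk φ a (z a))).prod) := D.isKer_prod φ L z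

lemma conj_prod_uk_of_mul_eq_zero (a : idx) (x : B) (L : List idx) (z : idx → B)
    (h : ∀ c, x * z c = 0) :
    Pt.map (eInl R B) (D.uu a φ x) * (L.map (fun c => D.uk φ c (z c))).prod *
      (Pt.map (eInl R B) (D.uu a φ x))⁻¹ = (L.map (fun c => D.uk φ c (z c))).prod := by
  induction L with
  | nil => simp
  | cons c l ih =>
    rw [List.map_cons, List.prod_cons]
    conv_rhs => rw [← ih, ← D.conj_uk_of_mul_eq_zero φ a c x (z c) (h c)]
    group

theorem IsDiag.Ad_list {D : RCell P b R A B₀} {φ : B₀ →ₐ[R] B} {c : P.rootSpan ℤ →+ B}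
    {y : InfAut R A B} (hy : D.IsDiag φ c y) (w : idx → B) (hw : ∀ a a', w a * w a' = 0)
    (L : List idx) :
    Ad ((L.map (fun a => D.uu a φ (w a))).prod) y =
      y + ad ((L.map (fun a => D.uk φ a (-(c (P.rootSpanMem ℤ a) * w a)))).prod)
        (D.isKer_prod φ L _) := by
  induction L with
  | nil =>
    simp only [List.map_nil, List.prod_nil]
    rw [Ad_one, ad_one, add_zero]
  | cons a l ih =>
    simp only [List.map_cons, List.prod_cons]
    rw [Ad_mul, ih, Ad_add, hy.Ad_uu, Ad_ad]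
    rw [ad_congr (D.conj_prod_uk_of_mul_eq_zero φ a (w a) l
      (fun a => -(c (P.rootSpanMem ℤ a) * w a)) (fun a' => by
        rw [mul_neg, mul_left_comm, hw, mul_zero, neg_zero])) _ (D.isKer_prod φ l _)]
    rw [add_assoc, ← ad_mul]

/-- **conjugation of `d_c` by an infinitesimal unipotent element** -/
theorem IsDiag.Ad_prodU {D : RCell P b R A B₀} {φ : B₀ →ₐ[R] B} {c : P.rootSpan ℤ →+ B}
    {y : InfAut R A B} (hy : D.IsDiag φ c y) (w : idx → B) (hw : ∀ a a', w a * w a' = 0) :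
    Ad (D.prodU φ w) y = y + ad (D.lie φ (fun a => -(c (P.rootSpanMem ℤ a) * w a)) 0)
      (D.isKer_lie φ _ _) := by
  unfold prodU
  rw [hy.Ad_list w hw]
  congr 1
  apply ad_congr
  unfold lie
  rw [lieT_zero, map_one, mul_one]
  rfl

end RCell

end Groth.Agent.Sga3B.MT
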