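import Groth.Agent.Sga3B.MT.StructA
import Groth.Agent.Sga3B.PinComb829
import Mathlib.Algebra.Polynomial.AlgebraMap

/-!
# The structure of `InfAut` for a split group, part B

Restriction of an infinitesimal automorphism to the torus (vanishing of `H¹`) and to the root groups.
-/

set_option autoImplicit false
set_option linter.unusedSectionVars false
universe u

open TensorProduct TrivSqZeroExt
open Groth.Agent.Sga3B.Cell

namespace Groth.Agent.Sga3B.MT

section co

variable {B : Type u} [CommRing B] {G : Type} [CommGroup G]

/-- the coefficient at `g` -/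
noncomputable def co (g : G) : MonoidAlgebra B G →+ B where
  toFun x := x.coeff g
  map_zero' := by simp
  map_add' x y := by simp

open Classical in
lemma co_single (g g' : G) (z : B) : co g (MonoidAlgebra.single g' z) = if g' = g then z else 0 := by
  simp [co, Finsupp.single_apply]

lemma co_single_one_mul (g : G) (y : B) (w : MonoidAlgebra B G) :
    co g (MonoidAlgebra.single 1 y * w) = y * co g w := by
  classical
  induction w using MonoidAlgebra.induction_linear with
  | zero => simp
  | add f f' h h' => rw [mul_add, map_add, map_add, h, h', mul_add]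
  | single g' z =>
    rw [MonoidAlgebra.single_mul_single, one_mul, co_single, co_single]
    split_ifs <;> simp


variable {R : Type u} [CommRing R] [Algebra R B]

open Diag

/-- the constants in two variables -/
noncomputable def kap2 (R B : Type u) (G : Type) [CommRing R] [CommRing B] [Algebra R B]
    [CommGroup G] : B →ₐ[R] MonoidAlgebra (MonoidAlgebra B G) G :=
  (cs R (MonoidAlgebra B G) G).comp (cs R B G)

/-- first variable -/
noncomputable def chS (B : Type u) (G : Type) [CommRing B] [CommGroup G] :
    G →* MonoidAlgebra (MonoidAlgebra B G) G where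
  toFun g := MonoidAlgebra.single 1 (MonoidAlgebra.single g 1)
  map_one' := rfl
  map_mul' g g' := by
    rw [MonoidAlgebra.single_mul_single, MonoidAlgebra.single_mul_single, one_mul, one_mul]

/-- second variable -/
noncomputable def chT (B : Type u) (G : Type) [CommRing B] [CommGroup G] :
    G →* MonoidAlgebra (MonoidAlgebra B G) G := MonoidAlgebra.of (MonoidAlgebra B G) G

lemma co_chS (z : MonoidAlgebra B G) : co 1 (ev (kap2 R B G) (chS B G) z) = z := by
  classical
  induction z using MonoidAlgebra.induction_linear with
  | zero => simp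
  | add f f' h h' => simp only [map_add, h, h']
  | single g z =>
    rw [ev_single]
    have : kap2 R B G z * chS B G g = MonoidAlgebra.single 1 (MonoidAlgebra.single g z) := by
      change MonoidAlgebra.single 1 (MonoidAlgebra.single 1 z) *
        MonoidAlgebra.single 1 (MonoidAlgebra.single g 1) = _
      rw [MonoidAlgebra.single_mul_single, MonoidAlgebra.single_mul_single, one_mul, one_mul, mul_one]
    rw [this, co_single, if_pos rfl]

lemma ev_chS (z : MonoidAlgebra B G) : ev (kap2 R B G) (chS B G) z = MonoidAlgebra.single 1 z := by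
  classical
  induction z using MonoidAlgebra.induction_linear with
  | zero => simp
  | add f f' h h' => rw [map_add, h, h', MonoidAlgebra.single_add]
  | single g z =>
    rw [ev_single]
    change MonoidAlgebra.single 1 (MonoidAlgebra.single 1 z) *
        MonoidAlgebra.single 1 (MonoidAlgebra.single g 1) = _
    rw [MonoidAlgebra.single_mul_single, MonoidAlgebra.single_mul_single, one_mul, one_mul, mul_one]

lemma co_chT (z : MonoidAlgebra B G) :
    co 1 (ev (kap2 R B G) (chT B G) z) = MonoidAlgebra.single 1 (co 1 z) := by
  classical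
  induction z using MonoidAlgebra.induction_linear with
  | zero => simp
  | add f f' h h' => simp only [map_add, h, h', MonoidAlgebra.single_add]
  | single g z =>
    rw [ev_single]
    have : kap2 R B G z * chT B G g = MonoidAlgebra.single g (MonoidAlgebra.single 1 z) := by
      change MonoidAlgebra.single 1 (MonoidAlgebra.single 1 z) * MonoidAlgebra.single g 1 = _
      rw [MonoidAlgebra.single_mul_single, one_mul, mul_one]
    rw [this, co_single, co_single]
    split_ifs
    · rfl
    · rw [MonoidAlgebra.single_zero]

lemma co_chST (z : MonoidAlgebra B G) :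
    co 1 (ev (kap2 R B G) (chS B G * chT B G) z) = MonoidAlgebra.single 1 (co 1 z) := by
  classical
  induction z using MonoidAlgebra.induction_linear with
  | zero => simp
  | add f f' h h' => simp only [map_add, h, h', MonoidAlgebra.single_add]
  | single g z =>
    rw [ev_single]
    have : kap2 R B G z * (chS B G * chT B G) g =
        MonoidAlgebra.single g (MonoidAlgebra.single g z) := by
      change MonoidAlgebra.single 1 (MonoidAlgebra.single 1 z) *
        (MonoidAlgebra.single 1 (MonoidAlgebra.single g 1) * MonoidAlgebra.single g 1) = _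
      rw [MonoidAlgebra.single_mul_single, MonoidAlgebra.single_mul_single, one_mul, one_mul,
        mul_one, MonoidAlgebra.single_mul_single, one_mul, mul_one]
    rw [this, co_single, co_single]
    split_ifs with hg
    · rw [hg]
    · rw [MonoidAlgebra.single_zero]

end co

variable {idx M : Type} [Fintype idx] [AddCommGroup M] [Module.Free ℤ M] [Module.Finite ℤ M]
variable {P : RootPairing idx ℤ M (Module.Dual ℤ M)} {b : P.Base}
    {R A B₀ : Type u} [CommRing R] [CommRing A] [Algebra R A] [CommRing B₀] [Algebra R B₀]
    [PtGrp R A]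

namespace RCell

open InfAut Diag

variable (D : RCell P b R A B₀)
variable {B C : Type u} [CommRing B] [Algebra R B] [CommRing C] [Algebra R C] (φ : B₀ →ₐ[R] B)

/-- the character of a torus point -/
def chm {B' : Type u} [CommRing B'] (t : TPt M B') : Multiplicative M →* B' :=
  (Units.coeHom B').comp t

lemma chm_mul {B' : Type u} [CommRing B'] (s t : TPt M B') : chm (s * t) = chm s * chm t := rfl

lemma exists_coords (x : InfAut R A B) : ∃ (Z : idx → MonoidAlgebra B (Multiplicative M))
    (H : M →+ MonoidAlgebra B (Multiplicative M)),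
    ∀ {B' : Type u} [CommRing B'] [Algebra R B'] (ψ : B →ₐ[R] B') (t : TPt M B'),
      x.coc ψ (D.i (ψ.comp φ) t) = D.lie (ψ.comp φ) (fun a => ev ψ (chm t) (Z a))
        ((ev ψ (chm t) : MonoidAlgebra B (Multiplicative M) →+ B').comp H) := by
  obtain ⟨Z, H, hv⟩ := D.exists_lie ((cs R B (Multiplicative M)).comp φ)
    (x.coc (cs R B (Multiplicative M)) (D.i ((cs R B (Multiplicative M)).comp φ)
      (tg B (MonoidHom.id (Multiplicative M))))) (isKer_coc _ _ _)
  refine ⟨Z, H, ?_⟩
  intro B' _ _ ψ t
  have h1 := congrArg (Pt.map (eMap (ev ψ (chm t)))) hv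
  rw [coc_nat, D.lie_nat, D.i_nat, ← AlgHom.comp_assoc, ev_comp_cs, map_ev_tg] at h1
  have h2 : ((chm t).comp (MonoidHom.id (Multiplicative M))).toHomUnits = t := by
    apply TPt.ext_ch
    intro m
    rfl
  rw [h2] at h1
  exact h1

variable {D φ} in
lemma coords_mul {x : InfAut R A B} {Z : idx → MonoidAlgebra B (Multiplicative M)}
    {H : M →+ MonoidAlgebra B (Multiplicative M)}
    (h : ∀ {B' : Type u} [CommRing B'] [Algebra R B'] (ψ : B →ₐ[R] B') (t : TPt M B'),
      x.coc ψ (D.i (ψ.comp φ) t) = D.lie (ψ.comp φ) (fun a => ev ψ (chm t) (Z a))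
        ((ev ψ (chm t) : MonoidAlgebra B (Multiplicative M) →+ B').comp H))
    {B₂ : Type u} [CommRing B₂] [Algebra R B₂] (κ : B →ₐ[R] B₂) (s t : TPt M B₂) :
    (∀ a, ev κ (chm s) (Z a) + TPt.ch (P.root a) s * ev κ (chm t) (Z a) =
      ev κ (chm t) (Z a) + TPt.ch (P.root a) t * ev κ (chm s) (Z a)) ∧
    ∀ m, ev κ (chm (s * t)) (H m) = ev κ (chm s) (H m) + ev κ (chm t) (H m) := by
  have hcoc : ∀ s t : TPt M B₂, x.coc κ (D.i (κ.comp φ) s * D.i (κ.comp φ) t) =
      D.lie (κ.comp φ) (fun a => ev κ (chm s) (Z a) + TPt.ch (P.root a) s * ev κ (chm t) (Z a))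
        ((ev κ (chm s) : MonoidAlgebra B (Multiplicative M) →+ B₂).comp H +
          (ev κ (chm t) : MonoidAlgebra B (Multiplicative M) →+ B₂).comp H) := by
    intro s t
    rw [coc_mul, h, h, D.conj_lie, ← D.lie_add]
    rfl
  have h1 := hcoc s t
  have h2 := hcoc t s
  rw [D.i_comm, h2] at h1
  have h3 := (D.lie_inj _ h1).1
  have h4 := hcoc s t
  rw [← map_mul, h] at h4
  have h5 := (D.lie_inj _ h4).2
  exact ⟨fun a => (congrFun h3 a).symm, fun m => DFunLike.congr_fun h5 m⟩

/-- **`H¹` of the torus with values in the Lie algebra.** -/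
theorem exists_torus_part (x : InfAut R A B) : ∃ z : idx → B,
    ∀ {B' : Type u} [CommRing B'] [Algebra R B'] (ψ : B →ₐ[R] B') (t : TPt M B'),
      x.coc ψ (D.i (ψ.comp φ) t) =
        D.lie (ψ.comp φ) (fun a => ψ (z a) * (TPt.ch (P.root a) t - 1)) 0 := by
  classical
  obtain ⟨Z, H, hgen⟩ := D.exists_coords φ x
  obtain ⟨h1, h2⟩ := coords_mul hgen (kap2 R B (Multiplicative M))
    (chS B (Multiplicative M)).toHomUnits (chT B (Multiplicative M)).toHomUnits
  have es : chm (M := M) (chS B (Multiplicative M)).toHomUnits = chS B (Multiplicative M) := rfl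
  have et : chm (M := M) (chT B (Multiplicative M)).toHomUnits = chT B (Multiplicative M) := rfl
  simp only [chm_mul, es, et] at h1 h2
  have hroot : ∀ a : idx, (Multiplicative.ofAdd (P.root a) : Multiplicative M) ≠ 1 := by
    intro a ha
    exact P.ne_zero a (Multiplicative.ofAdd.injective ha)
  have hZ : ∀ a, Z a = MonoidAlgebra.single 1 (co 1 (Z a)) *
      (1 - MonoidAlgebra.single (Multiplicative.ofAdd (P.root a)) 1) := by
    intro a
    have h6 := congrArg (co (1 : Multiplicative M)) (h1 a)
    rw [map_add, map_add] at h6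
    have e1 : (TPt.ch (P.root a) (chS B (Multiplicative M)).toHomUnits :
        MonoidAlgebra (MonoidAlgebra B (Multiplicative M)) (Multiplicative M)) =
        MonoidAlgebra.single 1 (MonoidAlgebra.single (Multiplicative.ofAdd (P.root a)) 1) := rfl
    have e2 : (TPt.ch (P.root a) (chT B (Multiplicative M)).toHomUnits :
        MonoidAlgebra (MonoidAlgebra B (Multiplicative M)) (Multiplicative M)) =
        MonoidAlgebra.single (Multiplicative.ofAdd (P.root a)) 1 := rfl
    have e3 : co (1 : Multiplicative M) (MonoidAlgebra.single (Multiplicative.ofAdd (P.root a))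
        (1 : MonoidAlgebra B (Multiplicative M)) * MonoidAlgebra.single 1 (Z a)) = 0 := by
      rw [MonoidAlgebra.single_mul_single, co_single, mul_one, if_neg (hroot a)]
    rw [e1, co_single_one_mul, co_chS, co_chT, e2, ev_chS, e3, add_zero] at h6
    rw [mul_sub, mul_one, eq_sub_iff_add_eq, mul_comm (MonoidAlgebra.single 1 _)]
    exact h6
  have hH : H = 0 := by
    apply AddMonoidHom.ext
    intro m
    have h6 := congrArg (co (1 : Multiplicative M)) (h2 m)
    rw [map_add, co_chS, co_chT, co_chST] at h6
    simpa using h6
  refine ⟨fun a => - co 1 (Z a), ?_⟩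
  intro B' _ _ ψ t
  rw [hgen, hH]
  congr 1
  · funext a
    conv_lhs => rw [hZ a]
    rw [map_mul, map_sub, map_one, ev_single, ev_single, map_one, map_one, mul_one, one_mul, map_neg]
    change ψ (co 1 (Z a)) * (1 - TPt.ch (P.root a) t) = _
    ring

end RCell

end Groth.Agent.Sga3B.MT
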