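import Groth.Agent.Sga3B.MT.StructB

/-!
# The structure of `InfAut` for a split group, part C: root groups
-/

set_option autoImplicit false
set_option linter.unusedSectionVars false
universe u

open TensorProduct TrivSqZeroExt Polynomial
open Groth.Agent.Sga3B.Cell

namespace Groth.Agent.Sga3B.MT

variable {idx M : Type} [Fintype idx] [AddCommGroup M] [Module.Free ℤ M] [Module.Finite ℤ M]
variable {P : RootPairing idx ℤ M (Module.Dual ℤ M)} {b : P.Base}
    {R A B₀ : Type u} [CommRing R] [CommRing A] [Algebra R A] [CommRing B₀] [Algebra R B₀]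
    [PtGrp R A]

section pol

variable {R B C E : Type u} [CommRing R] [CommRing B] [Algebra R B] [CommRing C] [Algebra R C]
  [CommRing E] [Algebra R E]

/-- evaluation of polynomials over `ψ`. -/
noncomputable def pe (ψ : B →ₐ[R] C) (z : C) : B[X] →ₐ[R] C :=
  { Polynomial.eval₂RingHom (ψ : B →+* C) z with
    commutes' := fun r => by
      change Polynomial.eval₂ (ψ : B →+* C) z (algebraMap R B[X] r) = _
      rw [Polynomial.algebraMap_apply, Polynomial.eval₂_C]
      exact ψ.commutes r }

lemma pe_C (ψ : B →ₐ[R] C) (z : C) (x : B) : pe ψ z (Polynomial.C x) = ψ x :=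
  Polynomial.eval₂_C _ _

lemma pe_X (ψ : B →ₐ[R] C) (z : C) : pe ψ z X = z := Polynomial.eval₂_X _ _

/-- constants -/
noncomputable def pc (R B : Type u) [CommRing R] [CommRing B] [Algebra R B] : B →ₐ[R] B[X] :=
  (Polynomial.CAlgHom (R := B) (A := B)).restrictScalars R

lemma pc_apply (x : B) : pc R B x = Polynomial.C x := rfl

lemma pe_comp_pc (ψ : B →ₐ[R] C) (z : C) : (pe ψ z).comp (pc R B) = ψ := by
  ext x
  change pe ψ z (Polynomial.C x) = _
  rw [pe_C]

lemma pe_monomial (ψ : B →ₐ[R] C) (z : C) (n : ℕ) (x : B) :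
    pe ψ z (monomial n x) = ψ x * z ^ n := by
  rw [← Polynomial.C_mul_X_pow_eq_monomial, map_mul, map_pow, pe_C, pe_X]

lemma pe_hom_ext {f g : B[X] →ₐ[R] C} (h : ∀ x, f (Polynomial.C x) = g (Polynomial.C x))
    (hX : f X = g X) : f = g := by
  refine AlgHom.ext fun p => ?_
  induction p using Polynomial.induction_on' with
  | add p q hp hq => rw [map_add, map_add, hp, hq]
  | monomial n x => rw [← Polynomial.C_mul_X_pow_eq_monomial, map_mul, map_mul, map_pow, map_pow, h, hX]

variable {G : Type} [CommGroup G]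

open Diag

lemma pe_const (z : B[X]) : pe ((cs R B[X] G).comp (pc R B)) (MonoidAlgebra.single 1 X) z =
    MonoidAlgebra.single 1 z := by
  have : pe ((cs R B[X] G).comp (pc R B)) (MonoidAlgebra.single 1 X) = cs R B[X] G := by
    apply pe_hom_ext
    · intro x
      rw [pe_C]
      rfl
    · rw [pe_X]
      rfl
  rw [this]
  rfl

lemma co_pe (h g : G) (F : B[X]) :
    co g (pe ((cs R B[X] G).comp (pc R B)) (MonoidAlgebra.single h X) F) =
      ∑ n ∈ F.support, co g (MonoidAlgebra.single (h ^ n) (monomial n (F.coeff n))) := by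
  conv_lhs => rw [F.as_sum_support]
  rw [map_sum, map_sum]
  refine Finset.sum_congr rfl fun n _ => ?_
  rw [pe_monomial]
  have : ((cs R B[X] G).comp (pc R B)) (F.coeff n) * (MonoidAlgebra.single h X) ^ n =
      MonoidAlgebra.single (h ^ n) (monomial n (F.coeff n)) := by
    rw [MonoidAlgebra.single_pow]
    change MonoidAlgebra.single 1 (Polynomial.C (F.coeff n)) * MonoidAlgebra.single (h ^ n) (X ^ n) = _
    rw [MonoidAlgebra.single_mul_single, one_mul, Polynomial.C_mul_X_pow_eq_monomial]
  rw [this]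

end pol

namespace RCell

open InfAut Diag

variable (D : RCell P b R A B₀)
variable {B C : Type u} [CommRing B] [Algebra R B] [CommRing C] [Algebra R C] (φ : B₀ →ₐ[R] B)

lemma exists_coords_root (x : InfAut R A B) (a : idx) : ∃ (W : idx → B[X]) (K : M →+ B[X]),
    ∀ {B' : Type u} [CommRing B'] [Algebra R B'] (ψ : B →ₐ[R] B') (z : B'),
      x.coc ψ (D.uu a (ψ.comp φ) z) = D.lie (ψ.comp φ) (fun c => pe ψ z (W c))
        ((pe ψ z : B[X] →+ B').comp K) := by
  obtain ⟨W, K, hv⟩ := D.exists_lie ((pc R B).comp φ)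
    (x.coc (pc R B) (D.uu a ((pc R B).comp φ) X)) (isKer_coc _ _ _)
  refine ⟨W, K, ?_⟩
  intro B' _ _ ψ z
  have h1 := congrArg (Pt.map (eMap (pe ψ z))) hv
  rw [coc_nat, D.lie_nat, D.uu_nat, ← AlgHom.comp_assoc, pe_comp_pc, pe_X] at h1
  exact h1

variable {D φ} in
/-- equivariance of the cocycle under the torus -/
lemma coc_conj_i {x : InfAut R A B}
    (hx : ∀ {B' : Type u} [CommRing B'] [Algebra R B'] (ψ : B →ₐ[R] B') (t : TPt M B'),
      x.coc ψ (D.i (ψ.comp φ) t) = 1)
    {B' : Type u} [CommRing B'] [Algebra R B'] (ψ : B →ₐ[R] B') (t : TPt M B') (g : Pt R A B') :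
    x.coc ψ (D.i (ψ.comp φ) t * g * (D.i (ψ.comp φ) t)⁻¹) =
      Pt.map (eInl R B') (D.i (ψ.comp φ) t) * x.coc ψ g *
        (Pt.map (eInl R B') (D.i (ψ.comp φ) t))⁻¹ := by
  have h1 : x.app ψ (D.i (ψ.comp φ) t) = Pt.map (eInl R B') (D.i (ψ.comp φ) t) := by
    rw [app_eq_coc_mul, hx, one_mul]
  rw [coc, coc, map_mul, map_mul, map_inv, h1, Pt.map_mul, Pt.map_mul, Pt.map_inv]
  group

/-- **the restriction to a root group** -/
theorem exists_root_part (x : InfAut R A B)
    (hx : ∀ {B' : Type u} [CommRing B'] [Algebra R B'] (ψ : B →ₐ[R] B') (t : TPt M B'),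
      x.coc ψ (D.i (ψ.comp φ) t) = 1) (a : idx) :
    ∃ c : B, ∀ {B' : Type u} [CommRing B'] [Algebra R B'] (ψ : B →ₐ[R] B') (z : B'),
      x.coc ψ (D.uu a (ψ.comp φ) z) = D.uk (ψ.comp φ) a (ψ c * z) := by
  classical
  obtain ⟨W, K, hgen⟩ := D.exists_coords_root φ x a
  have hequi : ∀ {B' : Type u} [CommRing B'] [Algebra R B'] (ψ : B →ₐ[R] B') (t : TPt M B') (z : B'),
      (∀ c, pe ψ (TPt.ch (P.root a) t * z) (W c) = TPt.ch (P.root c) t * pe ψ z (W c)) ∧
      ∀ m, pe ψ (TPt.ch (P.root a) t * z) (K m) = pe ψ z (K m) := by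
    intro B' _ _ ψ t z
    have h1 := coc_conj_i hx ψ t (D.uu a (ψ.comp φ) z)
    rw [D.rel, hgen, hgen, D.conj_lie] at h1
    obtain ⟨h2, h3⟩ := D.lie_inj _ h1
    exact ⟨fun c => congrFun h2 c, fun m => DFunLike.congr_fun h3 m⟩
  let G := Multiplicative M
  obtain ⟨h1, h2⟩ := hequi (B' := MonoidAlgebra B[X] (Multiplicative M))
    ((cs R B[X] (Multiplicative M)).comp (pc R B))
    (MonoidAlgebra.of B[X] (Multiplicative M)).toHomUnits (MonoidAlgebra.single 1 X)
  have hch : ∀ m : M, TPt.ch m (MonoidAlgebra.of B[X] (Multiplicative M)).toHomUnits =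
      (MonoidAlgebra.single (Multiplicative.ofAdd m) 1 : MonoidAlgebra B[X] (Multiplicative M)) :=
    fun m => rfl
  rw [hch] at h1 h2
  rw [MonoidAlgebra.single_mul_single, mul_one, one_mul] at h1 h2
  simp only [hch, pe_const] at h1 h2
  have htf : ∀ n : ℕ, (Multiplicative.ofAdd (P.root a)) ^ n = 1 → n = 0 := by
    intro n hn
    rw [← ofAdd_nsmul] at hn
    have hn' : n • P.root a = 0 := Multiplicative.ofAdd.injective hn
    have : IsAddTorsionFree M := .of_isTorsionFree ℤ M
    by_contra h0
    exact P.ne_zero a ((nsmul_eq_zero_iff_right h0).mp hn')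
  have hW : ∀ c, c ≠ a → W c = 0 := by
    intro c hc
    have h3 := congrArg (co (Multiplicative.ofAdd (P.root c))) (h1 c)
    rw [co_pe, MonoidAlgebra.single_mul_single, mul_one, one_mul, co_single, if_pos rfl] at h3
    rw [← h3]
    refine Finset.sum_eq_zero fun n _ => ?_
    rw [co_single, if_neg]
    intro hn
    rw [← ofAdd_nsmul] at hn
    have hn' : n • P.root a = P.root c := Multiplicative.ofAdd.injective hn
    have hn1 : n = 1 := PinComb.eq_one_of_root_eq_nsmul b (i := a) (j := c) (by
      rw [← hn', natCast_zsmul])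
    rw [hn1, one_smul] at hn'
    exact hc (P.root.injective hn').symm
  have hWa : W a = monomial 1 ((W a).coeff 1) := by
    have h3 := congrArg (co (Multiplicative.ofAdd (P.root a))) (h1 a)
    rw [co_pe, MonoidAlgebra.single_mul_single, mul_one, one_mul, co_single, if_pos rfl] at h3
    have h4 : (∑ n ∈ (W a).support, co (Multiplicative.ofAdd (P.root a))
        (MonoidAlgebra.single ((Multiplicative.ofAdd (P.root a)) ^ n) (monomial n ((W a).coeff n)))) =
        monomial 1 ((W a).coeff 1) := by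
      rw [Finset.sum_eq_single 1]
      · rw [co_single, if_pos (pow_one _)]
      · intro n _ hn
        rw [co_single, if_neg]
        intro hn'
        rw [← ofAdd_nsmul] at hn'
        have hn2 : n • P.root a = P.root a := Multiplicative.ofAdd.injective hn'
        exact hn (PinComb.eq_one_of_root_eq_nsmul b (i := a) (j := a) (by
          conv_lhs => rw [← hn2]
          rw [natCast_zsmul]))
      · intro hn
        rw [Polynomial.notMem_support_iff.mp hn]
        simp
    rw [h4] at h3
    exact h3.symm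
  have hK : ∀ m, K m = 0 := by
    intro m
    have h3 := congrArg (co (1 : Multiplicative M)) (h2 m)
    rw [co_pe, co_single, if_pos rfl] at h3
    have h4 : (∑ n ∈ (K m).support, co (1 : Multiplicative M)
        (MonoidAlgebra.single ((Multiplicative.ofAdd (P.root a)) ^ n) (monomial n ((K m).coeff n)))) =
        monomial 0 ((K m).coeff 0) := by
      rw [Finset.sum_eq_single 0]
      · rw [co_single, if_pos (pow_zero _)]
      · intro n _ hn
        rw [co_single, if_neg]
        exact fun h => hn (htf n h)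
      · intro hn
        rw [Polynomial.notMem_support_iff.mp hn]
        simp
    rw [h4] at h3
    have h5 := hgen (AlgHom.id R B) 0
    have h6 : x.coc (AlgHom.id R B) (D.uu a ((AlgHom.id R B).comp φ) 0) = 1 := by
      rw [D.uu_zero', coc, map_one, Pt.map_one, mul_inv_cancel]
    rw [h6, ← D.lie_zero ((AlgHom.id R B).comp φ)] at h5
    have h7 := DFunLike.congr_fun (D.lie_inj _ h5).2 m
    have h8 : (K m).coeff 0 = 0 := by
      have h9 : pe (AlgHom.id R B) 0 (K m) = 0 := h7.symm
      rw [← h3, pe_monomial, pow_zero, mul_one] at h9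
      exact h9
    rw [← h3, h8, monomial_zero_right]
  refine ⟨(W a).coeff 1, ?_⟩
  intro B' _ _ ψ z
  rw [hgen]
  have e1 : (fun c => pe ψ z (W c)) = Pi.single a (ψ ((W a).coeff 1) * z) := by
    funext c
    by_cases hc : c = a
    · subst hc
      conv_lhs => rw [hWa]
      rw [pe_monomial, pow_one, Pi.single_eq_same]
    · rw [hW c hc, map_zero, Pi.single_eq_of_ne hc]
  have e2 : ((pe ψ z : B[X] →+ B').comp K) = 0 := by
    apply AddMonoidHom.ext
    intro m
    change pe ψ z (K m) = 0
    rw [hK, map_zero]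
  rw [e1, e2]
  unfold lie uk
  rw [lieT_zero, map_one, mul_one]
  have e3 : (fun c => (inr ((Pi.single a (ψ ((W a).coeff 1) * z) : idx → B') c) : Eps B')) =
      Pi.single a (inr (ψ ((W a).coeff 1) * z)) := by
    funext c
    by_cases hc : c = a
    · subst hc; simp
    · simp [Pi.single_eq_of_ne hc]
  rw [e3, prodU_single]

end RCell

end Groth.Agent.Sga3B.MT
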