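import Groth.Agent.Sga3B.MT.StructC

/-!
# The structure of `InfAut` for a split group, part D: conclusion
-/

set_option autoImplicit false
set_option linter.unusedSectionVars false
universe u

open TensorProduct TrivSqZeroExt
open Groth.Agent.Sga3B.Cell

namespace Groth.Agent.Sga3B.MT

variable {idx M : Type} [Fintype idx] [AddCommGroup M] [Module.Free ℤ M] [Module.Finite ℤ M]
variable {P : RootPairing idx ℤ M (Module.Dual ℤ M)} {b : P.Base}
    {R A B₀ : Type u} [CommRing R] [CommRing A] [Algebra R A] [CommRing B₀] [Algebra R B₀]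
    [PtGrp R A]

namespace RCell

open InfAut Diag

variable (D : RCell P b R A B₀)
variable {B C : Type u} [CommRing B] [Algebra R B] [CommRing C] [Algebra R C] (φ : B₀ →ₐ[R] B)

/-- `x` is trivial on the torus and multiplies the root group of `a` by `1 + ε c_a`. -/
def IsDiag' (c : idx → B) (x : InfAut R A B) : Prop :=
  (∀ {B' : Type u} [CommRing B'] [Algebra R B'] (ψ : B →ₐ[R] B') (t : TPt M B'),
    x.coc ψ (D.i (ψ.comp φ) t) = 1) ∧
  ∀ (a : idx) {B' : Type u} [CommRing B'] [Algebra R B'] (ψ : B →ₐ[R] B') (z : B'),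
    x.coc ψ (D.uu a (ψ.comp φ) z) = D.uk (ψ.comp φ) a (ψ (c a) * z)

variable {D φ}

lemma uk_add (a : idx) (z z' : B) : D.uk φ a (z + z') = D.uk φ a z * D.uk φ a z' := by
  unfold uk
  rw [inr_add, D.uu_add]

lemma uk_inj {a : idx} {z z' : B} (h : D.uk φ a z = D.uk φ a z') : z = z' := by
  have := D.uu_inj _ a h
  simpa using congrArg snd this

lemma IsDiag.isDiag' {c : P.rootSpan ℤ →+ B} {y : InfAut R A B} (hy : D.IsDiag φ c y) :
    D.IsDiag' φ (fun a => c (P.rootSpanMem ℤ a)) y := by
  refine ⟨fun {B'} _ _ ψ t => ?_, fun a {B'} _ _ ψ z => ?_⟩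
  · rw [coc, hy.1, mul_inv_cancel]
  · rw [coc, hy.app_uu, mul_inv_cancel_right]

lemma IsDiag'.sub {c c' : idx → B} {x y : InfAut R A B} (hx : D.IsDiag' φ c x)
    (hy : D.IsDiag' φ c' y) : D.IsDiag' φ (fun a => c a - c' a) (x - y) := by
  refine ⟨fun {B'} _ _ ψ t => ?_, fun a {B'} _ _ ψ z => ?_⟩
  · rw [coc_sub, hx.1, hy.1, inv_one, mul_one]
  · rw [coc_sub, hx.2, hy.2, ← uk_neg, ← uk_add, map_sub]
    congr 1
    ring

lemma IsDiag'.add {c c' : idx → B} {x y : InfAut R A B} (hx : D.IsDiag' φ c x)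
    (hy : D.IsDiag' φ c' y) : D.IsDiag' φ (fun a => c a + c' a) (x + y) := by
  refine ⟨fun {B'} _ _ ψ t => ?_, fun a {B'} _ _ ψ z => ?_⟩
  · rw [coc_add, hx.1, hy.1, mul_one]
  · rw [coc_add, hx.2, hy.2, ← uk_add, map_add]
    congr 1
    ring

lemma IsDiag'.app_i {c : idx → B} {x : InfAut R A B} (hx : D.IsDiag' φ c x)
    (ψ : B →ₐ[R] C) (t : TPt M C) :
    x.app ψ (D.i (ψ.comp φ) t) = D.i ((eInl R C).comp (ψ.comp φ)) (TPt.map (eInl R C) t) := by
  rw [app_eq_coc_mul, hx.1, one_mul, D.i_nat]

lemma IsDiag'.app_uu {c : idx → B} {x : InfAut R A B} (hx : D.IsDiag' φ c x)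
    (ψ : B →ₐ[R] C) (a : idx) (z : C) :
    x.app ψ (D.uu a (ψ.comp φ) z) =
      D.uu a ((eInl R C).comp (ψ.comp φ)) (inl z + inr (ψ (c a) * z)) := by
  rw [app_eq_coc_mul, hx.2, inl_uu, uk, ← D.uu_add, add_comm]

lemma IsDiag'.isDiag {c : P.rootSpan ℤ →+ B} {y : InfAut R A B}
    (hy : D.IsDiag' φ (fun a => c (P.rootSpanMem ℤ a)) y) : D.IsDiag φ c y := by
  refine ⟨fun {B'} _ _ ψ t => ?_, fun a {B'} _ _ ψ z => ?_⟩
  · rw [hy.app_i, D.i_nat]
  · exact hy.app_uu ψ a z

lemma isDiag'_zero : D.IsDiag' φ (fun _ => 0) (0 : InfAut R A B) := by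
  refine ⟨fun {B'} _ _ ψ t => coc_zero _ _, fun a {B'} _ _ ψ z => ?_⟩
  rw [coc_zero, map_zero, zero_mul, uk, inr_zero, D.uu_zero']

lemma IsDiag'.ext [Algebra.Smooth R A] (hdom : GeomDom R A) {c : idx → B} {x y : InfAut R A B}
    (hx : D.IsDiag' φ c x) (hy : D.IsDiag' φ c y) : x = y := by
  apply D.ext_infAut hdom φ
  · intro B' _ _ ψ t
    rw [hx.app_i, hy.app_i]
  · intro a B' _ _ ψ z
    rw [hx.app_uu, hy.app_uu]

/-- product over a duplicate free list of a function supported at one place -/
lemma list_prod_single {l : List idx} (hl : l.Nodup) (a : idx) (ha : a ∈ l) (x : idx → B)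
    (hx : ∀ c ∈ l, c ≠ a → x c = 0) :
    (l.map (fun c => D.uu c φ (x c))).prod = D.uu a φ (x a) := by
  induction l with
  | nil => simp at ha
  | cons c l ih =>
    rw [List.nodup_cons] at hl
    rw [List.map_cons, List.prod_cons]
    by_cases hca : c = a
    · subst hca
      have : (l.map (fun c => D.uu c φ (x c))).prod = 1 := by
        apply List.prod_eq_one
        intro y hy
        obtain ⟨d, hd, rfl⟩ := List.mem_map.mp hy
        rw [hx d (List.mem_cons_of_mem _ hd) (fun h => hl.1 (h ▸ hd)), D.uu_zero']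
      rw [this, mul_one]
    · rw [hx c List.mem_cons_self hca, D.uu_zero', one_mul]
      have ha' : a ∈ l := by
        rcases List.mem_cons.mp ha with h | h
        · exact absurd h.symm hca
        · exact h
      exact ih hl.2 ha' (fun d hd => hx d (List.mem_cons_of_mem _ hd))

/-- uniqueness in the rank one cell -/
lemma rank_one_inj {a : idx} (ha : a ∈ b.support) {y y' x x' : B} {t t' : TPt M B}
    (h : D.uu (P.reflectionPerm a a) φ y * D.i φ t * D.uu a φ x =
      D.uu (P.reflectionPerm a a) φ y' * D.i φ t' * D.uu a φ x') : y = y' := by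
  classical
  have hpos : b.IsPos a := RootPairing.Base.isPos_of_mem_support ha
  have hneg : ¬ b.IsPos (P.reflectionPerm a a) := by
    have h0 : b.height (P.reflectionPerm a a) = - b.height a := by
      let := P.indexNeg
      exact b.height_reflectionPerm_self a
    rw [RootPairing.Base.isPos_iff] at hpos ⊢
    rw [h0]
    lia
  have hne : P.reflectionPerm a a ≠ a := by
    intro h
    rw [h] at hneg
    exact hneg hpos
  have key : ∀ (y x : B) (t : TPt M B), D.uu (P.reflectionPerm a a) φ y * D.i φ t * D.uu a φ x =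
      D.prodU φ (fun c => if c = P.reflectionPerm a a then y else
        if c = a then TPt.ch (P.root a) t * x else 0) * D.i φ t := by
    intro y x t
    unfold prodU allList
    rw [List.map_append, List.prod_append,
      list_prod_single (negList_nodup b) (P.reflectionPerm a a) ((mem_negList b).mpr hneg),
      list_prod_single (posList_nodup b) a ((mem_posList b).mpr hpos)]
    · rw [if_pos rfl, if_neg hne.symm, if_pos rfl, ← D.rel]
      group
    · intro c hc hca
      have : c ≠ P.reflectionPerm a a := fun h => hneg (h ▸ (mem_posList b).mp hc)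
      rw [if_neg this, if_neg hca]
    · intro c hc hca
      have : c ≠ a := fun h => (mem_negList b).mp hc (h ▸ hpos)
      rw [if_neg hca, if_neg this]
  rw [key, key] at h
  have h2 := congrFun (D.prodU_inj φ h).1 (P.reflectionPerm a a)
  simpa using h2

/-- the coefficients at opposite simple roots are opposite -/
theorem IsDiag'.neg {c : idx → B} {x : InfAut R A B} (hx : D.IsDiag' φ c x) {a : idx}
    (ha : a ∈ b.support) : c a + c (P.reflectionPerm a a) = 0 := by
  let E := Eps B
  let ψ : B →ₐ[R] E := eInl R B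
  let η : E := inr 1
  have hη : η * η = 0 := inr_mul_inr _ _ _
  have hv : IsUnit (1 + η * 1) := by
    rw [TrivSqZeroExt.isUnit_iff_isUnit_fst]
    have : (1 + η * 1 : E).fst = 1 := by
      rw [mul_one, fst_add, fst_one, show (η : E).fst = 0 from fst_inr B (1 : B), add_zero]
    rw [this]
    exact isUnit_one
  obtain ⟨v, hv⟩ := hv
  have h1 := congrArg (x.app ψ) (D.rank1 a ha (ψ.comp φ) η 1 v hv)
  rw [map_mul, map_mul, map_mul, hx.app_uu, hx.app_uu, hx.app_uu, hx.app_uu, hx.app_i] at h1
  -- units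
  set lam : Eps E := inl 1 + inr (ψ (c a)) with hlam
  set mu : Eps E := inl 1 + inr (ψ (c (P.reflectionPerm a a))) with hmu
  have em : ∀ (z : E) (d : E), (inl z + inr (d * z) : Eps E) = (inl 1 + inr d) * inl z := by
    intro z d
    ext <;> simp [mul_comm]
  rw [em, em, em, em, inl_one] at h1
  have hv' : IsUnit (1 + (lam * inl η) * (mu * inl 1) : Eps E) := by
    rw [TrivSqZeroExt.isUnit_iff_isUnit_fst]
    have : (1 + (lam * inl η) * (mu * inl 1) : Eps E).fst = v := by
      rw [hv]; simp [hlam, hmu]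
    rw [this]
    exact v.isUnit
  obtain ⟨w, hw⟩ := hv'
  have h2 := D.rank1 a ha ((eInl R E).comp (ψ.comp φ)) (lam * inl η) (mu * inl 1) w hw
  rw [inl_one] at h2
  have h3 : (lam = (1 + inr (ψ (c a)) : Eps E)) := by rw [hlam, inl_one]
  have h4 : (mu = (1 + inr (ψ (c (P.reflectionPerm a a))) : Eps E)) := by rw [hmu, inl_one]
  rw [h3, h4] at h2
  rw [h2] at h1
  have h5 := rank_one_inj ha h1
  rw [← h4] at h5
  -- compare
  have hmuu : IsUnit mu := by
    rw [TrivSqZeroExt.isUnit_iff_isUnit_fst]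
    simp [hmu]
  have h6 : ((w⁻¹ : (Eps E)ˣ) : Eps E) = inl ((v⁻¹ : Eˣ) : E) := by
    apply hmuu.mul_left_cancel
    rw [mul_comm mu]
    simpa using h5
  have h7 : (w : Eps E) = inl (v : E) := by
    have h8 : (w : Eps E) * inl ((v⁻¹ : Eˣ) : E) = 1 := by rw [← h6]; exact w.mul_inv
    calc (w : Eps E) = (w : Eps E) * (inl ((v⁻¹ : Eˣ) : E) * inl (v : E)) := by
          rw [← inl_mul, v.inv_mul, inl_one, mul_one]
      _ = inl (v : E) := by rw [← mul_assoc, h8, one_mul]
  rw [hw, hv] at h7
  have h9 := congrArg snd h7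
  have h10 : (ψ (c a) + ψ (c (P.reflectionPerm a a))) * η = 0 := by
    have e1 : (1 + (lam * inl η) * (mu * inl 1) : Eps E).snd =
        (ψ (c a) + ψ (c (P.reflectionPerm a a))) * η := by
      simp [hlam, hmu]
      ring
    rw [← e1, h9]
    simp
  have h11 := congrArg snd h10
  have e2 : ((ψ (c a) + ψ (c (P.reflectionPerm a a))) * η : E).snd =
      c a + c (P.reflectionPerm a a) := by
    change (((inl (c a) : Eps B) + inl (c (P.reflectionPerm a a))) * inr 1 : Eps B).snd = _
    rw [← inl_add, inl_mul_inr, snd_inr, smul_eq_mul, mul_one]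
  rw [e2] at h11
  simpa using h11

/-- the coefficients are invariant under a simple reflection whose coefficient vanishes. -/
theorem IsDiag'.reflection {c : idx → B} {x : InfAut R A B} (hx : D.IsDiag' φ c x) {a : idx}
    (ha : a ∈ b.support) (hca : c a = 0) (d : idx) : c (P.reflectionPerm a d) = c d := by
  have hca' : c (P.reflectionPerm a a) = 0 := by
    have := hx.neg ha
    rwa [hca, zero_add] at this
  obtain ⟨r, hr⟩ := D.conj a ha d
  let ψ : B →ₐ[R] B := AlgHom.id R B
  have hn : x.app ψ (D.uu a (ψ.comp φ) 1 * D.uu (P.reflectionPerm a a) (ψ.comp φ) (-1) *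
      D.uu a (ψ.comp φ) 1) = D.uu a ((eInl R B).comp (ψ.comp φ)) 1 *
        D.uu (P.reflectionPerm a a) ((eInl R B).comp (ψ.comp φ)) (-1) *
          D.uu a ((eInl R B).comp (ψ.comp φ)) 1 := by
    rw [map_mul, map_mul, hx.app_uu, hx.app_uu, hca, hca']
    simp
  have h1 := congrArg (x.app ψ) (hr (ψ.comp φ) 1)
  rw [map_mul, map_mul, map_inv, hn, hx.app_uu, hx.app_uu, hr] at h1
  have h2 := D.uu_inj _ _ h1
  have h3 := congrArg snd h2
  have hru : IsUnit (φ (r : B₀)) := (r.isUnit).map φ
  have h4 : φ (r : B₀) * c d = φ (r : B₀) * c (P.reflectionPerm a d) := by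
    simpa [ψ, mul_comm] using h3
  exact (hru.mul_left_cancel h4).symm

/-- an infinitesimal automorphism which is trivial on the torus and the simple root groups is
trivial. -/
theorem IsDiag'.eq_zero_of_simple {c : idx → B} {x : InfAut R A B} (hx : D.IsDiag' φ c x)
    (hc : ∀ a ∈ b.support, c a = 0) (d : idx) : c d = 0 := by
  obtain ⟨l, a, ha, hl, rfl⟩ := PinComb.exists_word (b := b) d
  induction l with
  | nil => exact hc a ha
  | cons e l ih =>
    rw [List.foldr_cons, hx.reflection (hl e List.mem_cons_self) (hc e (hl e List.mem_cons_self))]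
    exact ih (fun c hc => hl c (List.mem_cons_of_mem _ hc))

variable (D φ)

/-- **Structure theorem**: every infinitesimal automorphism is the sum of a diagonal one and an inner
one. -/
theorem exists_eq_add [Algebra.Smooth R A] (hdom : GeomDom R A) (x : InfAut R A B) :
    ∃ (z : idx → B) (c : P.rootSpan ℤ →+ B) (y : InfAut R A B), D.IsDiag φ c y ∧
      x = y + ad (D.lie φ z 0) (D.isKer_lie φ z 0) := by
  classical
  obtain ⟨z, hz⟩ := D.exists_torus_part φ x
  set x₁ := x - ad (D.lie φ (-z) 0) (D.isKer_lie φ _ 0) with hx₁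
  have h1 : ∀ {B' : Type u} [CommRing B'] [Algebra R B'] (ψ : B →ₐ[R] B') (t : TPt M B'),
      x₁.coc ψ (D.i (ψ.comp φ) t) = 1 := by
    intro B' _ _ ψ t
    rw [hx₁, coc_sub, hz, coc_ad, D.lie_nat, D.lie_inv, D.conj_lie, ← D.lie_add, D.lie_inv,
      ← D.lie_add]
    have e1 : ((fun a => ψ (z a) * (TPt.ch (P.root a) t - 1)) +
        -((fun a => ψ ((-z) a)) + fun a => TPt.ch (P.root a) t * (-(fun a => ψ ((-z) a))) a)) =
        (0 : idx → B') := by
      funext a
      simp only [Pi.add_apply, Pi.neg_apply, Pi.zero_apply, map_neg, neg_neg]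
      ring
    have e2 : ((0 : M →+ B') + -((((ψ : B →+ B').comp (0 : M →+ B)) +
        -((ψ : B →+ B').comp (0 : M →+ B))))) = 0 := by
      apply AddMonoidHom.ext
      intro m
      simp
    rw [e1, e2, D.lie_zero]
  choose c hc using fun a => D.exists_root_part φ x₁ h1 a
  have hx₁' : D.IsDiag' φ c x₁ := ⟨h1, fun a {B'} _ _ ψ z => hc a ψ z⟩
  -- the linear form
  let f : P.rootSpan ℤ →ₗ[ℤ] B := b.toWeightBasisInt.constr ℤ (fun a : b.support => c a)
  have hf : ∀ a ∈ b.support, f (P.rootSpanMem ℤ a) = c a := by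
    intro a ha
    have h2 : b.toWeightBasisInt ⟨a, ha⟩ = P.rootSpanMem ℤ a := by
      apply Subtype.ext
      simp
    rw [← h2]
    exact Module.Basis.constr_basis _ _ _ _
  obtain ⟨y, hy⟩ := D.exists_diag hdom φ f.toAddMonoidHom
  have h3 : x₁ = y := by
    have h4 := hx₁'.sub hy.isDiag'
    have h5 := h4.eq_zero_of_simple (fun a ha => by
      rw [sub_eq_zero]; exact (hf a ha).symm)
    have h6 : D.IsDiag' φ (fun _ => 0) (x₁ - y) := by
      have : (fun a => c a - f.toAddMonoidHom (P.rootSpanMem ℤ a)) = fun _ => 0 := funext h5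
      rw [← this]
      exact h4
    exact sub_eq_zero.mp (h6.ext hdom isDiag'_zero)
  refine ⟨-z, f.toAddMonoidHom, y, hy, ?_⟩
  rw [← h3, hx₁, sub_add_cancel]

/-- uniqueness in the structure theorem -/
theorem eq_of_add_ad_eq {c c' : P.rootSpan ℤ →+ B} {y y' : InfAut R A B} {z z' : idx → B}
    (hy : D.IsDiag φ c y) (hy' : D.IsDiag φ c' y')
    (h : y + ad (D.lie φ z 0) (D.isKer_lie φ z 0) = y' + ad (D.lie φ z' 0) (D.isKer_lie φ z' 0)) :
    z = z' ∧ c = c' ∧ y = y' := by
  classical
  -- the value on the torus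
  let G := Multiplicative M
  have key : ∀ {c : P.rootSpan ℤ →+ B} {y : InfAut R A B} {z : idx → B}, D.IsDiag φ c y →
      (y + ad (D.lie φ z 0) (D.isKer_lie φ z 0)).coc (cs R B (Multiplicative M))
        (D.i ((cs R B (Multiplicative M)).comp φ) (tg B (MonoidHom.id (Multiplicative M)))) =
      D.lie ((cs R B (Multiplicative M)).comp φ) (fun a => MonoidAlgebra.single 1 (z a) *
        (1 - MonoidAlgebra.single (Multiplicative.ofAdd (P.root a)) 1)) 0 := by
    intro c y z hy
    rw [coc_add, hy.isDiag'.1, one_mul, coc_ad, D.lie_nat, D.lie_inv, D.conj_lie, ← D.lie_add]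
    have e1 : ((fun a => (cs R B (Multiplicative M)) (z a)) + fun a =>
        TPt.ch (P.root a) (tg B (MonoidHom.id (Multiplicative M))) *
          (-(fun a => (cs R B (Multiplicative M)) (z a))) a) =
        (fun a => MonoidAlgebra.single 1 (z a) *
          (1 - MonoidAlgebra.single (Multiplicative.ofAdd (P.root a)) 1)) := by
      funext a
      simp only [Pi.add_apply, Pi.neg_apply]
      rw [ch_tg, cs_apply]
      change MonoidAlgebra.single 1 (z a) + MonoidAlgebra.single (Multiplicative.ofAdd (P.root a)) 1 *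
        -MonoidAlgebra.single 1 (z a) = _
      ring
    have e2 : ((((cs R B (Multiplicative M) : B →+ MonoidAlgebra B (Multiplicative M)).comp
        (0 : M →+ B)) + -((cs R B (Multiplicative M) : B →+ MonoidAlgebra B (Multiplicative M)).comp
          (0 : M →+ B)))) = 0 := by
      apply AddMonoidHom.ext
      intro m
      simp
    rw [e1, e2]
  have h1 := congrArg (fun x : InfAut R A B => x.coc (cs R B (Multiplicative M))
        (D.i ((cs R B (Multiplicative M)).comp φ) (tg B (MonoidHom.id (Multiplicative M))))) h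
  rw [key hy, key hy'] at h1
  have h2 := (D.lie_inj _ h1).1
  have hz : z = z' := by
    funext a
    have h3 := congrArg (co (1 : Multiplicative M)) (congrFun h2 a)
    have hroot : (Multiplicative.ofAdd (P.root a) : Multiplicative M) ≠ 1 := by
      intro ha
      exact P.ne_zero a (Multiplicative.ofAdd.injective ha)
    have h4 : ∀ w : B, co (1 : Multiplicative M) (MonoidAlgebra.single 1 w *
        (1 - MonoidAlgebra.single (Multiplicative.ofAdd (P.root a)) 1)) = w := by
      intro w
      rw [co_single_one_mul, map_sub, co_single, if_neg hroot, sub_zero]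
      have : (1 : MonoidAlgebra B (Multiplicative M)) = MonoidAlgebra.single 1 1 := rfl
      rw [this, co_single, if_pos rfl, mul_one]
    rwa [h4, h4] at h3
  subst hz
  have h5 : y = y' := add_right_cancel h
  subst h5
  refine ⟨rfl, ?_, rfl⟩
  apply AddMonoidHom.ext
  intro q
  have h6 : ∀ a, c (P.rootSpanMem ℤ a) = c' (P.rootSpanMem ℤ a) := by
    intro a
    have h7 := hy.isDiag'.2 a (AlgHom.id R B) 1
    rw [hy'.isDiag'.2 a (AlgHom.id R B) 1] at h7
    have h8 := uk_inj h7
    simpa using h8.symm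
  have h7 : (c.toIntLinearMap : P.rootSpan ℤ →ₗ[ℤ] B) = c'.toIntLinearMap := by
    apply b.toWeightBasisInt.ext
    intro a
    have h2 : b.toWeightBasisInt a = P.rootSpanMem ℤ a := by
      apply Subtype.ext
      simp
    rw [h2]
    exact h6 a
  exact LinearMap.congr_fun h7 q

end RCell

end Groth.Agent.Sga3B.MT
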